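import Cfsg.Agent.Lib.JankoTwoType.Extraspecial
import Cfsg.Agent.Lib.Fusion87.SimpleGen
import Mathlib

/-!
The 2-fusion system of a group of Hall–Janko type is simple.
-/

set_option autoImplicit false
set_option linter.unusedSectionVars false
set_option linter.style.haveILetI false

namespace Cfsg.Agent.Lib.JankoTwoType

set_option maxRecDepth 4000 in
theorem even_fours : ∀ σ : Equiv.Perm (Fin 5), Equiv.Perm.sign σ = 1 → σ * σ = 1 → σ ≠ 1 →
    (Finset.univ.filter fun τ : Equiv.Perm (Fin 5) =>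
      Equiv.Perm.sign τ = 1 ∧ τ * σ = σ * τ).card = 4 := by decide +kernel

set_option maxRecDepth 4000 in
set_option synthInstance.maxSize 2000 in
theorem even_fours_transitive : ∀ σ τ : Equiv.Perm (Fin 5), Equiv.Perm.sign σ = 1 →
    σ * σ = 1 → σ ≠ 1 → Equiv.Perm.sign τ = 1 → τ * σ = σ * τ → τ = 1 ∨ τ = σ ∨
      ∃ ρ : Equiv.Perm (Fin 5), Equiv.Perm.sign ρ = 1 ∧ ρ * σ * ρ⁻¹ = τ ∧
        ∀ υ : Equiv.Perm (Fin 5), Equiv.Perm.sign υ = 1 → υ * σ = σ * υ →
          ρ * υ * ρ⁻¹ * σ = σ * (ρ * υ * ρ⁻¹) := by decide +kernel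

set_option maxRecDepth 4000 in
theorem even_two_involutions : ∀ σ : Equiv.Perm (Fin 5), Equiv.Perm.sign σ = 1 →
    ∃ a b : Equiv.Perm (Fin 5), Equiv.Perm.sign a = 1 ∧ a * a = 1 ∧ b * b = 1 ∧ a * b = σ := by
  decide +kernel

namespace Pre

open Cfsg Cfsg.FusionSystem Cfsg.Agent.Lib.Fusion

variable {G : Type*} [Group G] [Finite G]

/-- Transport along an isomorphism. -/
def mapEquiv {G' : Type*} [Group G'] (P : Pre G) (e : G ≃* G') : Pre G' where
  z := e P.z
  Q := P.Q.map e.toMonoidHom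
  hz := by rw [MulEquiv.orderOf_eq, P.hz]
  hzQ := ⟨_, P.hzQ, rfl⟩
  le := fun x hx => by
    obtain ⟨y, hy, rfl⟩ := hx
    exact (P.le y hy).map e.toMonoidHom
  norm := fun c hc x hx => by
    obtain ⟨y, hy, rfl⟩ := hx
    refine ⟨e.symm c * y * (e.symm c)⁻¹, P.norm _ ?_ y hy, by simp⟩
    simpa using hc.map e.symm.toMonoidHom
  card := by rw [Subgroup.card_map_of_injective e.injective, P.card]
  center := fun x hx h => by
    obtain ⟨y, hy, rfl⟩ := hx
    rcases P.center y hy (fun w hw => by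
      simpa using (h (e w) ⟨w, hw, rfl⟩).map e.symm.toMonoidHom) with rfl | rfl
    · exact Or.inl (map_one e)
    · exact Or.inr rfl
  sq := fun x hx => by
    obtain ⟨y, hy, rfl⟩ := hx
    rcases P.sq y hy with h | h
    · exact Or.inl (by simp [← map_mul, h])
    · exact Or.inr (by simp [← map_mul, h])
  comm := fun x hx y hy => by
    obtain ⟨a, ha, rfl⟩ := hx
    obtain ⟨b, hb, rfl⟩ := hy
    rcases P.comm a ha b hb with h | h
    · exact Or.inl (by simp [← map_mul, h])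
    · exact Or.inr (by simp [← map_mul, h])
  self := fun c hc h => by
    refine ⟨e.symm c, P.self _ (by simpa using hc.map e.symm.toMonoidHom) fun x hx => ?_, by simp⟩
    simpa using (h (e x) ⟨x, hx, rfl⟩).map e.symm.toMonoidHom
  u0 := e P.u0
  hu0 := ⟨_, P.hu0, rfl⟩
  hu0z := fun h => P.hu0z (e.injective h)
  hu0i := by rw [← map_mul, P.hu0i, map_one]
  hu01 := fun h => P.hu01 (e.map_eq_one_iff.mp h)
  f := e P.f
  hf := by rw [MulEquiv.orderOf_eq, P.hf]
  hfz := P.hfz.map e.toMonoidHom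

variable (P : Pre G)

theorem Q_le_Cz : P.Q ≤ P.Cz := fun x hx => P.mem_Cz.mpr (P.le x hx)

theorem mem_normalizer_Q {c : G} (hc : c ∈ P.Cz) : c ∈ Subgroup.normalizer (P.Q : Set G) := by
  refine Subgroup.mem_normalizer_iff.mpr fun y => ⟨P.norm c (P.mem_Cz.mp hc) y, fun hy => ?_⟩
  simpa [mul_assoc] using P.norm c⁻¹ (P.mem_Cz.mp (inv_mem hc)) _ hy

theorem pow_eight {c : G} (hc : c ∈ P.Cz) (h : P.perm ⟨c, hc⟩ * P.perm ⟨c, hc⟩ = 1) :
    c ^ 8 = 1 := by
  have hq : c * c ∈ P.Q := P.mem_Q_of_perm (mul_mem hc hc) (by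
    rw [show (⟨c * c, mul_mem hc hc⟩ : ↥P.Cz) = ⟨c, hc⟩ * ⟨c, hc⟩ from rfl, map_mul, h])
  rcases P.sq _ hq with e | e
  · rw [show c ^ 8 = (c * c * (c * c)) * (c * c * (c * c)) by simp [pow_succ, mul_assoc], e, one_mul]
  · rw [show c ^ 8 = (c * c * (c * c)) * (c * c * (c * c)) by simp [pow_succ, mul_assoc], e, P.zz]

theorem perm_mul_Q {c w : G} (hc : c ∈ P.Cz) (hw : w ∈ P.Cz)
    (h : P.perm ⟨c, hc⟩ = P.perm ⟨w, hw⟩) : c * w⁻¹ ∈ P.Q := by
  refine P.mem_Q_of_perm (mul_mem hc (inv_mem hw)) ?_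
  rw [show (⟨c * w⁻¹, mul_mem hc (inv_mem hw)⟩ : ↥P.Cz) = ⟨c, hc⟩ * ⟨w, hw⟩⁻¹ from rfl, map_mul,
    map_inv, h, mul_inv_cancel]

/-- The 2-fusion system on a Sylow 2-subgroup centralising `z` is simple. -/
theorem isSimple_groupFusion (hC : Nat.card P.Cz = 1920) (hu : IsConj P.z P.u0) (S : Sylow 2 G)
    (hS : (S : Subgroup G) ≤ P.Cz) :
    (groupFusionSystem (S : Subgroup G)).IsSimple 2 := by
  classical
  haveI : Fact (Nat.Prime 2) := ⟨Nat.prime_two⟩
  -- the image of `C(z)`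
  have hrange : P.perm.range = alternatingGroup (Fin 5) := by
    refine Equiv.Perm.eq_alternatingGroup_of_index_eq_two ?_
    have h1 := P.card_Cz
    rw [hC] at h1
    have h2 := P.perm.range.card_mul_index
    rw [show Nat.card P.perm.range = 60 by omega, Nat.card_perm, Nat.card_fin] at h2
    norm_num [Nat.factorial] at h2
    omega
  have hsign : ∀ c : ↥P.Cz, Equiv.Perm.sign (P.perm c) = 1 := fun c => by
    have : P.perm c ∈ P.perm.range := ⟨c, rfl⟩
    rwa [hrange, Equiv.Perm.mem_alternatingGroup] at this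
  have hlift : ∀ σ : Equiv.Perm (Fin 5), Equiv.Perm.sign σ = 1 →
      ∃ c, ∃ hc : c ∈ P.Cz, P.perm ⟨c, hc⟩ = σ := fun σ hσ => by
    have : σ ∈ P.perm.range := by rw [hrange]; exact Equiv.Perm.mem_alternatingGroup.mpr hσ
    obtain ⟨⟨c, hc⟩, e⟩ := this
    exact ⟨c, hc, e⟩
  -- `S` contains `Q`
  set SC : Sylow 2 ↥P.Cz := S.subtype hS with hSC
  have hQS : P.Q ≤ (S : Subgroup G) := by
    intro x hx
    haveI : (P.Q.subgroupOf P.Cz).Normal := P.ker_perm ▸ inferInstance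
    have hp : IsPGroup 2 ↥(P.Q.subgroupOf P.Cz) := IsPGroup.of_card (n := 5) (by
      rw [Nat.card_congr (Subgroup.subgroupOfEquivOfLe P.Q_le_Cz).toEquiv, P.card]; norm_num)
    obtain ⟨R, hR⟩ := hp.exists_le_sylow
    obtain ⟨g, hg⟩ := MulAction.exists_smul_eq ↥P.Cz R SC
    have : P.Q.subgroupOf P.Cz ≤ (SC : Subgroup ↥P.Cz) := by
      rw [← hg, Sylow.coe_subgroup_smul, ← Subgroup.Normal.map_conj_eq (P.Q.subgroupOf P.Cz) g]
      exact Subgroup.map_mono hR
    exact (Sylow.coe_subtype S hS ▸ this) (show (⟨x, P.Q_le_Cz hx⟩ : ↥P.Cz) ∈ _ from hx)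
  have hcardS : Nat.card ↥(S : Subgroup G) = 128 := by
    rw [← Nat.card_congr (Subgroup.subgroupOfEquivOfLe hS).toEquiv, ← Sylow.coe_subtype S hS,
      Sylow.card_eq_multiplicity, hC]
    rw [show (1920 : ℕ) = 2 ^ 7 * 15 from rfl, Nat.factorization_mul (by norm_num) (by norm_num),
      Finsupp.add_apply, Nat.Prime.factorization_pow Nat.prime_two,
      Nat.factorization_eq_zero_of_not_dvd (by norm_num : ¬ 2 ∣ 15)]
    simp
  -- the image of `S` is a fours group
  set f : ↥(S : Subgroup G) →* Equiv.Perm (Fin 5) := P.perm.comp (Subgroup.inclusion hS) with hf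
  have hker : Nat.card ↥f.ker = 32 := by
    rw [← P.card]
    refine Nat.card_congr
      { toFun := fun x => ⟨((x : ↥(S : Subgroup G)) : G), P.mem_Q_of_perm (hS (x : ↥(S : Subgroup G)).2) x.2⟩
        invFun := fun x => ⟨⟨x, hQS x.2⟩, P.perm_Q x.2⟩
        left_inv := fun x => rfl
        right_inv := fun x => rfl }
  have hrng : Nat.card ↥f.range = 4 := by
    have h := Subgroup.card_mul_index f.ker
    rw [Subgroup.index_ker, hker, hcardS] at h
    omega
  have hfcomm : ∀ x y : ↥(S : Subgroup G), f x * f y = f y * f x := fun x y => by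
    have h := IsPGroup.commutative_of_card_eq_prime_sq (p := 2)
      (show Nat.card ↥f.range = 2 ^ 2 by rw [hrng]; norm_num)
    exact congrArg Subtype.val (h ⟨f x, x, rfl⟩ ⟨f y, y, rfl⟩)
  -- the conjugates in `Q`
  have hzu : ∀ i : Fin 5, IsConj P.z (P.u i) := fun i => hu.trans (isConj_iff.mpr ⟨_, rfl⟩)
  have hcentric : (groupFusionSystem (S : Subgroup G)).IsCentric P.Q := by
    refine Fusion87.isCentric_groupFusion_of_centralizer_le hQS fun x hx => ?_
    exact P.self x (Subgroup.mem_centralizer_iff.mp hx _ P.hzQ).symm fun y hy =>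
      (Subgroup.mem_centralizer_iff.mp hx y hy).symm
  have hcen : ∀ y ∈ (S : Subgroup G), (∀ s ∈ (S : Subgroup G), Commute s y) → y = 1 ∨ y = P.z :=
    fun y hy h => by
      have hyz : Commute y P.z := P.mem_Cz.mp (hS hy)
      exact P.center y (P.self y hyz fun x hx => (h x (hQS hx)).symm) fun x hx => (h x (hQS hx)).symm
  refine isSimple_of_criterion S.2 (isSaturated_groupFusion S) ?_ ?_ ?_
  · intro h
    rw [h, Subgroup.card_bot] at hcardS
    norm_num at hcardS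
  · -- strongly closed subgroups
    intro T hT
    refine or_iff_not_imp_left.mpr fun hTne => le_antisymm hT.1 ?_
    have hcl : ∀ {g t : G}, t ∈ T → g * t * g⁻¹ ∈ (S : Subgroup G) → g * t * g⁻¹ ∈ T :=
      fun ht hg => Fusion.stronglyClosed_conj_mem hT ht hg
    have hzT : P.z ∈ T := by
      haveI : Group.IsNilpotent (S : Subgroup G) := S.2.isNilpotent
      haveI : (T.subgroupOf (S : Subgroup G)).Normal := ⟨fun t ht s =>
        stronglyClosed_conj hT s.2 ht⟩
      have hne : T.subgroupOf (S : Subgroup G) ≠ ⊥ := by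
        rw [Ne, Subgroup.subgroupOf_eq_bot, disjoint_iff, inf_eq_left.mpr hT.1]
        exact hTne
      have hI := Nilp.inf_center_ne_bot_of_normal hne
      obtain ⟨⟨y, hyT, hyc⟩, hy1⟩ := (Subgroup.ne_bot_iff_exists_ne_one).mp hI
      rcases hcen y y.2 (fun s hs => congrArg Subtype.val
          (Subgroup.mem_center_iff.mp hyc ⟨s, hs⟩)) with h | h
      · exact absurd (Subtype.ext (Subtype.ext h)) hy1
      · exact h ▸ hyT
    have huT : ∀ i : Fin 5, P.u i ∈ T := fun i => by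
      obtain ⟨g, hg⟩ := isConj_iff.mp (hzu i)
      rw [← hg]
      exact hcl hzT (by rw [hg]; exact hQS (P.uQ i))
    have hQT : P.Q ≤ T := by
      intro x hx
      obtain ⟨v, b, rfl⟩ := P.sig_structure.1 x hx
      refine mul_mem ?_ ?_
      · rw [Pre.word]
        refine mul_mem (mul_mem (mul_mem ?_ ?_) ?_) ?_ <;> split <;>
          first | exact huT _ | exact one_mem _
      · cases b
        · exact one_mem _
        · exact hzT
    -- an element of `T` outside `Q`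
    obtain ⟨w, hwS, hwQ, hwT⟩ : ∃ w ∈ (S : Subgroup G), w ∉ P.Q ∧ w ∈ T := by
      obtain ⟨g, hg⟩ := isConj_iff.mp hu
      have hmemQ : ∀ i j : Fin 5, i ≠ 0 → j ≠ 0 → P.u i * P.u j ∈ P.Q ∧
          Commute (P.u i * P.u j) P.u0 := by
        intro i j hi hj
        refine ⟨mul_mem (P.uQ i) (P.uQ j), ?_⟩
        have h : P.sig (P.u i * P.u j) 0 = false := by
          rw [P.sig_mul (P.uQ i) (P.uQ j), P.sig_u, P.sig_u]
          simp [hi, hj]
        rw [← P.u_zero, ← nc_false_iff]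
        exact h
      have hback : ∀ y : G, Commute y P.u0 → g⁻¹ * y * g ∈ P.Cz := fun y hy => by
        have h := (Commute.conj_iff g⁻¹).mpr hy
        rw [inv_inv, ← hg, show g⁻¹ * (g * P.z * g⁻¹) * g = P.z by group] at h
        exact P.mem_Cz.mpr h
      obtain ⟨y, hyQ, hyc, hy'⟩ : ∃ y ∈ P.Q, ∃ hy : Commute y P.u0, g⁻¹ * y * g ∉ P.Q := by
        by_contra h
        push Not at h
        obtain ⟨hx, hxc⟩ := hmemQ 1 2 (by decide) (by decide)
        obtain ⟨hy, hyc⟩ := hmemQ 1 3 (by decide) (by decide)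
        set x := P.u 1 * P.u 2
        set y := P.u 1 * P.u 3
        have hn : nc x y = true := by
          rw [show nc x y = xor (nc (P.u 1) y) (nc (P.u 2) y) from
              P.nc_mul (P.uQ 1) (P.uQ 2) hy,
            nc_comm (P.u 1) y, nc_comm (P.u 2) y, P.nc_mul (P.uQ 1) (P.uQ 3) (P.uQ 1),
            P.nc_mul (P.uQ 1) (P.uQ 3) (P.uQ 2)]
          have e : ∀ i j : Fin 5, nc (P.u i) (P.u j) = decide (i ≠ j) := fun i j =>
            congrFun (P.sig_u i) j
          rw [e, e, e, e]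
          decide
        have hxy := P.mul_eq_nc hx hy
        rw [hn, P.zb_true] at hxy
        rcases P.comm _ (h x hx hxc) _ (h y hy hyc) with e | e
        · refine P.z_ne ?_
          have e1 := congrArg (fun v => g * v * g⁻¹) e
          simp only [show g * (g⁻¹ * x * g * (g⁻¹ * y * g)) * g⁻¹ = x * y by group,
            show g * (g⁻¹ * y * g * (g⁻¹ * x * g)) * g⁻¹ = y * x by group] at e1
          exact mul_left_cancel (a := y * x) (by rw [← hxy, e1, mul_one])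
        · refine P.hu0z ?_
          have e1 := congrArg (fun v => g * v * g⁻¹) e
          simp only [show g * (g⁻¹ * x * g * (g⁻¹ * y * g)) * g⁻¹ = x * y by group,
            show g * (g⁻¹ * y * g * (g⁻¹ * x * g) * P.z) * g⁻¹ = y * x * (g * P.z * g⁻¹) by group,
            hg] at e1
          exact mul_left_cancel (a := y * x) (e1.symm.trans hxy)
      set y' : ↥P.Cz := ⟨g⁻¹ * y * g, hback y hyc⟩
      have hy'4 : y' ^ 2 ^ 2 = 1 := by
        refine Subtype.ext ?_
        show (g⁻¹ * y * g) ^ 4 = 1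
        rw [show (g⁻¹ * y * g) ^ 4 = g⁻¹ * (y * y * (y * y)) * g by simp [pow_succ, mul_assoc]]
        rcases P.sq y hyQ with e | e <;> simp [e, P.zz]
      obtain ⟨R, hR⟩ := (show IsPGroup 2 ↥(Subgroup.zpowers y') from IsPGroup.of_card (n :=
          ((Nat.dvd_prime_pow Nat.prime_two).mp (orderOf_dvd_of_pow_eq_one hy'4)).choose) (by
        rw [Nat.card_zpowers]
        exact ((Nat.dvd_prime_pow Nat.prime_two).mp
          (orderOf_dvd_of_pow_eq_one hy'4)).choose_spec.2)).exists_le_sylow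
      obtain ⟨c, hc⟩ := MulAction.exists_smul_eq ↥P.Cz R SC
      have hcy : c * y' * c⁻¹ ∈ (SC : Subgroup ↥P.Cz) := by
        rw [← hc, Sylow.coe_subgroup_smul]
        exact ⟨y', hR (Subgroup.mem_zpowers y'), rfl⟩
      rw [Sylow.coe_subtype, Subgroup.mem_subgroupOf] at hcy
      refine ⟨_, hcy, fun h => hy' ?_, ?_⟩
      · have := P.norm (c : G)⁻¹ (P.mem_Cz.mp (inv_mem c.2)) _ h
        simpa [mul_assoc, y'] using this
      · have e : ((c * y' * c⁻¹ : ↥P.Cz) : G) = ((c : G) * g⁻¹) * y * ((c : G) * g⁻¹)⁻¹ := by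
          show (c : G) * (g⁻¹ * y * g) * (c : G)⁻¹ = _
          group
        rw [e] at hcy ⊢
        exact hcl (hQT hyQ) hcy
    set σ := f ⟨w, hwS⟩ with hσ
    have hσ1 : σ ≠ 1 := fun h => hwQ (P.mem_Q_of_perm (hS hwS) h)
    have hσs : Equiv.Perm.sign σ = 1 := hsign _
    have hσ2 : σ * σ = 1 := by
      have h4 : σ ^ 4 = 1 := by
        have := pow_card_eq_one' (x := (⟨σ, ⟨w, hwS⟩, rfl⟩ : ↥f.range))
        rw [hrng] at this
        exact congrArg Subtype.val this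
      revert h4 hσs
      generalize σ = τ
      revert τ
      decide +kernel
    have hmem : ∀ τ : Equiv.Perm (Fin 5), Equiv.Perm.sign τ = 1 → τ * σ = σ * τ → τ ∈ f.range := by
      have hsub : (f.range : Set (Equiv.Perm (Fin 5))) ⊆
          ↑(Finset.univ.filter fun τ : Equiv.Perm (Fin 5) =>
            Equiv.Perm.sign τ = 1 ∧ τ * σ = σ * τ) := by
        rintro _ ⟨x, rfl⟩
        exact Finset.mem_filter.mpr ⟨Finset.mem_univ _, hsign _, hfcomm x ⟨w, hwS⟩⟩
      have heq := Set.eq_of_subset_of_ncard_le hsub (by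
        rw [Set.ncard_coe_finset, even_fours σ hσs hσ2 hσ1]
        exact hrng.ge)
      intro τ h1 h2
      exact (Set.ext_iff.mp heq τ).mpr (Finset.mem_filter.mpr ⟨Finset.mem_univ _, h1, h2⟩)
    intro s hs
    have hwC : w ∈ P.Cz := hS hwS
    have hprod : ∀ {a : G} (ha : a ∈ P.Cz) {b : G} (hb : b ∈ P.Cz), b ∈ T →
        P.perm ⟨a, ha⟩ = P.perm ⟨b, hb⟩ → a ∈ T := fun {a} ha {b} hb hbT h => by
      simpa using mul_mem (hQT (P.perm_mul_Q ha hb h)) hbT
    rcases even_fours_transitive σ (f ⟨s, hs⟩) hσs hσ2 hσ1 (hsign _) (hfcomm _ _) with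
      h | h | ⟨ρ, hρs, hρ, hρV⟩
    · exact hQT (P.mem_Q_of_perm (hS hs) h)
    · exact hprod (hS hs) hwC hwT h
    obtain ⟨d, hd, hdρ⟩ := hlift ρ hρs
    have hdS : d * w * d⁻¹ ∈ (S : Subgroup G) := by
      obtain ⟨⟨v, hv⟩, hvτ⟩ := hmem (ρ * σ * ρ⁻¹) (by simp [hρs, hσs])
        (hρV σ hσs rfl)
      have h1 : d * w * d⁻¹ ∈ P.Cz := mul_mem (mul_mem hd hwC) (inv_mem hd)
      have h2 := P.perm_mul_Q h1 (hS hv) (by
        rw [show (⟨d * w * d⁻¹, h1⟩ : ↥P.Cz) = ⟨d, hd⟩ * ⟨w, hwC⟩ * ⟨d, hd⟩⁻¹ from rfl, map_mul,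
          map_mul, map_inv, hdρ]
        exact hvτ.symm)
      simpa using mul_mem (hQS h2) hv
    refine hprod (hS hs) (hS hdS) (hcl hwT hdS) ?_
    rw [show (⟨d * w * d⁻¹, hS hdS⟩ : ↥P.Cz) = ⟨d, hd⟩ * ⟨w, hwC⟩ * ⟨d, hd⟩⁻¹ from rfl, map_mul,
      map_mul, map_inv, hdρ]
    exact hρ.symm
  · -- automorphisms of `S`
    intro α hα
    have hα' := hα
    rw [autGroup_groupFusion le_rfl] at hα
    obtain ⟨g, -, hg⟩ := mem_autInducedBy.1 hα
    have hgN := mem_normalizer_of_aut hg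
    have hgC : g ∈ P.Cz := by
      have hzS : P.z ∈ (S : Subgroup G) := hQS P.hzQ
      have hz' : g * P.z * g⁻¹ ∈ (S : Subgroup G) := (Subgroup.mem_normalizer_iff.mp hgN _).mp hzS
      rcases hcen _ hz' (fun s hs => by
        obtain ⟨s', rfl⟩ : ∃ s', g * s' * g⁻¹ = s := ⟨g⁻¹ * s * g, by group⟩
        exact (Commute.conj_iff g).mpr
          (P.mem_Cz.mp (hS ((Subgroup.mem_normalizer_iff.mp hgN s').mpr hs)))) with h | h
      · exact absurd (conj_eq_one_iff.mp h) P.z_ne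
      · exact P.mem_Cz.mpr (mul_inv_eq_iff_eq_mul.mp h)
    obtain ⟨a, b, has, ha2, hb2, hab⟩ := even_two_involutions _ (hsign ⟨g, hgC⟩)
    obtain ⟨A, hA, hAa⟩ := hlift a has
    have hB : A⁻¹ * g ∈ P.Cz := mul_mem (inv_mem hA) hgC
    have hBb : P.perm ⟨A⁻¹ * g, hB⟩ = b := by
      rw [show (⟨A⁻¹ * g, hB⟩ : ↥P.Cz) = ⟨A, hA⟩⁻¹ * ⟨g, hgC⟩ from rfl, map_mul, map_inv, hAa,
        ← hab, inv_mul_cancel_left]
    set ρQ := Subgroup.normalizerMonoidHom P.Q
    have hfac : ∀ (c : G) (hc : c ∈ P.Cz), c ^ 8 = 1 →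
        ρQ ⟨c, P.mem_normalizer_Q hc⟩ ∈ Subgroup.closure {β : MulAut ↥P.Q |
          β ∈ (groupFusionSystem (S : Subgroup G)).autGroup P.Q ∧ ∃ k : ℕ, orderOf β = 2 ^ k} := by
      intro c hc h8
      refine Subgroup.subset_closure ⟨?_, ?_⟩
      · rw [autGroup_groupFusion hQS]
        exact mem_autInducedBy.2 ⟨c, Subgroup.mem_top _, fun x => rfl⟩
      · refine ((Nat.dvd_prime_pow (m := 3) Nat.prime_two).1
          (orderOf_dvd_of_pow_eq_one ?_)).imp fun j hj => hj.2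
        rw [← map_pow, show (⟨c, P.mem_normalizer_Q hc⟩ : Subgroup.normalizer (P.Q : Set G)) ^ 2 ^ 3
          = 1 from Subtype.ext (by simpa using h8), map_one]
    refine Subgroup.subset_closure ⟨hα', P.Q, hcentric,
      ρQ ⟨A, P.mem_normalizer_Q hA⟩ * ρQ ⟨A⁻¹ * g, P.mem_normalizer_Q hB⟩,
      mul_mem (hfac A hA (P.pow_eight hA (by rw [hAa]; exact ha2)))
        (hfac _ hB (P.pow_eight hB (by rw [hBb]; exact hb2))), fun x => ?_⟩
    rw [hg]
    show g * (x : G) * g⁻¹ = A * ((A⁻¹ * g) * (x : G) * (A⁻¹ * g)⁻¹) * A⁻¹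
    group

/-- For every Sylow 2-subgroup, if `C(z)` contains one. -/
theorem isSimple_groupFusion' (hC : Nat.card P.Cz = 1920) (hu : IsConj P.z P.u0)
    (hG : ¬ 2 ∣ P.Cz.index)
    (S : Sylow 2 G) : (groupFusionSystem (S : Subgroup G)).IsSimple 2 := by
  haveI : Fact (Nat.Prime 2) := ⟨Nat.prime_two⟩
  -- a Sylow subgroup of `C(z)` is one of `G`
  obtain ⟨R⟩ := (inferInstance : Nonempty (Sylow 2 ↥P.Cz))
  obtain ⟨R', hR'⟩ := (R.isPGroup'.map P.Cz.subtype).exists_le_sylow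
  have heq : (R : Subgroup ↥P.Cz).map P.Cz.subtype = (R' : Subgroup G) := by
    refine Subgroup.eq_of_le_of_card_ge hR' (le_of_eq ?_)
    rw [Subgroup.card_map_of_injective P.Cz.subtype_injective, R.card_eq_multiplicity,
      R'.card_eq_multiplicity, ← P.Cz.card_mul_index, Nat.factorization_mul Nat.card_pos.ne'
        Subgroup.index_ne_zero_of_finite, Finsupp.add_apply,
      Nat.factorization_eq_zero_of_not_dvd hG, add_zero]
  obtain ⟨g, hg⟩ := MulAction.exists_smul_eq G R' S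
  refine (P.mapEquiv (MulAut.conj g)).isSimple_groupFusion ?_
    (MonoidHom.map_isConj (MulAut.conj g).toMonoidHom hu) S ?_
  · rw [← hC]
    refine (Nat.card_congr (Equiv.subtypeEquiv (MulAut.conj g).toEquiv fun x => ?_)).symm
    rw [P.mem_Cz, (P.mapEquiv _).mem_Cz]
    exact (Commute.conj_iff g).symm
  · rw [← hg]
    rintro _ ⟨x, hx, rfl⟩
    rw [(P.mapEquiv _).mem_Cz]
    rw [← heq] at hx
    obtain ⟨c, -, rfl⟩ := hx
    exact (Commute.conj_iff g).mpr (P.mem_Cz.mp c.2)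

end Pre

end Cfsg.Agent.Lib.JankoTwoType
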