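import Cfsg.Agent.Lib.CosetTable.Sound

/-!
Relators on six involutions `t, r, q, v, n, e` satisfied by every group of Hall–Janko type:
`t, r, q` generate a complement `A₅` in the centraliser of `e`, `v` is an involution of the
extraspecial subgroup centralised by `A₄`, and `e n` is an element of order 5 centralising `A₅`.
-/

set_option autoImplicit false

namespace Cfsg.Agent.Lib.JankoTwoType.Relations

/-- Relators of the complement. -/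
def relsA : List (List ℕ) :=
  [[0, 1, 0, 1, 0, 1], [0, 2, 0, 2, 0, 2, 0, 2, 0, 2], [1, 2, 1, 2, 1, 2],
   [0, 1, 2, 0, 1, 2, 0, 1, 2], [2, 1, 0, 2, 1, 0, 2, 1, 0],
   [0, 1, 2, 1, 0, 1, 2, 1, 0, 1, 2, 1, 0, 1, 2, 1, 0, 1, 2, 1],
   [0, 1, 0, 2, 0, 1, 0, 2, 0, 1, 0, 2, 0, 1, 0, 2, 0, 1, 0, 2]]

/-- Relators of the centraliser. -/
def relsC : List (List ℕ) :=
  [[3, 0, 3, 0], [3, 1, 2, 3, 2, 1], [5, 3, 5, 3], [5, 1, 5, 1], [5, 0, 5, 0], [5, 2, 5, 2],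
   [5, 3, 1, 3, 1, 3, 1, 3, 1],
   [1, 2, 0, 1, 3, 1, 0, 2, 1, 1, 2, 1, 2, 0, 1, 3, 1, 0, 2, 1, 2, 1, 0, 1, 3, 1, 0, 1, 3, 1, 3]]

/-- Relators of the further generator. -/
def relsN : List (List ℕ) :=
  [[4, 0, 4, 0], [4, 1, 4, 1], [4, 2, 4, 2], [5, 4, 5, 4, 5, 4, 5, 4, 5, 4],
   [5, 4, 3, 5, 4, 3, 5, 4, 3], [5, 4, 3, 5, 5, 4, 3, 5, 5, 4, 3, 5, 5, 4, 3, 5, 5, 4, 3, 5]]

/-- All relators. -/
def rels : List (List ℕ) := relsA ++ relsC ++ relsN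

end Cfsg.Agent.Lib.JankoTwoType.Relations
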