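import Cfsg.Agent.Lib.JankoTwoType.Complement
import Cfsg.Agent.Lib.JankoTwoType.Relations

/-!
Groups of Hall–Janko type: six generating involutions satisfying the relators.
-/

set_option autoImplicit false
set_option linter.unusedSectionVars false
set_option linter.style.haveILetI false

namespace Cfsg.Agent.Lib.JankoTwoType

set_option maxRecDepth 4000 in
set_option synthInstance.maxSize 2000 in
theorem std_stab : ∀ x : Equiv.Perm (Fin 5), Equiv.Perm.sign x = 1 → x 4 = 4 →
    x ∈ [1, sT.1, sH.1, sH.1 * sH.1, sT.1 * sH.1, sT.1 * sH.1 * sH.1, sH.1 * sT.1,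
      sH.1 * sH.1 * sT.1, sH.1 * sT.1 * sH.1 * sH.1, sH.1 * sH.1 * sT.1 * sH.1,
      sH.1 * sT.1 * sH.1, sH.1 * sH.1 * sT.1 * sH.1 * sH.1] := by decide +kernel

set_option maxRecDepth 4000 in
set_option synthInstance.maxSize 2000 in
theorem double_coset : ∀ y : Equiv.Perm (Fin 5), Equiv.Perm.sign y = 1 → y 4 ≠ 4 →
    ∃ a : Equiv.Perm (Fin 5), Equiv.Perm.sign a = 1 ∧ a 4 = 4 ∧
      (y⁻¹ * a * sR.1) 4 = 4 := by decide +kernel

theorem five_patterns : ∀ a b c d e : Fin 5, a ≠ b → a ≠ c → a ≠ d → a ≠ e → b ≠ c → b ≠ d →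
    b ≠ e → c ≠ d → c ≠ e → d ≠ e → ∀ j : Fin 5,
      xor (xor (xor (xor (decide (a ≠ j)) (decide (b ≠ j))) (decide (c ≠ j))) (decide (d ≠ j)))
        (decide (e ≠ j)) = false := by decide +kernel

set_option maxRecDepth 4000 in
theorem five_choice_b : ∀ b : Equiv.Perm (Fin 5), Equiv.Perm.sign b = 1 → b * b = 1 → b ≠ 1 →
    sT.1 ≠ b → sT.1 * b = b * sT.1 → b = s1 ∨ b = sT.1 * s1 := by decide +kernel

set_option maxRecDepth 4000 in
set_option synthInstance.maxSize 2000 in
theorem five_choice_c : ∀ c : Equiv.Perm (Fin 5), Equiv.Perm.sign c = 1 → c ^ 5 = 1 → c ≠ 1 →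
    sT.1 * c * sT.1 = c⁻¹ → ∀ b, (b = s1 ∨ b = sT.1 * s1) →
      ((c * b) ^ 3 = 1 ∧ (c * b * sT.1) ^ 5 = 1) ∨
        ((c * c * b) ^ 3 = 1 ∧ (c * c * b * sT.1) ^ 5 = 1) := by
  intro c
  have h : Equiv.Perm.sign c = 1 → c ^ 5 = 1 → c ≠ 1 → sT.1 * c * sT.1 = c⁻¹ →
      (((c * s1) ^ 3 = 1 ∧ (c * s1 * sT.1) ^ 5 = 1) ∨
        ((c * c * s1) ^ 3 = 1 ∧ (c * c * s1 * sT.1) ^ 5 = 1)) ∧
      (((c * (sT.1 * s1)) ^ 3 = 1 ∧ (c * (sT.1 * s1) * sT.1) ^ 5 = 1) ∨
        ((c * c * (sT.1 * s1)) ^ 3 = 1 ∧ (c * c * (sT.1 * s1) * sT.1) ^ 5 = 1)) := by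
    revert c
    decide +kernel
  intro h1 h2 h3 h4 b hb
  rcases hb with rfl | rfl
  · exact (h h1 h2 h3 h4).1
  · exact (h h1 h2 h3 h4).2

theorem five_choice (a b c : Equiv.Perm (Fin 5)) (has : Equiv.Perm.sign a = 1)
    (hbs : Equiv.Perm.sign b = 1) (hcs : Equiv.Perm.sign c = 1) (ha : a * a = 1) (hb : b * b = 1)
    (ha1 : a ≠ 1) (hb1 : b ≠ 1) (hab : a ≠ b) (hcom : a * b = b * a) (hc : c ^ 5 = 1) (hc1 : c ≠ 1)
    (hinv : a * c * a = c⁻¹) :
    ((c * b) ^ 3 = 1 ∧ (c * b * a) ^ 5 = 1) ∨ ((c * c * b) ^ 3 = 1 ∧ (c * c * b * a) ^ 5 = 1) := by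
  obtain ⟨ρ, -, hρ⟩ := exists_conj_s0 a ha ha1 has
  have hρ : MulAut.conj ρ a = sT.1 := hρ
  set φ := MulAut.conj ρ with hφ
  have hsign : ∀ x, Equiv.Perm.sign (φ x) = Equiv.Perm.sign x := fun x => by
    rw [hφ, MulAut.conj_apply, map_mul, map_mul, map_inv, mul_comm (Equiv.Perm.sign ρ), mul_inv_cancel_right]
  have hb' := five_choice_b (φ b) (by rw [hsign, hbs]) (by rw [← map_mul, hb, map_one])
    (by rwa [Ne, map_eq_one_iff φ φ.injective]) (by rw [← hρ]; exact fun h => hab (φ.injective h))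
    (by rw [← hρ, ← map_mul, hcom, map_mul])
  have h := five_choice_c (φ c) (by rw [hsign, hcs]) (by rw [← map_pow, hc, map_one])
    (by rwa [Ne, map_eq_one_iff φ φ.injective]) (by rw [← hρ, ← map_mul, ← map_mul, hinv, map_inv])
    _ hb'
  simp only [← hρ, ← map_mul, ← map_pow, map_eq_one_iff φ φ.injective] at h
  exact h

/-- Conjugators moving the point 4 to the five points. -/
def sG : List (alternatingGroup (Fin 5)) :=
  [sR * (sR * sH) * sT * sR, sR * (sR * sH) * sR * (sR * sH) * sT * sR, sT * sR, sR, 1]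

set_option maxRecDepth 4000 in
theorem sG_four : ∀ i : Fin 5, ((sG.getD i 1 : alternatingGroup (Fin 5)) :
    Equiv.Perm (Fin 5)) 4 = i := by decide +kernel

set_option maxRecDepth 4000 in
theorem relsA_std : ∀ w ∈ Relations.relsA,
    (w.map fun i => [sT.1, sR.1, sR.1 * sH.1].getD i 1).prod = 1 ∧ ∀ i ∈ w, i < 3 := by
  decide +kernel

set_option maxRecDepth 4000 in
theorem sq_std : (sR * sH) * (sR * sH) = 1 ∧ sR * sR = 1 ∧ sT * sT = 1 := by decide +kernel

namespace Hyp

open Cfsg.Agent.Lib.CosetTable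

variable {G : Type*} [Group G] [Finite G] (H : Hyp G)

/-- A subgroup of `M` containing a fours group and an element of order 5 is `M`. -/
theorem M_le_of {Y : Subgroup G} {a b c : G} (ha : a ∈ H.M) (hb : b ∈ H.M) (hc : c ∈ H.M)
    (haY : a ∈ Y) (hbY : b ∈ Y) (hcY : c ∈ Y) (ha2 : a * a = 1) (hb2 : b * b = 1) (ha1 : a ≠ 1)
    (hb1 : b ≠ 1) (hab : a ≠ b) (hcom : Commute a b) (hc5 : orderOf c = 5) : H.M ≤ Y := by
  classical
  haveI := H.isSimple_M
  set S := Y.subgroupOf H.M
  by_contra hne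
  have hS : S ≠ ⊤ := fun h => hne (Subgroup.subgroupOf_eq_top.mp h)
  have h5 : 5 ∣ Nat.card S := by
    rw [← hc5, ← Subgroup.orderOf_mk c hc,
      ← Subgroup.orderOf_mk (⟨c, hc⟩ : ↥H.M) (show _ ∈ S from hcY)]
    exact orderOf_dvd_natCard _
  have h4 : 4 ∣ Nat.card S := by
    let V : Subgroup ↥S := Subgroup.closure {⟨⟨a, ha⟩, haY⟩, ⟨⟨b, hb⟩, hbY⟩}
    set a' : ↥S := ⟨⟨a, ha⟩, haY⟩
    set b' : ↥S := ⟨⟨b, hb⟩, hbY⟩
    have hab' : Commute a' b' := Subtype.ext (Subtype.ext hcom.eq)
    have ha'' : a' * a' = 1 := Subtype.ext (Subtype.ext ha2)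
    have hb'' : b' * b' = 1 := Subtype.ext (Subtype.ext hb2)
    let W : Subgroup ↥S :=
      { carrier := {1, a', b', a' * b'}
        one_mem' := by simp
        mul_mem' := by
          intro x y hx hy
          simp only [Set.mem_insert_iff, Set.mem_singleton_iff] at hx hy ⊢
          have e1 : b' * a' = a' * b' := hab'.eq.symm
          have e2 : ∀ r, a' * (a' * r) = r := fun r => by rw [← mul_assoc, ha'', one_mul]
          have e3 : ∀ r, b' * (b' * r) = r := fun r => by rw [← mul_assoc, hb'', one_mul]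
          have e4 : ∀ r, b' * (a' * r) = a' * (b' * r) := fun r => by
            rw [← mul_assoc, e1, mul_assoc]
          rcases hx with rfl | rfl | rfl | rfl <;> rcases hy with rfl | rfl | rfl | rfl <;>
            simp [mul_assoc, ha'', hb'', e1, e2, e3, e4]
        inv_mem' := by
          intro x hx
          simp only [Set.mem_insert_iff, Set.mem_singleton_iff] at hx ⊢
          have ea : a'⁻¹ = a' := inv_eq_of_mul_eq_one_right ha''
          have eb : b'⁻¹ = b' := inv_eq_of_mul_eq_one_right hb''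
          rcases hx with rfl | rfl | rfl | rfl <;> simp [ea, eb, hab'.eq.symm, mul_inv_rev] }
    have hW : Nat.card W = 4 := by
      rw [show Nat.card W = ({1, a', b', a' * b'} : Set ↥S).ncard from (Nat.card_coe_set_eq _)]
      have n1 : a' ≠ 1 := fun h => ha1 (congrArg (fun x : ↥S => ((x : ↥H.M) : G)) h)
      have n2 : b' ≠ 1 := fun h => hb1 (congrArg (fun x : ↥S => ((x : ↥H.M) : G)) h)
      have n3 : a' ≠ b' := fun h => hab (congrArg (fun x : ↥S => ((x : ↥H.M) : G)) h)
      have n4 : a' * b' ≠ 1 := fun h => n3 (by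
        rw [← mul_one a', ← hb'', ← mul_assoc, h, one_mul])
      rw [Set.ncard_insert_of_notMem, Set.ncard_insert_of_notMem, Set.ncard_pair]
      · intro h
        exact n1 (by simpa using mul_right_cancel (b := b') (h.symm.trans (one_mul b').symm))
      · simp only [Set.mem_insert_iff, Set.mem_singleton_iff, not_or]
        exact ⟨n3, fun h => n2 (by simpa using h.symm)⟩
      · simp only [Set.mem_insert_iff, Set.mem_singleton_iff, not_or]
        exact ⟨n1.symm, n2.symm, n4.symm⟩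
    rw [← hW]
    exact W.card_subgroup_dvd_card
  have h20 : 4 * 5 ∣ Nat.card S := Nat.Coprime.mul_dvd_of_dvd_of_dvd (by norm_num) h4 h5
  have hi := S.card_mul_index
  rw [H.card_M_eq] at hi
  have hi3 : S.index ≤ 3 := by
    have := Nat.le_of_dvd Nat.card_pos h20
    nlinarith
  have hdvd : Nat.card ↥H.M ∣ S.index.factorial := by
    have hker : (MulAction.toPermHom ↥H.M (↥H.M ⧸ S)).ker = ⊥ := by
      rw [← Subgroup.normalCore_eq_ker]
      refine (Subgroup.normalCore_normal S).eq_bot_or_eq_top.resolve_right fun h => hS ?_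
      exact top_le_iff.mp (h ▸ Subgroup.normalCore_le S)
    have h := Subgroup.card_dvd_of_injective _ ((MonoidHom.ker_eq_bot_iff _).mp hker)
    rwa [Nat.card_perm, ← Subgroup.index_eq_card] at h
  rw [H.card_M_eq] at hdvd
  have := Nat.le_of_dvd (Nat.factorial_pos _) hdvd
  have h6 : S.index.factorial ≤ 6 := (Nat.factorial_le hi3).trans (by decide)
  omega

include H in
/-- Six involutions satisfying the relators and generating the group. -/
theorem exists_gens : ∃ F : ℕ → G, (∀ i, i < 6 → F i * F i = 1) ∧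
    (∀ w ∈ Relations.rels, eval F w = 1) ∧
    Subgroup.closure {x | ∃ i, i < 6 ∧ F i = x} = ⊤ ∧ orderOf (F 5) = 2 := by
  classical
  obtain ⟨m₀, hm₀, h5₀, hinv₀⟩ := H.exists_inverted
  obtain ⟨ψ, hψi, hψt, hψh, hψc⟩ := H.exists_complement hm₀ h5₀ hinv₀
  have hψz : ∀ x, Commute (ψ x) H.z := fun x => (hψc x).1
  -- the action on the five pairs
  let π : alternatingGroup (Fin 5) →* Equiv.Perm (Fin 5) :=
    H.perm.comp (ψ.codRestrict H.Cz fun x => H.mem_Cz.mpr (hψz x))
  haveI : IsSimpleGroup ↥(alternatingGroup (Fin 5)) := alternatingGroup.isSimpleGroup (by simp)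
  have hπi : Function.Injective π := by
    rw [← MonoidHom.ker_eq_bot_iff]
    refine π.normal_ker.eq_bot_or_eq_top.resolve_right fun h => ?_
    have hQ : ∀ x, ψ x ∈ H.Q := fun x =>
      H.mem_Q_of_perm (H.mem_Cz.mpr (hψz x)) (MonoidHom.mem_ker.mp (show x ∈ π.ker by rw [h]; exact Subgroup.mem_top x))
    have := Subgroup.card_dvd_of_le (show ψ.range ≤ H.Q by rintro _ ⟨x, rfl⟩; exact hQ x)
    rw [Nat.card_congr (MonoidHom.ofInjective hψi).toEquiv.symm, H.card,
      nat_card_alternatingGroup, Nat.card_fin] at this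
    norm_num [Nat.factorial] at this
  have hπt : π sT 4 = 4 := by
    show H.perm ⟨ψ sT, _⟩ 4 = 4
    simp only [hψt]
    rw [show H.perm ⟨H.t, _⟩ = s0 from H.perm_t]
    decide
  have hπh : π sH 4 = 4 := by
    show H.perm ⟨ψ sH, _⟩ 4 = 4
    simp only [hψh]
    exact H.perm4 H.hE
  let St : Subgroup (alternatingGroup (Fin 5)) :=
    (MulAction.stabilizer (Equiv.Perm (Fin 5)) (4 : Fin 5)).comap π
  have hSt : ∀ x : alternatingGroup (Fin 5), x.1 4 = 4 → x ∈ St := by
    intro x hx
    have ht : sT ∈ St := hπt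
    have hh : sH ∈ St := hπh
    have h := std_stab x.1 (Equiv.Perm.mem_alternatingGroup.mp x.2) hx
    simp only [List.mem_cons, List.not_mem_nil, or_false] at h
    suffices hm : x.1 ∈ St.map (alternatingGroup (Fin 5)).subtype by
      obtain ⟨y, hy, e⟩ := hm
      rwa [← Subtype.ext e]
    have ht' : sT.1 ∈ St.map (alternatingGroup (Fin 5)).subtype := ⟨sT, ht, rfl⟩
    have hh' : sH.1 ∈ St.map (alternatingGroup (Fin 5)).subtype := ⟨sH, hh, rfl⟩
    rcases h with h | h | h | h | h | h | h | h | h | h | h | h <;> rw [h]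
    · exact one_mem _
    · exact ht'
    · exact hh'
    · exact mul_mem hh' hh'
    · exact mul_mem ht' hh'
    · exact mul_mem (mul_mem ht' hh') hh'
    · exact mul_mem hh' ht'
    · exact mul_mem (mul_mem hh' hh') ht'
    · exact mul_mem (mul_mem (mul_mem hh' ht') hh') hh'
    · exact mul_mem (mul_mem (mul_mem hh' hh') ht') hh'
    · exact mul_mem (mul_mem hh' ht') hh'
    · exact mul_mem (mul_mem (mul_mem (mul_mem hh' hh') ht') hh') hh'
  have hπr : π.range = H.perm.range := by
    refine Subgroup.eq_of_le_of_card_ge (by rintro _ ⟨x, rfl⟩; exact ⟨_, rfl⟩) ?_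
    rw [H.range_eq, ← Nat.card_congr (MonoidHom.ofInjective hπi).toEquiv]
  have hStop : St ≠ ⊤ := fun h => by
    obtain ⟨x, hx⟩ : sR.1 ∈ π.range := by rw [hπr, H.range_eq]; exact sR.2
    have h4 : x ∈ St := h ▸ Subgroup.mem_top x
    have h5 : π x 4 = 4 := h4
    rw [hx] at h5
    revert h5
    decide
  have hmove : ∀ y : alternatingGroup (Fin 5), y.1 4 ≠ 4 → π y 4 ≠ 4 := by
    intro y hy hc
    obtain ⟨a, ha, ha4, hb⟩ := double_coset y.1 (Equiv.Perm.mem_alternatingGroup.mp y.2) hy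
    set a' : alternatingGroup (Fin 5) := ⟨a, Equiv.Perm.mem_alternatingGroup.mpr ha⟩
    have hyS : y ∈ St := hc
    have hR : sR ∈ St := by
      have h2 := hSt (y⁻¹ * a' * sR) hb
      have := mul_mem (mul_mem (inv_mem (hSt a' ha4)) hyS) h2
      simpa [mul_assoc] using this
    exact hStop (eq_top_of_three hπt hπh hR)
  let τ : Fin 5 → Fin 5 := fun i => π (sG.getD i 1) 4
  have hτ : Function.Injective τ := by
    intro i j e
    by_contra hij
    refine hmove ((sG.getD i 1)⁻¹ * sG.getD j 1) ?_ ?_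
    · intro h
      refine hij ?_
      rw [← sG_four i, ← sG_four j]
      have h' := congrArg ((sG.getD i 1).1) h
      simpa using h'.symm
    · rw [map_mul, map_inv, Equiv.Perm.mul_apply, show π (sG.getD j 1) 4 = π (sG.getD i 1) 4 from e.symm]
      simp
  -- the conjugates of a normalised involution of `Q`
  have hconj : ∀ (a : Bool) (x : alternatingGroup (Fin 5)),
      ∃ b, ψ x * (H.v * H.zb a) * (ψ x)⁻¹ = H.u (π x 4) * H.zb b := by
    intro a x
    obtain ⟨b, hb⟩ := H.perm_spec ⟨ψ x, H.mem_Cz.mpr (hψz x)⟩ 4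
    refine ⟨xor b a, ?_⟩
    show ψ x * (H.u 4 * H.zb a) * (ψ x)⁻¹ = _
    rw [← mul_assoc, mul_assoc (ψ x * H.u 4), ← (H.zb_comm (hψz x).inv_left a).eq, ← mul_assoc]
    rw [show ψ x * H.u 4 * (ψ x)⁻¹ = H.u (π x 4) * H.zb b from hb, mul_assoc, H.zb_mul]
  let prod5 : Bool → G := fun a => ((List.finRange 5).map fun i : Fin 5 =>
    ψ (sG.getD i 1) * (H.v * H.zb a) * (ψ (sG.getD i 1))⁻¹).prod
  have hprod : ∀ a, ∃ b, prod5 a = H.zb b := by
    intro a
    choose b hb using fun i : Fin 5 => hconj a (sG.getD i 1)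
    have hQ : ∀ i, H.u (τ i) * H.zb (b i) ∈ H.Q := fun i => mul_mem (H.uQ _) (H.zb_mem _)
    have he : prod5 a = H.u (τ 0) * H.zb (b 0) * (H.u (τ 1) * H.zb (b 1)) *
        (H.u (τ 2) * H.zb (b 2)) * (H.u (τ 3) * H.zb (b 3)) * (H.u (τ 4) * H.zb (b 4)) := by
      simp only [prod5, hb, List.finRange_succ, List.finRange_zero, List.map_cons, List.map_nil,
        List.prod_cons, List.prod_nil, mul_one, τ]
      simp [mul_assoc]
    rw [he]
    have h01 := mul_mem (hQ 0) (hQ 1)
    have h02 := mul_mem h01 (hQ 2)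
    have h03 := mul_mem h02 (hQ 3)
    refine H.sig_structure.2 _ (mul_mem h03 (hQ 4)) ?_
    funext j
    rw [H.sig_mul h03 (hQ 4), H.sig_mul h02 (hQ 3), H.sig_mul h01 (hQ 2), H.sig_mul (hQ 0) (hQ 1)]
    simp only [H.sig_mul_zb (H.uQ _), H.sig_u]
    apply five_patterns <;> exact fun h => absurd (hτ h) (by decide)
  have hflip : prod5 true = prod5 false * H.z := by
    have hx : ∀ x : alternatingGroup (Fin 5),
        ψ x * (H.v * H.zb true) * (ψ x)⁻¹ = ψ x * (H.v * H.zb false) * (ψ x)⁻¹ * H.z := by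
      intro x
      rw [H.zb_true, H.zb_false, mul_one,
        show ψ x * (H.v * H.z) * (ψ x)⁻¹ = ψ x * H.v * (H.z * (ψ x)⁻¹) by group,
        ← (hψz x).inv_left.eq, ← mul_assoc]
    have hc : ∀ x : alternatingGroup (Fin 5),
        Commute H.z (ψ x * (H.v * H.zb false) * (ψ x)⁻¹) := fun x => by
      rw [H.zb_false, mul_one]
      exact (((hψz x).symm).mul_right H.vz.symm).mul_right (hψz x).inv_left.symm
    simp only [prod5, hx, List.finRange_succ, List.finRange_zero, List.map_cons, List.map_nil,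
      List.prod_cons, List.prod_nil, mul_one]
    set a := fun i : Fin 5 => ψ (sG.getD i 1) * (H.v * H.zb false) * (ψ (sG.getD i 1))⁻¹
    have hz' : ∀ (x : alternatingGroup (Fin 5)) (r : G),
        H.z * (ψ x * (H.v * H.zb false) * (ψ x)⁻¹ * r) =
          ψ x * (H.v * H.zb false) * (ψ x)⁻¹ * (H.z * r) := fun x r => by
      rw [← mul_assoc, (hc x).eq, mul_assoc]
    simp only [mul_assoc] at hz' ⊢
    have hzz' : ∀ r : G, H.z * (H.z * r) = r := fun r => by rw [← mul_assoc, H.zz, one_mul]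
    have hz'' : ∀ x : alternatingGroup (Fin 5),
        H.z * (ψ x * (H.v * (H.zb false * (ψ x)⁻¹))) =
          ψ x * (H.v * (H.zb false * ((ψ x)⁻¹ * H.z))) := fun x => by
      have h := (hc x).eq
      simpa only [mul_assoc] using h
    simp only [hz', hz'', hzz', H.zz, mul_one]
  obtain ⟨a, ha⟩ : ∃ a, prod5 a = 1 := by
    obtain ⟨b, hb⟩ := hprod false
    cases b
    · exact ⟨false, hb.trans H.zb_false⟩
    · exact ⟨true, by rw [hflip, hb, H.zb_true, H.zz]⟩
  set v' := H.v * H.zb a with hv'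
  have hv'Q : v' ∈ H.Q := mul_mem H.vQ (H.zb_mem a)
  have hv'2 : v' * v' = 1 := by
    rw [hv', mul_assoc, ← mul_assoc (H.zb a), H.zQ H.vQ, mul_assoc, H.zb_mul, Bool.xor_self,
      H.zb_false, mul_one, H.vv]
  have hv'A : v' ∈ H.A := mul_mem H.vA (by cases a <;> simp [H.zA, one_mem])
  have hv'1 : v' ≠ 1 := fun h => by
    cases a
    · exact H.v_ne (by simpa [hv'] using h)
    · refine (H.u_mem 4).2.2.2 ?_
      rw [show H.u 4 = H.v from rfl, ← mul_one H.v, ← H.zz, ← mul_assoc]
      rw [show H.v * H.z = 1 by simpa [hv'] using h, one_mul]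
  have hv'z : v' ≠ H.z := fun h => by
    cases a
    · exact (H.u_mem 4).2.2.2 (show H.v = H.z by simpa [hv'] using h)
    · exact H.v_ne (mul_right_cancel (b := H.z) (by rw [one_mul]; simpa [hv'] using h))
  have hv'zc : Commute v' H.z := H.le _ hv'Q
  have hv'm : ∀ x, (x = sT ∨ x = sH) → Commute v' (ψ x) := by
    rintro x (rfl | rfl)
    · rw [hψt]; exact (H.tv.symm.mul_left (H.zb_comm H.tz a).symm)
    · rw [hψh]
      have h := H.mem_E.mp H.hE
      exact h.2.symm.mul_left (H.zb_comm h.1 a).symm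
  -- the choice of the element of order 5
  obtain ⟨m, hm, h5, hinv, hψm, hmv3, hmvz5⟩ : ∃ m ∈ H.M, orderOf m = 5 ∧
      H.z * m * H.z = m⁻¹ ∧ (∀ x, Commute (ψ x) m) ∧ (m * v') ^ 3 = 1 ∧
        (m * v' * H.z) ^ 5 = 1 := by
    obtain ⟨e⟩ := H.M_alternating
    set za : ↥H.M := ⟨H.z, H.zM⟩
    set va : ↥H.M := ⟨v', H.A_le_M hv'A⟩
    set ma : ↥H.M := ⟨m₀, hm₀⟩
    have hm5 : m₀ ^ 5 = 1 := h5₀ ▸ pow_orderOf_eq_one m₀
    have P : ∀ {x y : ↥H.M}, (x : G) = y → ((e x : alternatingGroup (Fin 5)) : Equiv.Perm (Fin 5)) =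
        e y := fun h => by rw [Subtype.ext h]
    have E1 : ∀ {x : ↥H.M}, ((e x : alternatingGroup (Fin 5)) : Equiv.Perm (Fin 5)) = 1 → (x : G) = 1 :=
      fun {x} h => by
        have : e x = 1 := Subtype.ext h
        rw [show x = 1 from e.injective (this.trans (map_one e).symm)]; rfl
    have hmem : ∀ x : ↥H.M, Equiv.Perm.sign ((e x : alternatingGroup (Fin 5)) :
        Equiv.Perm (Fin 5)) = 1 := fun x => Equiv.Perm.mem_alternatingGroup.mp (e x).2
    have hc := five_choice _ _ _ (hmem za) (hmem va) (hmem ma)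
      (by simpa using P (x := za * za) (y := 1) H.zz)
      (by simpa using P (x := va * va) (y := 1) hv'2)
      (fun h => H.z_ne (E1 h)) (fun h => hv'1 (E1 h))
      (fun h => hv'z (congrArg Subtype.val (e.injective (Subtype.ext h) : za = va)).symm)
      (by simpa using P (x := za * va) (y := va * za) hv'zc.eq.symm)
      (by have h := P (x := ma ^ 5) (y := 1) hm5; rwa [map_pow, map_one, SubgroupClass.coe_pow] at h)
      (fun h => by have := E1 h; rw [show (ma : G) = m₀ from rfl] at this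
                   rw [this, orderOf_one] at h5₀; omega)
      (by simpa using P (x := za * ma * za) (y := ma⁻¹) hinv₀)
    rcases hc with ⟨c1, c2⟩ | ⟨c1, c2⟩
    · refine ⟨m₀, hm₀, h5₀, hinv₀, fun x => (hψc x).2, ?_, ?_⟩
      · have := E1 (x := (ma * va) ^ 3) (by simpa using c1); simpa using this
      · have := E1 (x := (ma * va * za) ^ 5) (by simpa using c2); simpa using this
    · refine ⟨m₀ * m₀, mul_mem hm₀ hm₀, ?_, ?_, fun x => (hψc x).2.mul_right (hψc x).2, ?_, ?_⟩
      · haveI : Fact (Nat.Prime 5) := ⟨by norm_num⟩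
        refine orderOf_eq_prime ?_ fun h => ?_
        · rw [← pow_two, ← pow_mul, mul_comm, pow_mul, hm5, one_pow]
        · have := orderOf_dvd_of_pow_eq_one (x := m₀) (n := 2) (by rw [pow_two]; exact h)
          rw [h5₀] at this; norm_num at this
      · rw [show H.z * (m₀ * m₀) * H.z = (H.z * m₀ * H.z) * (H.z⁻¹ * m₀ * H.z) by group, H.z_inv,
          hinv₀, mul_inv_rev]
      · have := E1 (x := (ma * ma * va) ^ 3) (by simpa using c1); simpa using this
      · have := E1 (x := (ma * ma * va * za) ^ 5) (by simpa using c2); simpa using this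
  set n := H.z * m with hn
  have hzn : H.z * n = m := by rw [hn, ← mul_assoc, H.zz, one_mul]
  have hn2 : n * n = 1 := by
    rw [hn, ← mul_assoc, show H.z * m * H.z = m⁻¹ from hinv, inv_mul_cancel]
  have hψn : ∀ x, Commute (ψ x) n := fun x => (hψz x).mul_right (hψm x)
  set F : ℕ → G := fun i => [ψ sT, ψ sR, ψ (sR * sH), v', n, H.z].getD i 1 with hF
  obtain ⟨hs2, hr2, ht2⟩ := sq_std
  have hF2 : ∀ i, i < 6 → F i * F i = 1 := by
    intro i hi
    interval_cases i <;> simp only [hF, List.getD_cons_zero, List.getD_cons_succ]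
    · rw [← map_mul, ht2, map_one]
    · rw [← map_mul, hr2, map_one]
    · rw [← map_mul, hs2, map_one]
    · exact hv'2
    · exact hn2
    · exact H.zz
  have hlt : ∀ w ∈ Relations.rels, ∀ i ∈ w, i < 6 := by decide
  have hrev : ∀ w : List ℕ, (∀ i ∈ w, i < 6) → (w.map F).prod = 1 → eval F w = 1 := by
    intro w hw h
    have e := eval_eq_prod_reverse F w.reverse
    rw [List.reverse_reverse, eval_reverse F w (fun i hi => hF2 i (hw i hi)), h, inv_eq_one] at e
    exact e
  refine ⟨F, hF2, fun w hw => hrev w (hlt w hw) ?_, ?_, H.hz⟩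
  · -- relators
    simp only [Relations.rels, List.mem_append] at hw
    rcases hw with (hw | hw) | hw
    · obtain ⟨h1, h3⟩ := relsA_std w hw
      let p : ℕ → alternatingGroup (Fin 5) := fun i => [sT, sR, sR * sH].getD i 1
      have hp : (w.map p).prod = 1 := by
        refine Subtype.ext ?_
        show (alternatingGroup (Fin 5)).subtype ((w.map p).prod) = 1
        rw [map_list_prod, List.map_map, ← h1]
        refine congrArg List.prod (List.map_congr_left fun i hi => ?_)
        have := h3 i hi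
        interval_cases i <;> rfl
      rw [← map_one ψ, ← hp, map_list_prod, List.map_map]
      refine congrArg List.prod (List.map_congr_left fun i hi => ?_)
      have := h3 i hi
      interval_cases i <;> rfl
    · have hcomm2 : ∀ {x y : G}, x * x = 1 → y * y = 1 → Commute x y → x * y * x * y = 1 :=
        fun {x y} hx hy h => by
          rw [h.eq, mul_assoc y x x, hx, mul_one, hy]
      simp only [Relations.relsC, List.mem_cons, List.not_mem_nil, or_false] at hw
      rcases hw with rfl | rfl | rfl | rfl | rfl | rfl | rfl | rfl <;>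
        simp only [hF, List.map_cons, List.map_nil, List.prod_cons, List.prod_nil, mul_one,
          List.getD_cons_zero, List.getD_cons_succ, ← mul_assoc]
      · exact hcomm2 hv'2 (by rw [← map_mul, ht2, map_one]) (hv'm _ (Or.inl rfl))
      · have hh : ψ sR * ψ (sR * sH) = ψ sH := by
          rw [← map_mul, ← mul_assoc, hr2, one_mul]
        have hh' : ψ (sR * sH) * ψ sR = (ψ sH)⁻¹ := by
          rw [← hh, mul_inv_rev,
            inv_eq_of_mul_eq_one_right (show ψ sR * ψ sR = 1 by rw [← map_mul, hr2, map_one]),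
            inv_eq_of_mul_eq_one_right (show ψ (sR * sH) * ψ (sR * sH) = 1 by
              rw [← map_mul, hs2, map_one])]
        rw [mul_assoc v', hh, (hv'm _ (Or.inr rfl)).eq, mul_assoc _ v' v', hv'2, mul_one, mul_assoc,
          hh', mul_inv_cancel]
      · exact hcomm2 H.zz hv'2 hv'zc.symm
      · exact hcomm2 H.zz (by rw [← map_mul, hr2, map_one]) (hψz _).symm
      · exact hcomm2 H.zz (by rw [← map_mul, ht2, map_one]) (hψz _).symm
      · exact hcomm2 H.zz (by rw [← map_mul, hs2, map_one]) (hψz _).symm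
      · -- `z = (v r v r)²`
        obtain ⟨b, hb⟩ := hconj a sR
        rw [inv_eq_of_mul_eq_one_right (show ψ sR * ψ sR = 1 by rw [← map_mul, hr2, map_one])] at hb
        set y := ψ sR * v' * ψ sR with hy
        have hne : π sR 4 ≠ 4 := hmove sR (by decide +kernel)
        have hnc : Pre.nc v' y = true := by
          show Pre.nc (H.u 4 * H.zb a) y = true
          rw [hb, H.nc_mul (H.uQ 4) (H.zb_mem a) (mul_mem (H.uQ _) (H.zb_mem b)),
            H.nc_zb (mul_mem (H.uQ _) (H.zb_mem b)), Pre.nc_comm (H.u 4),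
            H.nc_mul (H.uQ _) (H.zb_mem b) (H.uQ 4), H.nc_zb (H.uQ 4)]
          rw [show Pre.nc (H.u (π sR 4)) (H.u 4) = true from
            (congrFun (H.sig_u (π sR 4)) 4).trans (decide_eq_true hne)]
          rfl
        have hyQ : y ∈ H.Q := H.norm _ (hψz sR) _ hv'Q |> fun h => by
          rwa [inv_eq_of_mul_eq_one_right (show ψ sR * ψ sR = 1 by rw [← map_mul, hr2, map_one])] at h
        have hvy := H.mul_eq_nc hv'Q hyQ
        rw [hnc, H.zb_true] at hvy
        have hyy : y * y = 1 := by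
          rw [hy, show ψ sR * v' * ψ sR * (ψ sR * v' * ψ sR) =
            ψ sR * v' * (ψ sR * ψ sR) * v' * ψ sR by group, ← map_mul, hr2, map_one, mul_one,
            mul_assoc (ψ sR), hv'2, mul_one, ← map_mul, hr2, map_one]
        calc H.z * v' * ψ sR * v' * ψ sR * v' * ψ sR * v' * ψ sR
            = H.z * ((v' * y) * v' * y) := by rw [hy]; group
          _ = H.z * (y * (v' * H.z) * v' * y) := by rw [hvy]; group
          _ = H.z * (y * (H.z * (v' * v')) * y) := by rw [hv'zc.eq]; group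
          _ = H.z * (y * H.z * y) := by rw [hv'2, mul_one]
          _ = H.z * (H.z * (y * y)) := by rw [(H.le y hyQ).eq]; group
          _ = 1 := by rw [hyy, mul_one, H.zz]
      · -- the product of the five conjugates
        have hi1 : (ψ sR)⁻¹ = ψ sR := inv_eq_of_mul_eq_one_right (by rw [← map_mul, hr2, map_one])
        have hi2 : (ψ (sR * sH))⁻¹ = ψ (sR * sH) :=
          inv_eq_of_mul_eq_one_right (by rw [← map_mul, hs2, map_one])
        have hi3 : (ψ sT)⁻¹ = ψ sT := inv_eq_of_mul_eq_one_right (by rw [← map_mul, ht2, map_one])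
        conv_rhs => rw [← ha]
        simp only [prod5, sG, List.finRange_succ, List.finRange_zero, List.map_cons, List.map_nil,
          List.prod_cons, List.prod_nil]
        simp only [Fin.val_zero, Fin.val_succ, List.getD_cons_zero, List.getD_cons_succ, map_one,
          one_mul, mul_one, inv_one]
        rw [show ψ (sR * (sR * sH) * sT * sR) = ψ sR * ψ (sR * sH) * ψ sT * ψ sR by simp only [map_mul],
          show ψ (sR * (sR * sH) * sR * (sR * sH) * sT * sR) =
            ψ sR * ψ (sR * sH) * ψ sR * ψ (sR * sH) * ψ sT * ψ sR by simp only [map_mul],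
          show ψ (sT * sR) = ψ sT * ψ sR from map_mul ψ sT sR]
        simp only [mul_inv_rev, hi1, hi2, hi3, hv', mul_assoc]
    · simp only [Relations.relsN, List.mem_cons, List.not_mem_nil, or_false] at hw
      rcases hw with rfl | rfl | rfl | rfl | rfl | rfl <;>
        simp only [hF, List.map_cons, List.map_nil, List.prod_cons, List.prod_nil, mul_one,
          List.getD_cons_zero, List.getD_cons_succ]
      any_goals
        rw [← mul_assoc (ψ _) n, (hψn _).eq, mul_assoc n (ψ _), ← mul_assoc n n, hn2, one_mul,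
          ← map_mul]
        first | rw [ht2, map_one] | rw [hr2, map_one] | rw [hs2, map_one]
      · have h := h5 ▸ pow_orderOf_eq_one m
        rw [← hzn] at h
        rw [← h]; simp only [pow_succ, pow_zero, one_mul, mul_assoc]
      · rw [← hmv3, ← hzn]; simp only [pow_succ, pow_zero, one_mul, mul_assoc]
      · rw [← hmvz5, ← hzn]; simp only [pow_succ, pow_zero, one_mul, mul_assoc]
  · -- generation
    set Y := Subgroup.closure {x | ∃ i, i < 6 ∧ F i = x}
    have hFY : ∀ i, i < 6 → F i ∈ Y := fun i hi => Subgroup.subset_closure ⟨i, hi, rfl⟩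
    have hTY : ψ sT ∈ Y := hFY 0 (by norm_num)
    have hRY : ψ sR ∈ Y := hFY 1 (by norm_num)
    have hvY : v' ∈ Y := hFY 3 (by norm_num)
    have hzY : H.z ∈ Y := hFY 5 (by norm_num)
    have hmY : m ∈ Y := by
      have := mul_mem hzY (hFY 4 (by norm_num))
      rwa [show F 4 = n from rfl, hzn] at this
    have hψY : ∀ x, ψ x ∈ Y := by
      have hHY : ψ sH ∈ Y := by
        have := mul_mem hRY (hFY 2 (by norm_num))
        rwa [show F 2 = ψ (sR * sH) from rfl, ← map_mul, ← mul_assoc, hr2, one_mul] at this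
      have htop := eq_top_of_three (S := Y.comap ψ) hTY hHY hRY
      exact fun x => (htop ▸ Subgroup.mem_top x : x ∈ Y.comap ψ)
    have hzbY : ∀ b, H.zb b ∈ Y := fun b => by cases b <;> simp [one_mem, hzY]
    have huY : ∀ i, H.u i ∈ Y := by
      intro i
      obtain ⟨k, rfl⟩ := (Finite.injective_iff_surjective.mp hτ) i
      obtain ⟨b, hb⟩ := hconj a (sG.getD k 1)
      have h := mul_mem (mul_mem (mul_mem (hψY (sG.getD k 1)) hvY) (inv_mem (hψY (sG.getD k 1)))) (hzbY b)
      rwa [hv', hb, mul_assoc, H.zb_mul, Bool.xor_self, H.zb_false, mul_one] at h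
    have hQY : H.Q ≤ Y := by
      intro x hx
      obtain ⟨v, b, rfl⟩ := H.sig_structure.1 x hx
      refine mul_mem ?_ (hzbY b)
      rw [Pre.word]
      refine mul_mem (mul_mem (mul_mem ?_ ?_) ?_) ?_ <;> split <;>
        first | exact huY _ | exact one_mem _
    have hCY : H.Cz ≤ Y := by
      intro c hc
      obtain ⟨x, hx⟩ : H.perm ⟨c, hc⟩ ∈ π.range := hπr ▸ ⟨_, rfl⟩
      have hxC : ψ x ∈ H.Cz := H.mem_Cz.mpr (hψz x)
      have hq := H.mem_Q_of_perm (mul_mem hc (inv_mem hxC)) (by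
        rw [show (⟨c * (ψ x)⁻¹, mul_mem hc (inv_mem hxC)⟩ : ↥H.Cz) = ⟨c, hc⟩ * ⟨ψ x, hxC⟩⁻¹ from rfl,
          map_mul, map_inv, show H.perm ⟨ψ x, hxC⟩ = π x from rfl, hx, mul_inv_cancel])
      simpa using mul_mem (hQY hq) (hψY x)
    have hMY : H.M ≤ Y := H.M_le_of H.zM (H.A_le_M hv'A) hm hzY hvY hmY H.zz hv'2 H.z_ne hv'1
      hv'z.symm hv'zc.symm h5
    have hQC : H.Q ≤ H.Cz := fun x hx => H.mem_Cz.mpr (H.le x hx)
    have hfY : H.f ∈ Y := hCY (H.mem_Cz.mpr H.hfz)
    have hv'zcl : IsConj H.z v' :=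
      H.inv_M (H.A_le_M hv'A) (orderOf_eq_prime (by rw [pow_two]; exact hv'2) hv'1)
    obtain ⟨g, hg, hge⟩ := H.zc_M hv'zcl ((H.M_commute_t (H.A_le_M hv'A)))
    let PY : Pre ↥Y :=
      { z := ⟨H.z, hzY⟩
        Q := H.Q.subgroupOf Y
        hz := by rw [Subgroup.orderOf_mk]; exact H.hz
        hzQ := H.hzQ
        le := fun x hx => Subtype.ext (H.le _ hx).eq
        norm := fun c hc x hx => H.norm c (congrArg Subtype.val hc.eq) x hx
        card := by rw [Nat.card_congr (Subgroup.subgroupOfEquivOfLe hQY).toEquiv, H.card]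
        center := fun x hx h => (H.center x hx fun y hy =>
          congrArg Subtype.val (h ⟨y, hQY hy⟩ hy).eq).imp (fun e => Subtype.ext e) (fun e => Subtype.ext e)
        sq := fun x hx => (H.sq x hx).imp (fun e => Subtype.ext e) (fun e => Subtype.ext e)
        comm := fun x hx y hy => (H.comm x hx y hy).imp (fun e => Subtype.ext e) (fun e => Subtype.ext e)
        self := fun c hc h => H.self c (congrArg Subtype.val hc.eq) fun y hy =>
          congrArg Subtype.val (h ⟨y, hQY hy⟩ hy).eq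
        u0 := ⟨v', hvY⟩
        hu0 := hv'Q
        hu0z := fun e => hv'z (congrArg Subtype.val e)
        hu0i := Subtype.ext hv'2
        hu01 := fun e => hv'1 (congrArg Subtype.val e)
        f := ⟨H.f, hfY⟩
        hf := by rw [Subgroup.orderOf_mk]; exact H.hf
        hfz := Subtype.ext H.hfz.eq }
    have hC : Nat.card PY.Cz = 1920 := by
      rw [← H.card_C, ← Nat.card_congr (Subgroup.subgroupOfEquivOfLe hCY).toEquiv]
      refine congrArg (fun K : Subgroup ↥Y => Nat.card K) (Subgroup.ext fun x => ?_)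
      rw [PY.mem_Cz, Subgroup.mem_subgroupOf, H.mem_Cz]
      exact ⟨fun h => congrArg Subtype.val h.eq, fun h => Subtype.ext h.eq⟩
    have hcardY := Hyp.card_G (⟨PY, hC, isConj_iff.mpr ⟨⟨g, hMY hg⟩, Subtype.ext hge⟩, ⟨⟨H.z, hzY⟩, ⟨H.t, hCY H.tC⟩,
      by rw [Subgroup.orderOf_mk]; exact H.hz, by rw [Subgroup.orderOf_mk]; exact H.ht,
      fun h => H.t_nzc (MonoidHom.map_isConj Y.subtype h)⟩⟩ : Hyp ↥Y)
    exact Subgroup.eq_top_of_card_eq Y (hcardY.trans H.card_G.symm)

end Hyp

end Cfsg.Agent.Lib.JankoTwoType
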