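import Cfsg.Agent.Lib.JankoTwoType.Classes
import Cfsg.Agent.Lib.Extraspecial.Structure
import Cfsg.Agent.Lib.Components.GenFitting
import Cfsg.Agent.Lib.Classical.LowRank.MinusFour
import Cfsg.Agent.Lib.LinGroup.Order
import Cfsg.Prelude.Def_Classical

/-!
Groups of Hall–Janko type: from the usual hypotheses to the structure `Hyp`.
-/

set_option autoImplicit false
set_option linter.unusedSectionVars false
set_option linter.style.haveILetI false

namespace Cfsg.Agent.Lib.JankoTwoType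

open scoped commutatorElement

variable {G : Type*} [Group G] [Finite G]

/-- The data from an extraspecial self-centralising normal subgroup of `C(z)`. -/
theorem exists_pre (z : G) (hz : orderOf z = 2) (Qc : Subgroup (Subgroup.centralizer ({z} : Set G)))
    [Qc.Normal]
    (hself : Subgroup.centralizer (Qc : Set ↥(Subgroup.centralizer ({z} : Set G))) ≤ Qc)
    (hQ : Cfsg.IsExtraspecial 2 Qc) (hcard : Nat.card Qc = 32)
    (h5 : 5 ∣ Nat.card (Subgroup.centralizer ({z} : Set G)))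
    (u0 : Subgroup.centralizer ({z} : Set G)) (hu0 : u0 ∈ Qc) (hu0z : (u0 : G) ≠ z)
    (hu0i : (u0 : G) * u0 = 1) (hu01 : (u0 : G) ≠ 1) :
    ∃ P : Pre G, P.z = z ∧ P.Q = Qc.map (Subgroup.centralizer ({z} : Set G)).subtype ∧
      P.u0 = u0 := by
  haveI : Fact (Nat.Prime 2) := ⟨Nat.prime_two⟩
  haveI : Fact (Nat.Prime 5) := ⟨by norm_num⟩
  have hmC : ∀ {x : G}, x ∈ (Subgroup.centralizer ({z} : Set G)) ↔ Commute x z := Subgroup.mem_centralizer_singleton_iff
  set z' : ↥(Subgroup.centralizer ({z} : Set G)) := ⟨z, hmC.mpr (Commute.refl z)⟩ with hz'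
  have hz'c : ∀ x : ↥(Subgroup.centralizer ({z} : Set G)), x * z' = z' * x := fun x => Subtype.ext (hmC.mp x.2).eq
  have hz'Q : z' ∈ Qc := hself (Subgroup.mem_centralizer_iff.mpr fun x _ => hz'c x)
  have hX := Cfsg.Agent.Lib.ExtraStruct.extraLike_of_isExtraspecial hQ
  set zQ : ↥Qc := ⟨z', hz'Q⟩ with hzQ'
  have hzQc : zQ ∈ Subgroup.center ↥Qc :=
    Subgroup.mem_center_iff.mpr fun x => Subtype.ext (hz'c x)
  have hzQ1 : zQ ≠ 1 := fun h => by
    have : z = 1 := congrArg (fun x : ↥Qc => ((x : ↥(Subgroup.centralizer ({z} : Set G))) : G)) h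
    rw [this, orderOf_one] at hz; omega
  have hcen : ∀ c ∈ Subgroup.center ↥Qc, c = 1 ∨ c = zQ := by
    intro c hc
    by_cases h : c = 1
    · exact Or.inl h
    · exact Or.inr (Cfsg.Agent.Lib.ExtraStruct.eq_of_mem_center_two hX hc h hzQc hzQ1)
  obtain ⟨f, hf⟩ := exists_prime_orderOf_dvd_card' (G := ↥(Subgroup.centralizer ({z} : Set G))) 5 h5
  refine ⟨{
    z := z, Q := Qc.map (Subgroup.centralizer ({z} : Set G)).subtype, hz := hz
    hzQ := ⟨z', hz'Q, rfl⟩
    le := fun x hx => by obtain ⟨y, -, rfl⟩ := hx; exact hmC.mp y.2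
    norm := fun c hc x hx => by
      obtain ⟨y, hy, rfl⟩ := hx
      exact ⟨_, Subgroup.Normal.conj_mem inferInstance y hy ⟨c, hmC.mpr hc⟩, rfl⟩
    card := by rw [Subgroup.card_map_of_injective (Subgroup.centralizer ({z} : Set G)).subtype_injective, hcard]
    center := fun x hx h => by
      obtain ⟨y, hy, rfl⟩ := hx
      rcases hcen ⟨y, hy⟩ (Subgroup.mem_center_iff.mpr fun w => Subtype.ext (Subtype.ext
        (h ((w : ↥(Subgroup.centralizer ({z} : Set G))) : G) ⟨w, w.2, rfl⟩).symm.eq)) with e | e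
      · exact Or.inl (congrArg (fun x : ↥Qc => ((x : ↥(Subgroup.centralizer ({z} : Set G))) : G)) e)
      · exact Or.inr (congrArg (fun x : ↥Qc => ((x : ↥(Subgroup.centralizer ({z} : Set G))) : G)) e)
    sq := fun x hx => by
      obtain ⟨y, hy, rfl⟩ := hx
      rcases hcen _ (hX.pow_mem ⟨y, hy⟩) with e | e
      · refine Or.inl ?_
        simpa [pow_two] using congrArg (fun x : ↥Qc => ((x : ↥(Subgroup.centralizer ({z} : Set G))) : G)) e
      · refine Or.inr ?_
        simpa [pow_two] using congrArg (fun x : ↥Qc => ((x : ↥(Subgroup.centralizer ({z} : Set G))) : G)) e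
    comm := fun x hx y hy => by
      obtain ⟨x', hx', rfl⟩ := hx
      obtain ⟨y', hy', rfl⟩ := hy
      set a : ↥Qc := ⟨x', hx'⟩
      set b : ↥Qc := ⟨y', hy'⟩
      have hab : a * b = ⁅a, b⁆ * (b * a) := by rw [commutatorElement_def]; group
      rcases hcen _ (hX.comm_mem a b) with e | e
      · rw [e, one_mul] at hab
        exact Or.inl (congrArg (fun x : ↥Qc => ((x : ↥(Subgroup.centralizer ({z} : Set G))) : G)) hab)
      · rw [e, ← Subgroup.mem_center_iff.mp hzQc (b * a)] at hab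
        exact Or.inr (congrArg (fun x : ↥Qc => ((x : ↥(Subgroup.centralizer ({z} : Set G))) : G)) hab)
    self := fun c hc h => ⟨⟨c, hmC.mpr hc⟩, hself (Subgroup.mem_centralizer_iff.mpr fun y hy =>
      Subtype.ext (h y ⟨y, hy, rfl⟩).symm.eq), rfl⟩
    u0 := u0, hu0 := ⟨u0, hu0, rfl⟩, hu0z := hu0z, hu0i := hu0i, hu01 := hu01
    f := f, hf := by rw [Subgroup.orderOf_coe]; exact hf
    hfz := hmC.mp f.2 }, rfl, rfl, rfl⟩

theorem aniso : ∀ z₁ z₂ : ZMod 2, z₁ ^ 2 + 1 * z₁ * z₂ + 1 * z₂ ^ 2 = 0 → z₁ = 0 ∧ z₂ = 0 := by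
  decide

theorem card_POmega_minus :
    Nat.card (Cfsg.POmega (ZMod 2) (Cfsg.quadFormMinus 1 (ZMod 2) 1 1)) = 60 := by
  haveI : Fact (Nat.Prime 2) := ⟨Nat.prime_two⟩
  let _ : Fintype (GaloisField 2 2) := Fintype.ofFinite _
  have hK : Fintype.card (GaloisField 2 2) = 2 ^ 2 := by
    rw [← Nat.card_eq_fintype_card]; exact GaloisField.card 2 2 (by norm_num)
  obtain ⟨e⟩ := Cfsg.Agent.Lib.Classical.LowRank.nonempty_POmega_minus_four
    (F := ZMod 2) (K := GaloisField 2 2) (q := 2) (ZMod.card 2) hK (1 : ZMod 2) 1 aniso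
  rw [Nat.card_congr e.toEquiv]
  have h := Cfsg.Agent.Lib.LinGroup.card_PSL_mul (F := GaloisField 2 2) 2 (by norm_num)
  rw [hK, Fin.prod_univ_two] at h
  norm_num at h
  omega

/-- `C(z)/Q ≅ Ω⁻(4, 2)` gives order 60. -/
theorem card_quotient_omega (P : Pre G) {Qc : Subgroup P.Cz} [Qc.Normal]
    (hQc : Qc.map P.Cz.subtype = P.Q)
    (e : P.Cz ⧸ Qc ≃* Cfsg.Omega (ZMod 2) (Cfsg.quadFormMinus 1 (ZMod 2) 1 1)) :
    Nat.card P.Cz = 1920 := by
  have hker : P.perm.ker = Qc := by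
    rw [P.ker_perm, ← hQc, Subgroup.subgroupOf, Subgroup.comap_map_eq_self_of_injective
      P.Cz.subtype_injective]
  set O := Cfsg.Omega (ZMod 2) (Cfsg.quadFormMinus 1 (ZMod 2) 1 1) with hO
  let e' : ↥P.perm.range ≃* ↥O :=
    ((QuotientGroup.quotientKerEquivRange P.perm).symm.trans
      (QuotientGroup.quotientMulEquivOfEq hker)).trans e
  have hcard : Nat.card ↥P.perm.range = Nat.card ↥O := Nat.card_congr e'.toEquiv
  have hZ := Subgroup.card_eq_card_quotient_mul_card_subgroup (Subgroup.center ↥O)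
  rw [show Nat.card (↥O ⧸ Subgroup.center ↥O) = 60 from card_POmega_minus] at hZ
  have h120 : Nat.card ↥P.perm.range ∣ 120 := by
    have := Subgroup.card_subgroup_dvd_card P.perm.range
    rwa [Nat.card_perm, Nat.card_fin] at this
  have hZ1 : Nat.card (Subgroup.center ↥O) = 1 := by
    have h2 : Nat.card (Subgroup.center ↥O) ∣ 2 := by
      rw [hcard, hZ] at h120
      exact Nat.dvd_of_mul_dvd_mul_left (by norm_num : 0 < 60) h120
    rcases (Nat.dvd_prime Nat.prime_two).mp h2 with h | h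
    · exact h
    exfalso
    have htop : P.perm.range = ⊤ := Subgroup.eq_top_of_card_eq _ (by
      rw [hcard, hZ, h, Nat.card_perm, Nat.card_fin]; rfl)
    obtain ⟨⟨c, hc⟩, hc1⟩ : ∃ c : Subgroup.center ↥O, c ≠ 1 := by
      haveI : Nontrivial (Subgroup.center ↥O) := Finite.one_lt_card_iff_nontrivial.mp (by omega)
      exact exists_ne _
    refine hc1 (Subtype.ext ?_)
    have hcen : ((e'.symm c : ↥P.perm.range) : Equiv.Perm (Fin 5)) = 1 := by
      have hcomm : ∀ σ : Equiv.Perm (Fin 5), σ * (e'.symm c : ↥P.perm.range).1 =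
          (e'.symm c : ↥P.perm.range).1 * σ := by
        intro σ
        have hσ : σ ∈ P.perm.range := htop ▸ Subgroup.mem_top σ
        have := Subgroup.mem_center_iff.mp hc (e' ⟨σ, hσ⟩)
        have h2 := congrArg e'.symm this
        rw [map_mul, map_mul, e'.symm_apply_apply] at h2
        exact congrArg Subtype.val h2
      revert hcomm
      generalize (e'.symm c : ↥P.perm.range).1 = τ
      revert τ
      decide +kernel
    have : e'.symm c = 1 := Subtype.ext hcen
    simpa using congrArg e' this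
  rw [P.card_Cz, hcard, hZ, hZ1]

/-- The hypotheses of a group of Hall–Janko type. -/
theorem exists_hyp (z : G) (hz : orderOf z = 2) (Qc : Subgroup (Subgroup.centralizer ({z} : Set G)))
    [Qc.Normal] (hF : Cfsg.generalizedFittingSubgroup (Subgroup.centralizer ({z} : Set G)) = Qc)
    (hQ : Cfsg.IsExtraspecial 2 Qc) (hcard : Nat.card Qc = 2 ^ 5)
    (e : (Subgroup.centralizer ({z} : Set G)) ⧸ Qc ≃*
      Cfsg.Omega (ZMod 2) (Cfsg.quadFormMinus 1 (ZMod 2) 1 1))
    (hnwc : ∃ g : G, (∃ hq : g * z * g⁻¹ ∈ Subgroup.centralizer ({z} : Set G),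
      (⟨g * z * g⁻¹, hq⟩ : Subgroup.centralizer ({z} : Set G)) ∈ Qc) ∧ g * z * g⁻¹ ≠ z)
    (hcl : ∃ x y : G, orderOf x = 2 ∧ orderOf y = 2 ∧ ¬ IsConj x y) :
    ∃ H : Hyp G, H.z = z ∧ H.Q = Qc.map (Subgroup.centralizer ({z} : Set G)).subtype := by
  obtain ⟨g, ⟨hq, hqQ⟩, hne⟩ := hnwc
  have h5 : 5 ∣ Nat.card (Subgroup.centralizer ({z} : Set G)) := by
    rw [Subgroup.card_eq_card_quotient_mul_card_subgroup Qc, Nat.card_congr e.toEquiv,
      Subgroup.card_eq_card_quotient_mul_card_subgroup (Subgroup.center _),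
      show Nat.card (_ ⧸ Subgroup.center _) = 60 from card_POmega_minus]
    exact Dvd.dvd.mul_right (Dvd.dvd.mul_right (by norm_num) _) _
  have hself : Subgroup.centralizer (Qc : Set ↥(Subgroup.centralizer ({z} : Set G))) ≤ Qc := by
    have := Cfsg.Agent.Lib.Components.centralizer_generalizedFittingSubgroup_le
      (G := ↥(Subgroup.centralizer ({z} : Set G)))
    rwa [hF] at this
  have hz1 : z ≠ 1 := fun h => by rw [h, orderOf_one] at hz; omega
  obtain ⟨P, rfl, hPQ, hu⟩ := exists_pre z hz Qc hself hQ (by rw [hcard]; norm_num) h5 ⟨_, hq⟩ hqQ hne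
    (by
      show g * z * g⁻¹ * (g * z * g⁻¹) = 1
      rw [conj_mul, ← pow_two, ← hz, pow_orderOf_eq_one, mul_one, mul_inv_cancel])
    (fun h => hz1 (conj_eq_one_iff.mp h))
  exact ⟨{ toPre := P, card_C := card_quotient_omega P hPQ.symm e, hcl := hcl,
           hu0c := hu ▸ isConj_iff.mpr ⟨g, rfl⟩ }, rfl, hPQ⟩

end Cfsg.Agent.Lib.JankoTwoType
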