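import Cfsg.Agent.Lib.JankoTwoType.Involutions

/-!
Groups of Hall–Janko type: `C(z)/Q` is the alternating group of degree 5 and there are exactly two
classes of involutions, the second one meeting `C(z)` in the involutions outside `Q`.
-/

set_option autoImplicit false
set_option linter.unusedSectionVars false
set_option linter.style.haveILetI false

namespace Cfsg.Agent.Lib.JankoTwoType

/-- The hypothesis: `C(z)/Q` has order 60 and there are two classes of involutions. -/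
structure Hyp (G : Type*) [Group G] extends Pre G where
  card_C : Nat.card toPre.Cz = 1920
  hu0c : IsConj toPre.z toPre.u0
  hcl : ∃ x y : G, orderOf x = 2 ∧ orderOf y = 2 ∧ ¬ IsConj x y

namespace Hyp

variable {G : Type*} [Group G] [Finite G] (H : Hyp G)

theorem range_eq : H.perm.range = alternatingGroup (Fin 5) := H.toPre.range_eq H.card_C

theorem sign_perm (c : ↥H.Cz) : Equiv.Perm.sign (H.perm c) = 1 := H.toPre.sign_perm H.card_C c

theorem exists_lift {σ : Equiv.Perm (Fin 5)} (h : Equiv.Perm.sign σ = 1) :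
    ∃ c, ∃ hc : c ∈ H.Cz, H.perm ⟨c, hc⟩ = σ := H.toPre.exists_lift H.card_C h

theorem zc_u (i : Fin 5) (b : Bool) : IsConj H.z (H.u i * H.zb b) := by
  have h0 : IsConj H.z (H.u i) := H.hu0c.trans (isConj_iff.mpr ⟨_, rfl⟩)
  cases b
  · simpa using h0
  · refine h0.trans (isConj_iff.mpr ⟨H.u (i + 1), ?_⟩)
    have hne : ¬ Commute (H.u (i + 1)) (H.u i) := H.u_not_commute (by simp)
    have hnc : Pre.nc (H.u (i + 1)) (H.u i) = true := by
      rw [← Bool.not_eq_false, Pre.nc_false_iff]; exact hne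
    rw [H.mul_eq_nc (H.uQ _) (H.uQ _), hnc, mul_assoc (H.u i * H.u (i + 1)),
      H.zQ (inv_mem (H.uQ _))]
    group

theorem zc_of_mem {x : G} (hx : x ∈ H.Q) (h2 : orderOf x = 2) : IsConj H.z x := by
  by_cases hz : x = H.z
  · rw [hz]
  have h1 : x ≠ 1 := fun h => by rw [h, orderOf_one] at h2; omega
  obtain ⟨i, b, rfl⟩ := H.exists_u ⟨hx, by rw [← pow_two, ← h2, pow_orderOf_eq_one], h1, hz⟩
  exact H.zc_u i b

/-- A 2-subgroup of `G` containing a Sylow 2-subgroup of `C(z)` lies in `C(z)`. -/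
theorem exists_conj_mem_Cz {x : G} (hx : orderOf x = 2) : ∃ g : G, g * x * g⁻¹ ∈ H.Cz := by
  haveI : Fact (Nat.Prime 2) := ⟨Nat.prime_two⟩
  obtain ⟨S0, hQS⟩ : ∃ S0 : Sylow 2 H.Cz, H.Q.subgroupOf H.Cz ≤ (S0 : Subgroup H.Cz) := by
    refine IsPGroup.exists_le_sylow (IsPGroup.of_card (n := 5) ?_)
    rw [Nat.card_congr (Subgroup.subgroupOfEquivOfLe (show H.Q ≤ H.Cz from fun y hy =>
      H.mem_Cz.mpr (H.le y hy))).toEquiv, H.card]
    norm_num
  set S' : Subgroup G := (S0 : Subgroup H.Cz).map H.Cz.subtype with hS'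
  have hQS' : H.Q ≤ S' := fun y hy =>
    ⟨⟨y, H.mem_Cz.mpr (H.le y hy)⟩, hQS (Subgroup.mem_subgroupOf.mpr hy), rfl⟩
  obtain ⟨S, hS⟩ : ∃ S : Sylow 2 G, S' ≤ (S : Subgroup G) :=
    IsPGroup.exists_le_sylow (S0.isPGroup'.map _)
  -- `S` lies in `C(z)`
  have hSC : (S : Subgroup G) ⊓ H.Cz = S' := by
    refine le_antisymm ?_ (le_inf hS (Subgroup.map_subtype_le _))
    intro y hy
    have h := S0.3 (S.isPGroup'.comap_subtype (K := H.Cz))
      (fun w hw => hS ⟨w, hw, rfl⟩)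
    exact ⟨⟨y, hy.2⟩, by
      rw [← h]; exact hy.1, rfl⟩
  have hle : (S : Subgroup G) ≤ H.Cz := by
    by_contra hnot
    have hlt : S'.subgroupOf (S : Subgroup G) < ⊤ := by
      refine lt_top_iff_ne_top.mpr fun h => hnot ?_
      rw [Subgroup.subgroupOf_eq_top] at h
      exact h.trans (Subgroup.map_subtype_le _)
    haveI := S.isPGroup'.isNilpotent
    have hnorm := Group.normalizerCondition_of_isNilpotent (G := ↥(S : Subgroup G)) _ hlt
    obtain ⟨⟨n, hnS⟩, hn, hn'⟩ := SetLike.exists_of_lt hnorm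
    rw [Subgroup.mem_normalizer_iff] at hn
    have hcent : Commute n H.z := by
      set z' := n * H.z * n⁻¹ with hz'
      have hzS : H.z ∈ S' := hQS' H.hzQ
      have hz'S : z' ∈ S' := Subgroup.mem_subgroupOf.mp
        ((hn ⟨H.z, hS hzS⟩).mp (Subgroup.mem_subgroupOf.mpr hzS))
      have hz'C : Commute z' H.z := H.mem_Cz.mp (Subgroup.map_subtype_le _ hz'S)
      have hcomm : ∀ y ∈ H.Q, Commute z' y := by
        intro y hy
        have hy' : n⁻¹ * y * n ∈ S' := by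
          have := (hn ⟨n⁻¹ * y * n, mul_mem (mul_mem (inv_mem hnS) (hS (hQS' hy))) hnS⟩).mpr
            (Subgroup.mem_subgroupOf.mpr (by
              show n * (n⁻¹ * y * n) * n⁻¹ ∈ S'
              rw [show n * (n⁻¹ * y * n) * n⁻¹ = y by group]; exact hQS' hy))
          exact Subgroup.mem_subgroupOf.mp this
        have h2 : Commute (n⁻¹ * y * n) H.z := H.mem_Cz.mp (Subgroup.map_subtype_le _ hy')
        have h3 := (Commute.conj_iff n).mpr h2
        rw [show n * (n⁻¹ * y * n) * n⁻¹ = y by group] at h3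
        exact h3.symm
      have hz'Q := H.self z' hz'C hcomm
      rcases H.center z' hz'Q hcomm with h | h
      · exact absurd (conj_eq_one_iff.mp h) H.z_ne
      · exact mul_inv_eq_iff_eq_mul.mp h
    exact hn' (Subgroup.mem_subgroupOf.mpr (hSC ▸ ⟨hnS, H.mem_Cz.mpr hcent⟩))
  obtain ⟨S1, hS1⟩ : ∃ S1 : Sylow 2 G, Subgroup.zpowers x ≤ (S1 : Subgroup G) :=
    IsPGroup.exists_le_sylow (IsPGroup.of_card (n := 1) (by rw [Nat.card_zpowers, hx, pow_one]))
  obtain ⟨g, hg⟩ := MulAction.exists_smul_eq G S1 S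
  refine ⟨g, hle ?_⟩
  rw [← hg, Sylow.coe_subgroup_smul]
  exact ⟨x, hS1 (Subgroup.mem_zpowers x), rfl⟩

theorem perm_sq {c : G} (hc : c ∈ H.Cz) (h : c * c = 1) :
    H.perm ⟨c, hc⟩ * H.perm ⟨c, hc⟩ = 1 := H.toPre.perm_sq H.card_C hc h

theorem perm_conj {c y : G} (hc : c ∈ H.Cz) (hy : y ∈ H.Cz) (h : c * y * c⁻¹ ∈ H.Cz) :
    H.perm ⟨c * y * c⁻¹, h⟩ = H.perm ⟨c, hc⟩ * H.perm ⟨y, hy⟩ * (H.perm ⟨c, hc⟩)⁻¹ := H.toPre.perm_conj hc hy h

/-- An involution of `C(z)` outside `Q` can be moved over the standard double transposition. -/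
theorem exists_over_s0 {y : G} (hy : y ∈ H.Cz) (h2 : y * y = 1) (hQ : y ∉ H.Q) :
    ∃ c, ∃ _ : c ∈ H.Cz, ∃ h : c * y * c⁻¹ ∈ H.Cz, H.perm ⟨c * y * c⁻¹, h⟩ = s0 := H.toPre.exists_over_s0 H.card_C hy h2 hQ

theorem exists_t : ∃ t : G, ∃ h : t ∈ H.Cz,
    orderOf t = 2 ∧ H.perm ⟨t, h⟩ = s0 ∧ ¬ IsConj H.z t := by
  obtain ⟨x, y, hx, hy, hxy⟩ := H.hcl
  obtain ⟨w, hw, hwz⟩ : ∃ w, orderOf w = 2 ∧ ¬ IsConj H.z w := by
    by_cases h : IsConj H.z x
    · exact ⟨y, hy, fun h' => hxy (h.symm.trans h')⟩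
    · exact ⟨x, hx, h⟩
  obtain ⟨g, hg⟩ := H.exists_conj_mem_Cz hw
  have ho : orderOf (g * w * g⁻¹) = 2 := by
    rw [← hw]; exact orderOf_injective (MulAut.conj g).toMonoidHom (MulAut.conj g).injective w
  have hwg : IsConj w (g * w * g⁻¹) := isConj_iff.mpr ⟨g, rfl⟩
  have hQ : g * w * g⁻¹ ∉ H.Q := fun h => hwz ((H.zc_of_mem h ho).trans hwg.symm)
  obtain ⟨c, hc, h, hp⟩ := H.exists_over_s0 hg (by rw [← pow_two, ← ho, pow_orderOf_eq_one]) hQ
  refine ⟨_, h, ?_, hp, fun h' => hwz (h'.trans (hwg.trans (isConj_iff.mpr ⟨c, rfl⟩)).symm)⟩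
  rw [← ho]; exact orderOf_injective (MulAut.conj c).toMonoidHom (MulAut.conj c).injective _

/-- The second involution. -/
noncomputable def t : G := H.exists_t.choose

theorem tC : H.t ∈ H.Cz := H.exists_t.choose_spec.choose

theorem ht : orderOf H.t = 2 := H.exists_t.choose_spec.choose_spec.1

theorem perm_t : H.perm ⟨H.t, H.tC⟩ = s0 := H.exists_t.choose_spec.choose_spec.2.1

theorem t_nzc : ¬ IsConj H.z H.t := H.exists_t.choose_spec.choose_spec.2.2

theorem tt : H.t * H.t = 1 := by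
  rw [← pow_two]
  calc H.t ^ 2 = H.t ^ orderOf H.t := by rw [H.ht]
    _ = 1 := pow_orderOf_eq_one _

theorem t_inv : H.t⁻¹ = H.t := inv_eq_of_mul_eq_one_right H.tt

theorem tz : Commute H.t H.z := H.mem_Cz.mp H.tC

theorem t_notQ : H.t ∉ H.Q := fun h => H.t_nzc (H.zc_of_mem h H.ht)

/-- The point fixed by `t`. -/
def v : G := H.u 4

theorem vQ : H.v ∈ H.Q := H.uQ 4

theorem vv : H.v * H.v = 1 := (H.u_mem 4).2.1

theorem vz : Commute H.v H.z := H.le _ H.vQ

theorem conj_mul (x y : G) : H.t * (x * y) * H.t = (H.t * x * H.t) * (H.t * y * H.t) := H.toPre.conj_mul H.tC H.tt H.perm_t x y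

theorem t_u (i : Fin 5) : ∃ b, H.t * H.u i * H.t = H.u (s0 i) * H.zb b ∧
    H.t * H.u (s0 i) * H.t = H.u i * H.zb b := H.toPre.t_u H.tC H.tt H.perm_t i

theorem t_pair (i : Fin 5) :
    H.t * (H.u i * H.u (s0 i)) * H.t = H.u (s0 i) * H.u i := H.toPre.t_pair H.tC H.tt H.perm_t i

theorem tv : Commute H.t H.v := H.toPre.tv H.tC H.tt H.perm_t

theorem t_inverts {q : G} (hq : q ∈ H.Q) (hfix : ∀ i, H.sig q (s0 i) = H.sig q i) :
    H.t * q * H.t = q⁻¹ := H.toPre.t_inverts H.tC H.tt H.perm_t hq hfix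

theorem sig_t_conj {q : G} (hq : q ∈ H.Q) (i : Fin 5) :
    H.sig (H.t * q * H.t) (s0 i) = H.sig q i := H.toPre.sig_t_conj H.tC H.tt H.perm_t hq i

theorem tQt {q : G} (hq : q ∈ H.Q) : H.t * q * H.t ∈ H.Q := H.toPre.tQt H.tC H.tt H.perm_t hq

theorem sig_inv {q : G} (hq : q ∈ H.Q) : H.sig q⁻¹ = H.sig q := H.toPre.sig_inv hq

theorem fixed_of_commute {q : G} (hq : q ∈ H.Q) (h : H.t * q * H.t = q ∨ H.t * q * H.t = q⁻¹)
    (i : Fin 5) : H.sig q (s0 i) = H.sig q i := H.toPre.fixed_of_commute H.tC H.tt H.perm_t hq h i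

theorem commute_t_iff {q : G} (hq : q ∈ H.Q) :
    Commute H.t q ↔ ∃ a b : Bool, q = (if a then H.v else 1) * H.zb b := by
  constructor
  · intro h
    have h' : H.t * q * H.t = q := by rw [h.eq, mul_assoc, H.tt, mul_one]
    have hfix := H.fixed_of_commute hq (Or.inl h')
    have h2 : q * q = 1 := by
      have := H.t_inverts hq hfix
      rw [h'] at this
      conv_lhs => arg 1; rw [this]
      exact inv_mul_cancel q
    rcases (H.sq_iff_sig hq).mp h2 with hs | ⟨j, hs⟩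
    · obtain ⟨b, rfl⟩ := H.sig_structure.2 q hq hs
      exact ⟨false, b, by simp⟩
    · have hj : j = 4 := by
        rw [hs] at hfix
        clear hs
        revert hfix
        revert j
        decide
      subst hj
      obtain ⟨b, rfl⟩ := H.eq_of_sig hq H.vQ (hs.trans (H.sig_u 4).symm)
      exact ⟨true, b, by simp⟩
  · rintro ⟨a, b, rfl⟩
    refine Commute.mul_right ?_ (H.zb_comm H.tz b)
    split
    · exact H.tv
    · exact Commute.one_right _

/-- The involutions over the standard double transposition form one `Q`-class. -/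
theorem exists_Q_conj {c : G} (hc : c ∈ H.Cz) (hp : H.perm ⟨c, hc⟩ = s0) (h2 : c * c = 1) :
    ∃ q ∈ H.Q, q * H.t * q⁻¹ = c := H.toPre.exists_Q_conj H.tC H.tt H.perm_t hc hp h2

theorem exists_Cz_conj {y : G} (hy : y ∈ H.Cz) (h2 : y * y = 1) (hQ : y ∉ H.Q) :
    ∃ c ∈ H.Cz, c * y * c⁻¹ = H.t := by
  obtain ⟨c, hc, h, hp⟩ := H.exists_over_s0 hy h2 hQ
  obtain ⟨q, hq, hqc⟩ := H.exists_Q_conj h hp
    (by rw [show c * y * c⁻¹ * (c * y * c⁻¹) = c * (y * y) * c⁻¹ by group, h2]; group)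
  refine ⟨q⁻¹ * c, mul_mem (H.mem_Cz.mpr (H.le _ (inv_mem hq))) hc, ?_⟩
  rw [mul_inv_rev, inv_inv, show q⁻¹ * c * y * (c⁻¹ * q) = q⁻¹ * (c * y * c⁻¹) * q by group, ← hqc]
  group

theorem inv_classes {x : G} (hx : orderOf x = 2) : IsConj H.z x ∨ IsConj H.t x := by
  obtain ⟨g, hg⟩ := H.exists_conj_mem_Cz hx
  have hxg : IsConj x (g * x * g⁻¹) := isConj_iff.mpr ⟨g, rfl⟩
  have ho : orderOf (g * x * g⁻¹) = 2 := by
    rw [← hx]; exact orderOf_injective (MulAut.conj g).toMonoidHom (MulAut.conj g).injective x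
  by_cases hQ : g * x * g⁻¹ ∈ H.Q
  · exact Or.inl ((H.zc_of_mem hQ ho).trans hxg.symm)
  · obtain ⟨c, -, hct⟩ := H.exists_Cz_conj hg (by rw [← pow_two, ← ho, pow_orderOf_eq_one]) hQ
    exact Or.inr ((hxg.trans (isConj_iff.mpr ⟨c, hct⟩)).symm)

theorem zc_order {x : G} (h : IsConj H.z x) : orderOf x = 2 := by
  obtain ⟨g, rfl⟩ := isConj_iff.mp h
  rw [← H.hz]; exact orderOf_injective (MulAut.conj g).toMonoidHom (MulAut.conj g).injective H.z

/-- The conjugates of `z` in `C(z)` lie in `Q`. -/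
theorem mem_Q_of_zc {y : G} (h : IsConj H.z y) (hy : Commute y H.z) : y ∈ H.Q := by
  by_contra hQ
  obtain ⟨c, -, hct⟩ := H.exists_Cz_conj (H.mem_Cz.mpr hy)
    (by rw [← pow_two, ← H.zc_order h, pow_orderOf_eq_one]) hQ
  exact H.t_nzc (h.trans (isConj_iff.mpr ⟨c, hct⟩))

/-- The conjugates of `z` centralised by `z`. -/
theorem zc_cases {y : G} (h : IsConj H.z y) (hy : Commute y H.z) :
    y = H.z ∨ ∃ i b, y = H.u i * H.zb b := by
  by_cases hz : y = H.z
  · exact Or.inl hz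
  · have h2 := H.zc_order h
    exact Or.inr (H.exists_u ⟨H.mem_Q_of_zc h hy, by rw [← pow_two, ← h2, pow_orderOf_eq_one],
      fun h1 => by rw [h1, orderOf_one] at h2; omega, hz⟩)

end Hyp

end Cfsg.Agent.Lib.JankoTwoType
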