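import Cfsg.Agent.Lib.JankoTwoType.CentFive

/-!
Groups of Hall–Janko type: `C(m)` has order 300 for an element `m` of order 5 of `M`, and
`C(m)/⟨m⟩` is alternating of degree 5.
-/

set_option autoImplicit false
set_option linter.unusedSectionVars false
set_option linter.style.haveILetI false

namespace Cfsg.Agent.Lib.JankoTwoType.Hyp

open scoped Pointwise

variable {G : Type*} [Group G] [Finite G] (H : Hyp G)

include H in
theorem card_dvd_twentyfive (p : G) (h5 : orderOf p = 5) :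
    25 ∣ Nat.card (Subgroup.centralizer ({p} : Set G)) := by
  haveI : Fact (Nat.Prime 5) := ⟨by norm_num⟩
  obtain ⟨P, hP⟩ : ∃ P : Sylow 5 G, Subgroup.zpowers p ≤ (P : Subgroup G) :=
    IsPGroup.exists_le_sylow (IsPGroup.of_card (n := 1) (by rw [Nat.card_zpowers, h5, pow_one]))
  have hfac : (Nat.card G).factorization 5 = 2 := by
    rw [H.card_G]
    rw [show (604800 : ℕ) = 5 ^ 2 * 24192 from rfl, Nat.factorization_mul (by norm_num) (by norm_num),
      Finsupp.add_apply, Nat.Prime.factorization_pow (by norm_num : Nat.Prime 5),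
      Nat.factorization_eq_zero_of_not_dvd (by norm_num : ¬ 5 ∣ 24192)]
    simp
  have hc : Nat.card (P : Subgroup G) = 25 := by rw [P.card_eq_multiplicity, hfac]; rfl
  have hab : IsMulCommutative ↥(P : Subgroup G) :=
    IsPGroup.isMulCommutative_of_card_eq_prime_sq (p := 5) (by rw [hc]; norm_num)
  rw [← hc]
  refine Subgroup.card_dvd_of_le fun x hx => Subgroup.mem_centralizer_singleton_iff.mpr ?_
  exact congrArg Subtype.val (hab.is_comm.comm (⟨x, hx⟩ : ↥(P : Subgroup G))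
    ⟨p, hP (Subgroup.mem_zpowers p)⟩)

variable {m : G} (hm : m ∈ H.M) (h5 : orderOf m = 5)
include hm h5

/-- `C(m) ∩ N(B0) = L × ⟨m⟩`. -/
noncomputable def NB : Subgroup ↥(Subgroup.centralizer ({m} : Set G)) :=
  (Subgroup.normalizer (H.B0 : Set G)).subgroupOf _

omit hm h5 in
theorem mem_NB {x : ↥(Subgroup.centralizer ({m} : Set G))} :
    x ∈ H.NB (m := m) ↔ ∀ b ∈ H.B0, (x : G) * b * (x : G)⁻¹ ∈ H.B0 :=
  ⟨fun h b hb => ((Subgroup.mem_normalizer_iff.mp h) b).mp hb, Tools.mem_normalizer_of_conj⟩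

theorem m_NB : (⟨m, Subgroup.mem_centralizer_singleton_iff.mpr rfl⟩ :
    ↥(Subgroup.centralizer ({m} : Set G))) ∈ H.NB (m := m) := by
  refine H.mem_NB.mpr fun b hb => ?_
  show m * b * m⁻¹ ∈ H.B0
  rwa [← (H.B0_comm_M hb hm).eq, mul_inv_cancel_right]

theorem L_le_cent : H.L ≤ Subgroup.centralizer ({m} : Set G) := fun _ hl =>
  Subgroup.mem_centralizer_singleton_iff.mpr (H.L_comm_M hl hm).eq

theorem card_NB : Nat.card (H.NB (m := m)) = 60 := by
  have hmC : m ∈ Subgroup.centralizer ({m} : Set G) := Subgroup.mem_centralizer_singleton_iff.mpr rfl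
  have hLN : H.L ≤ Subgroup.normalizer (H.B0 : Set G) := sup_le Subgroup.le_normalizer
    (Subgroup.zpowers_le.mpr (Tools.mem_normalizer_of_conj fun _ hb => H.h_B0 hb))
  obtain ⟨e⟩ := Tools.mulEquiv_prod (L := H.L) (M := Subgroup.zpowers m)
    (N := Subgroup.normalizer (H.B0 : Set G) ⊓ Subgroup.centralizer ({m} : Set G))
    (le_inf hLN (H.L_le_cent hm h5))
    (Subgroup.zpowers_le.mpr ⟨H.m_NB hm h5, hmC⟩)
    (fun x hx y hy => H.L_comm_M hx (Subgroup.zpowers_le.mpr hm hy))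
    (fun x hx hxm => H.center_M (Subgroup.zpowers_le.mpr hm hxm) fun y hy => H.L_comm_M hx hy)
    (fun x hx => by
      obtain ⟨l, hl, i, e⟩ := H.norm_cent hm h5
        (fun b hb => ((Subgroup.mem_normalizer_iff.mp hx.1) b).mp hb)
        (Subgroup.mem_centralizer_singleton_iff.mp hx.2)
      exact ⟨l, hl, m ^ i, zpow_mem (Subgroup.mem_zpowers m) i, e⟩)
  have h := Nat.card_congr e.toEquiv
  rw [Nat.card_prod, H.card_L, Nat.card_zpowers, h5] at h
  rw [NB, ← Subgroup.card_map_of_injective (Subgroup.subtype_injective _),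
    Subgroup.subgroupOf_map_subtype]
  exact h

theorem spread_m : ∃ x y : G, Commute x m ∧ Commute y m ∧ orderOf x = 2 ∧ orderOf y = 2 ∧
    ¬ Commute x y := by
  by_contra hno
  push Not at hno
  -- then `C(m)` normalises `B0`
  have htm : Commute H.t m := (H.M_commute_t hm).symm
  have hall : H.NB (m := m) = ⊤ := by
    rw [eq_top_iff]
    rintro ⟨x, hx⟩ -
    refine H.mem_NB.mpr fun b hb => ?_
    by_cases hb1 : b = 1
    · subst hb1; simp [one_mem]
    have hxm : Commute x m := Subgroup.mem_centralizer_singleton_iff.mp hx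
    have hym : Commute (x * b * x⁻¹) m :=
      (hxm.mul_left (H.B0_comm_M hb hm)).mul_left hxm.inv_left
    have hb2 : orderOf (x * b * x⁻¹) = 2 := by
      rw [← orderOf_eq_prime (p := 2) (x := b) (by rw [pow_two]; exact H.T_sq (H.B0_le_T hb)) hb1]
      exact orderOf_injective (MulAut.conj x).toMonoidHom (MulAut.conj x).injective b
    obtain ⟨b', hb', i, e⟩ := H.cent_m_t hm h5 hym (hno _ _ hym htm hb2 H.ht)
    suffices hmi : m ^ i = 1 by
      show x * b * x⁻¹ ∈ H.B0
      rw [e, hmi, mul_one]; exact hb'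
    have h2 : (x * b * x⁻¹) ^ 2 = 1 := hb2 ▸ pow_orderOf_eq_one _
    rw [e, ((H.B0_comm_M hb' hm).zpow_right i).mul_pow, pow_two b', H.T_sq (H.B0_le_T hb'), one_mul] at h2
    have h3 : orderOf (m ^ i) ∣ 5 := orderOf_dvd_of_pow_eq_one (by
      rw [← zpow_natCast, ← zpow_mul, mul_comm, zpow_mul, zpow_natCast,
        show m ^ 5 = 1 from h5 ▸ pow_orderOf_eq_one m, one_zpow])
    exact orderOf_eq_one_iff.mp (Nat.eq_one_of_dvd_coprimes (by norm_num : Nat.Coprime 5 2) h3
      (orderOf_dvd_of_pow_eq_one h2))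
  have h60 := H.card_NB hm h5
  rw [hall, Subgroup.card_top] at h60
  have := H.card_dvd_twentyfive m h5
  rw [h60] at this
  norm_num at this

theorem center_cent {c : ↥(Subgroup.centralizer ({m} : Set G))}
    (hc : c ∈ Subgroup.center ↥(Subgroup.centralizer ({m} : Set G))) :
    ∃ i : ℤ, (c : G) = m ^ i := by
  have hct : Commute (c : G) H.t := (congrArg Subtype.val (Subgroup.mem_center_iff.mp hc
    ⟨H.t, H.B0_le_cent hm h5 H.tB0⟩)).symm
  obtain ⟨b, hb, i, e⟩ := H.cent_m_t hm h5 (Subgroup.mem_centralizer_singleton_iff.mp c.2) hct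
  refine ⟨i, ?_⟩
  suffices hb1 : b = 1 by rw [e, hb1, one_mul]
  by_contra hb1
  obtain ⟨n, hn⟩ := H.B0_orbit hb hb1
  have hch : Commute (c : G) H.h := (congrArg Subtype.val (Subgroup.mem_center_iff.mp hc
    ⟨H.h, H.h_cent hm h5⟩)).symm
  have hbh : Commute b H.h := by
    have := hch.mul_left (((H.h_comm_M hm).symm.zpow_left i).inv_left)
    rwa [e, mul_inv_cancel_right] at this
  have hbt : b = H.t := by
    have h1 := (hbh.pow_right n).symm
    rw [← hn] at h1
    have e2 : H.h ^ n * (H.h ^ n * H.t * (H.h ^ n)⁻¹) * (H.h ^ n)⁻¹ = H.h ^ n * H.t * (H.h ^ n)⁻¹ := by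
      rw [h1.eq, mul_inv_cancel_right]
    rw [← hn]
    exact mul_left_cancel (mul_right_cancel e2)
  exact H.h_not_Ct (H.mem_Ct.mpr (hbt ▸ hbh).symm)

theorem card_cent_m :
    Nat.card (Subgroup.centralizer ({m} : Set G)) = 300 ∧
      ∀ x ∈ Subgroup.centralizer ({m} : Set G), x ^ 25 = 1 → x ^ 5 = 1 := by
  classical
  haveI : Fact (Nat.Prime 2) := ⟨Nat.prime_two⟩
  set C := Subgroup.centralizer ({m} : Set G) with hC
  have htC : H.t ∈ C := H.B0_le_cent hm h5 H.tB0
  have hinv : ∀ {w : ↥C}, AbelianInvCentralizer.IsInv w → orderOf (w : G) = 2 := fun hw => by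
    rw [Subgroup.orderOf_coe]; exact AbelianInvCentralizer.isInv_iff.mp hw
  have hmk : ∀ (y : G) (hy : y ∈ C), orderOf y = 2 → AbelianInvCentralizer.IsInv (⟨y, hy⟩ : ↥C) :=
    fun y hy h => AbelianInvCentralizer.isInv_iff.mpr (by rw [Subgroup.orderOf_mk]; exact h)
  have hAC : AbelianInvCentralizer.HasAbelianCent ↥C := by
    intro w hw a b ha hb
    have hwm : Commute (w : G) m := Subgroup.mem_centralizer_singleton_iff.mp w.2
    have hw2 := hinv hw
    obtain ⟨c, hcm, hcB⟩ := H.inv_cent_m hm h5 hwm (by rw [← pow_two, ← hw2, pow_orderOf_eq_one])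
    have hc1 : c * (w : G) * c⁻¹ ≠ 1 := fun h => by
      rw [conj_eq_one_iff] at h; rw [h, orderOf_one] at hw2; omega
    have key : ∀ y : ↥C, Commute y w → ∃ b' ∈ H.B0, ∃ i : ℤ, c * (y : G) * c⁻¹ = b' * m ^ i :=
      fun y hy => H.cent_m_B0 hm h5 hcB hc1
        ((hcm.mul_left (Subgroup.mem_centralizer_singleton_iff.mp y.2)).mul_left hcm.inv_left)
        ((Commute.conj_iff c).mpr (congrArg Subtype.val hy))
    obtain ⟨b1, hb1, i, e1⟩ := key a ha
    obtain ⟨b2, hb2, j, e2⟩ := key b hb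
    refine Subtype.ext ((Commute.conj_iff c).mp ?_).eq
    rw [e1, e2]
    exact ((H.B0_comm hb1 hb2).mul_right ((H.B0_comm_M hb1 hm).zpow_right j)).mul_left
      (((H.B0_comm_M hb2 hm).zpow_right i).symm.mul_right (((Commute.refl m).zpow_left i).zpow_right j))
  have hS : AbelianInvCentralizer.HasSpread ↥C := by
    obtain ⟨x, y, hxm, hym, hx, hy, hxy⟩ := H.spread_m hm h5
    exact ⟨⟨x, Subgroup.mem_centralizer_singleton_iff.mpr hxm.eq⟩,
      ⟨y, Subgroup.mem_centralizer_singleton_iff.mpr hym.eq⟩, hmk _ _ hx, hmk _ _ hy,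
      fun h => hxy (congrArg Subtype.val h)⟩
  have hF : AbelianInvCentralizer.HasFour ↥C := by
    have hs : H.h * H.t * H.h⁻¹ ∈ H.B0 := H.h_B0 H.tB0
    refine ⟨⟨H.t, htC⟩, ⟨_, H.B0_le_cent hm h5 hs⟩, hmk _ _ H.ht, hmk _ _ ?_, ?_,
      Subtype.ext (H.B0_comm H.tB0 hs).eq⟩
    · rw [← H.ht]; exact orderOf_injective (MulAut.conj H.h).toMonoidHom (MulAut.conj H.h).injective _
    · intro h
      exact H.h_not_Ct (H.mem_Ct.mpr (mul_inv_eq_iff_eq_mul.mp (congrArg Subtype.val h).symm))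
  obtain ⟨F, _, _, f, _, hf, hFc, -, ⟨e⟩⟩ := AbelianInvCentralizer.exists_slTwo_prod hAC hS hF
  have hmC : m ∈ C := Subgroup.mem_centralizer_singleton_iff.mpr rfl
  have hcen : Subgroup.center ↥C = Subgroup.zpowers (⟨m, hmC⟩ : ↥C) := by
    refine le_antisymm (fun c hc => ?_) (Subgroup.zpowers_le.mpr (Subgroup.mem_center_iff.mpr
      fun y => Subtype.ext (Subgroup.mem_centralizer_singleton_iff.mp y.2)))
    obtain ⟨i, hi⟩ := H.center_cent hm h5 hc
    exact ⟨i, Subtype.ext (by simpa using hi.symm)⟩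
  have hc5 : Nat.card (Subgroup.center ↥C) = 5 := by
    rw [hcen, Nat.card_zpowers, Subgroup.orderOf_mk, h5]
  have hcard := Nat.card_congr e.toEquiv
  rw [Nat.card_prod, hc5] at hcard
  have hSL := Cfsg.Agent.Lib.LinGroup.card_SL_mul (F := F) 2 (by norm_num)
  rw [Fin.prod_univ_two, hFc] at hSL
  simp only [Fin.val_zero, Fin.val_one, pow_zero, pow_one] at hSL
  have h4 : ¬ 8 ∣ Nat.card ↥C := by
    intro h8
    obtain ⟨S, hS'⟩ := H.exists_sylow_m hm h5
    have hi := Subgroup.card_mul_index (S : Subgroup ↥C)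
    rw [hS', Nat.card_congr (Subgroup.subgroupOfEquivOfLe (H.B0_le_cent hm h5)).toEquiv, H.card_B0]
      at hi
    have := S.not_dvd_index
    rw [hS'] at this
    exact this (Nat.dvd_of_mul_dvd_mul_left (by norm_num : 0 < 4) (by rw [hi]; exact h8))
  set s := Nat.card (Matrix.SpecialLinearGroup (Fin 2) F)
  have hs60 : s = 60 := by
    by_cases hf2 : f = 2
    · subst hf2; norm_num at hSL; omega
    exfalso
    obtain ⟨g, rfl⟩ : ∃ g, f = g + 3 := ⟨f - 3, by omega⟩
    obtain ⟨r, hr⟩ : ∃ r, 2 ^ (g + 3) = r + 1 :=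
      ⟨2 ^ (g + 3) - 1, by have := Nat.one_le_two_pow (n := g + 3); omega⟩
    have hr0 : 0 < r := by
      have : 2 ^ 3 ≤ 2 ^ (g + 3) := Nat.pow_le_pow_right (by norm_num) (by omega)
      omega
    rw [hr, Nat.add_sub_cancel, show (r + 1) ^ 2 - 1 = r * (r + 2) by
      rw [Nat.sub_eq_iff_eq_add (Nat.one_le_pow _ _ (by omega))]; ring,
      show (r + 1) ^ 2 - (r + 1) = r * (r + 1) by
      rw [Nat.sub_eq_iff_eq_add (Nat.le_self_pow (by norm_num) _)]; ring] at hSL
    have hs' : s = (r + 2) * (r * (r + 1)) := Nat.eq_of_mul_eq_mul_left hr0 (by rw [hSL]; ring)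
    refine h4 (hcard ▸ Dvd.dvd.mul_right ?_ 5)
    rw [hs', ← hr, pow_add]
    exact ⟨(r + 2) * (r * 2 ^ g), by ring⟩
  refine ⟨by rw [hcard, hs60], fun x hx h25 => ?_⟩
  set x' : ↥C := ⟨x, hx⟩
  have h1 : (e x') ^ 25 = 1 := by
    rw [← map_pow, show x' ^ 25 = 1 from Subtype.ext h25, map_one]
  have h2 : (e x') ^ 5 = 1 := by
    refine Prod.ext ?_ ?_
    · have ha : orderOf (e x').1 ∣ 60 := hs60 ▸ orderOf_dvd_natCard _
      have hb : orderOf (e x').1 ∣ 25 := orderOf_dvd_of_pow_eq_one (congrArg Prod.fst h1)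
      exact orderOf_dvd_iff_pow_eq_one.mp ((Nat.dvd_gcd ha hb).trans (by norm_num))
    · exact orderOf_dvd_iff_pow_eq_one.mp (hc5 ▸ orderOf_dvd_natCard _)
  exact congrArg Subtype.val (e.injective ((map_pow e x' 5).trans (h2.trans (map_one e).symm)))

/-- The map to the alternating group of degree 5. -/
theorem exists_quotient : ∃ f : ↥(Subgroup.centralizer ({m} : Set G)) →* alternatingGroup (Fin 5),
    Function.Surjective f ∧ ∀ x, f x = 1 ↔ (x : G) ∈ Subgroup.zpowers m := by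
  classical
  set C := Subgroup.centralizer ({m} : Set G) with hC
  have hC300 := (H.card_cent_m hm h5).1
  have hindex : (H.NB (m := m)).index = 5 := by
    have h := (H.NB (m := m)).card_mul_index
    rw [H.card_NB hm h5, hC300] at h
    omega
  obtain ⟨e⟩ := Finite.card_eq.mp (show Nat.card (↥C ⧸ H.NB (m := m)) = Nat.card (Fin 5) by
    rw [Nat.card_fin, ← hindex, Subgroup.index_eq_card])
  set g : ↥C →* Equiv.Perm (Fin 5) :=
    (e.permCongrHom : Equiv.Perm (↥C ⧸ H.NB (m := m)) ≃* Equiv.Perm (Fin 5)).toMonoidHom.comp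
      (MulAction.toPermHom ↥C (↥C ⧸ H.NB (m := m))) with hg
  set K := (H.NB (m := m)).normalCore with hKdef
  have hker : g.ker = K := by
    rw [hKdef, Subgroup.normalCore_eq_ker]
    ext x
    simp [g, MonoidHom.mem_ker]
    rfl
  have hmC : m ∈ C := Subgroup.mem_centralizer_singleton_iff.mpr rfl
  have hmK : (⟨m, hmC⟩ : ↥C) ∈ K := by
    intro b
    rw [show b * ⟨m, hmC⟩ * b⁻¹ = (⟨m, hmC⟩ : ↥C) from Subtype.ext (by
      show (b : G) * m * (b : G)⁻¹ = m
      rw [Subgroup.mem_centralizer_singleton_iff.mp b.2, mul_inv_cancel_right])]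
    exact H.m_NB hm h5
  have hKn : K.Normal := Subgroup.normalCore_normal _
  -- no involution in the core
  have hno : ∀ x : ↥C, x ∈ K → orderOf (x : G) ≠ 2 := by
    intro x hx hx2
    obtain ⟨a, b, ham, hbm, ha, hb, hab⟩ := H.spread_m hm h5
    have hin : ∀ y : G, Commute y m → orderOf y = 2 → y ∈ H.B0 := by
      intro y hym hy
      obtain ⟨c, hcm, hcB⟩ := H.inv_cent_m hm h5 hym (by rw [← pow_two, ← hy, pow_orderOf_eq_one])
      have hxm : Commute (x : G) m := Subgroup.mem_centralizer_singleton_iff.mp x.2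
      obtain ⟨d, hdm, hdB⟩ := H.inv_cent_m hm h5 hxm (by rw [← pow_two, ← hx2, pow_orderOf_eq_one])
      have hd1 : d * (x : G) * d⁻¹ ≠ 1 := fun h => by
        rw [conj_eq_one_iff] at h; rw [h, orderOf_one] at hx2; omega
      have hy1 : c * y * c⁻¹ ≠ 1 := fun h => by
        rw [conj_eq_one_iff] at h; rw [h, orderOf_one] at hy; omega
      obtain ⟨i, hi⟩ := H.B0_orbit hdB hd1
      obtain ⟨j, hj⟩ := H.B0_orbit hcB hy1
      set w := c⁻¹ * H.h ^ j * (H.h ^ i)⁻¹ * d
      have hwm : Commute w m := ((hcm.inv_left.mul_left ((H.h_comm_M hm).pow_left j)).mul_left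
        ((H.h_comm_M hm).pow_left i).inv_left).mul_left hdm
      have hyK : (⟨y, Subgroup.mem_centralizer_singleton_iff.mpr hym.eq⟩ : ↥C) ∈ K := by
        convert hKn.conj_mem x hx ⟨w, Subgroup.mem_centralizer_singleton_iff.mpr hwm.eq⟩ using 1
        refine Subtype.ext ?_
        show y = w * (x : G) * w⁻¹
        calc y = c⁻¹ * (c * y * c⁻¹) * c := by group
          _ = c⁻¹ * (H.h ^ j * ((H.h ^ i)⁻¹ * (d * (x : G) * d⁻¹) * H.h ^ i) * (H.h ^ j)⁻¹) * c := by
              rw [← hj, ← hi]; group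
          _ = _ := by simp only [w]; group
      obtain ⟨l, hl, n, hn⟩ := H.norm_cent hm h5
        (H.mem_NB.mp (Subgroup.normalCore_le _ hyK)) hym
      replace hn : y = l * m ^ n := hn
      obtain ⟨b', hb', z, hz, rfl⟩ := H.L_decomp hl
      have hy2 : y ^ 2 = 1 := hy ▸ pow_orderOf_eq_one y
      have hlm : Commute (b' * z) m := H.L_comm_M hl hm
      rw [hn, (hlm.zpow_right n).mul_pow] at hy2
      have hM1 : (m ^ n) ^ 2 = 1 := H.center_M (pow_mem (zpow_mem hm n) _) fun y hy => by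
        rw [eq_inv_of_mul_eq_one_right hy2]
        exact ((H.L_comm_M hl hy).pow_left 2).inv_left
      have hmn : m ^ n = 1 := orderOf_eq_one_iff.mp (Nat.eq_one_of_dvd_coprimes
        (by norm_num : Nat.Coprime 5 2) (orderOf_dvd_of_pow_eq_one (by
          rw [← zpow_natCast, ← zpow_mul, mul_comm, zpow_mul, zpow_natCast,
            show m ^ 5 = 1 from h5 ▸ pow_orderOf_eq_one m, one_zpow]))
        (orderOf_dvd_of_pow_eq_one hM1))
      rw [hM1, mul_one] at hy2
      rw [hmn, mul_one] at hn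
      -- the image of `b' z` in `L/B0` is an involution in a group of order 3
      obtain ⟨k, rfl⟩ := hz
      have hnorm : ∀ u ∈ H.B0, H.h ^ k * u * (H.h ^ k)⁻¹ ∈ H.B0 := fun u hu =>
        ((Subgroup.mem_normalizer_iff.mp (zpow_mem
          (Tools.mem_normalizer_of_conj fun _ hb => H.h_B0 hb) k)) u).mp hu
      have hk2 : H.h ^ k * H.h ^ k ∈ Subgroup.zpowers H.h :=
        mul_mem (zpow_mem (Subgroup.mem_zpowers _) k) (zpow_mem (Subgroup.mem_zpowers _) k)
      have hkT : H.h ^ k * H.h ^ k ∈ H.B0 := by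
        have e' : H.h ^ k * H.h ^ k = (H.h ^ k * b' * (H.h ^ k)⁻¹)⁻¹ * b'⁻¹ := by
          calc H.h ^ k * H.h ^ k = (H.h ^ k * b' * (H.h ^ k)⁻¹)⁻¹ * b'⁻¹ *
                ((b' * H.h ^ k) * (b' * H.h ^ k)) := by group
            _ = _ := by rw [← pow_two, hy2, mul_one]
        rw [e']; exact mul_mem (inv_mem (hnorm _ hb')) (inv_mem hb')
      have h1 := H.zpowers_h_T hk2 (H.B0_le_T hkT)
      have hk1 : H.h ^ k = 1 := orderOf_eq_one_iff.mp (Nat.eq_one_of_dvd_coprimes
        (by norm_num : Nat.Coprime 3 2) (orderOf_dvd_of_pow_eq_one (by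
          rw [← zpow_natCast, ← zpow_mul, mul_comm, zpow_mul, zpow_natCast, H.h3, one_zpow]))
        (orderOf_dvd_of_pow_eq_one (by rw [pow_two]; exact h1)))
      rw [hn, show b' * H.h ^ k = b' by rw [hk1, mul_one]]
      exact hb'
    exact hab (H.B0_comm (hin a ham ha) (hin b hbm hb))
  have hK : ∀ x : ↥C, x ∈ K ↔ (x : G) ∈ Subgroup.zpowers m := by
    intro x
    refine ⟨fun hx => ?_, ?_⟩
    swap
    · rintro ⟨i, hi⟩
      rw [show x = (⟨m, hmC⟩ : ↥C) ^ i from Subtype.ext (by simpa using hi.symm)]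
      exact zpow_mem hmK i
    have hxm : Commute (x : G) m := Subgroup.mem_centralizer_singleton_iff.mp x.2
    obtain ⟨l, hl, n, hn⟩ := H.norm_cent hm h5 (H.mem_NB.mp (Subgroup.normalCore_le _ hx)) hxm
    replace hn : (x : G) = l * m ^ n := hn
    have hmn : m ^ n ∈ C := zpow_mem hmC n
    have hlC : l ∈ C := H.L_le_cent hm h5 hl
    have hlK : (⟨l, hlC⟩ : ↥C) ∈ K := by
      have := mul_mem hx (inv_mem (zpow_mem hmK n))
      convert this using 1
      exact Subtype.ext (by simp [hn])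
    have hB : ∀ b, ∀ hb : b ∈ H.B0, (⟨b, H.B0_le_cent hm h5 hb⟩ : ↥C) ∈ K → b = 1 := by
      intro b hb hbK
      by_contra hb1
      exact hno _ hbK (orderOf_eq_prime (by rw [pow_two]; exact H.T_sq (H.B0_le_T hb)) hb1)
    have htC : H.t ∈ C := H.B0_le_cent hm h5 H.tB0
    have hlB : ∀ b ∈ H.B0, l * b * l⁻¹ ∈ H.B0 := fun b hb => H.mem_NB.mp (Subgroup.normalCore_le _ hlK) b hb
    have hw : H.t * (l * H.t⁻¹ * l⁻¹) ∈ H.B0 := mul_mem H.tB0 (hlB _ (inv_mem H.tB0))
    have hwK : (⟨H.t * (l * H.t⁻¹ * l⁻¹), H.B0_le_cent hm h5 hw⟩ : ↥C) ∈ K := by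
      convert mul_mem (hKn.conj_mem _ hlK ⟨H.t, htC⟩) (inv_mem hlK) using 1
      exact Subtype.ext (by simp [mul_assoc])
    have h1 := hB _ hw hwK
    have hlt : Commute l H.t := by
      have e' : l * H.t⁻¹ * l⁻¹ = H.t⁻¹ := eq_inv_of_mul_eq_one_right h1
      rw [H.t_inv] at e'
      exact mul_inv_eq_iff_eq_mul.mp e'
    obtain ⟨b, hb, c, hc, rfl⟩ := H.L_decomp hl
    have hct : Commute c H.t := by
      have := (H.Ct_comm_B0 (H.T_le_Ct H.tT) (inv_mem hb)).symm.mul_left hlt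
      rwa [inv_mul_cancel_left] at this
    have hc1 := H.zpowers_h_T hc (H.mem_T.mpr ⟨by
      obtain ⟨i, rfl⟩ := hc; exact (H.mem_E.mp H.hE).1.zpow_left i, hct⟩)
    have hb1 : b = 1 := hB b hb (by
      convert hlK using 1
      exact Subtype.ext (by simp [hc1]))
    rw [hn, hb1, hc1, one_mul, one_mul]
    exact zpow_mem (Subgroup.mem_zpowers m) n
  have hrange : g.range = alternatingGroup (Fin 5) := by
    refine Equiv.Perm.eq_alternatingGroup_of_index_eq_two ?_
    have hK5 : Nat.card g.ker = 5 := by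
      rw [hker, ← h5, ← Nat.card_zpowers]
      exact Nat.card_congr
        { toFun := fun x => ⟨(x.1 : G), (hK _).mp x.2⟩
          invFun := fun x => ⟨⟨x, Subgroup.zpowers_le.mpr hmC x.2⟩, (hK _).mpr x.2⟩
          left_inv := fun x => rfl
          right_inv := fun x => rfl }
    have h := Subgroup.card_mul_index g.ker
    rw [Subgroup.index_ker, hK5, hC300] at h
    have h2 := g.range.card_mul_index
    rw [show Nat.card g.range = 60 by omega, Nat.card_perm, Nat.card_fin] at h2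
    norm_num [Nat.factorial] at h2
    omega
  refine ⟨(MulEquiv.subgroupCongr hrange).toMonoidHom.comp g.rangeRestrict,
    (MulEquiv.subgroupCongr hrange).surjective.comp g.rangeRestrict_surjective, fun x => ?_⟩
  rw [← hK, ← hker, MonoidHom.mem_ker]
  exact Subtype.ext_iff

end Cfsg.Agent.Lib.JankoTwoType.Hyp
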