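import Cfsg.Agent.Lib.JankoTwoType.CentFive

/-!
Groups of Hall–Janko type: the centraliser of an element of order 3 of `M`.
-/

set_option autoImplicit false
set_option linter.unusedSectionVars false
set_option linter.style.haveILetI false

namespace Cfsg.Agent.Lib.JankoTwoType

set_option maxRecDepth 4000 in
set_option synthInstance.maxSize 2000 in
theorem comm_three : ∀ σ : Equiv.Perm (Fin 5), Equiv.Perm.sign σ = 1 → σ ^ 3 = 1 → σ ≠ 1 →
    ∀ τ : Equiv.Perm (Fin 5), Equiv.Perm.sign τ = 1 → σ * τ = τ * σ → τ ^ 3 = 1 := by decide +kernel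

namespace Hyp

open scoped Pointwise

variable {G : Type*} [Group G] [Finite G] (H : Hyp G)

theorem three_pow_M {p : G} (hp : p ∈ H.M) (h5 : orderOf p = 3) {x : G} (hx : x ∈ H.M)
    (hc : Commute p x) : x ∈ Subgroup.zpowers p := by
  haveI : Fact (Nat.Prime 3) := ⟨by norm_num⟩
  set C : Subgroup ↥H.M := Subgroup.centralizer {⟨p, hp⟩}
  obtain ⟨e⟩ := H.M_alternating
  have hC5 : IsPGroup 3 ↥C := by
    intro ⟨y, hy⟩
    refine ⟨1, Subtype.ext (e.injective (Subtype.ext ?_))⟩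
    simp only [pow_one, SubmonoidClass.mk_pow, map_pow, Subgroup.coe_one, map_one,
      SubmonoidClass.coe_pow]
    have hpo : orderOf (⟨p, hp⟩ : ↥H.M) = 3 := by rw [Subgroup.orderOf_mk]; exact h5
    refine comm_three _ (Equiv.Perm.mem_alternatingGroup.mp (e ⟨p, hp⟩).2) ?_ ?_ _
      (Equiv.Perm.mem_alternatingGroup.mp (e y).2) ?_
    · have hp5 : (⟨p, hp⟩ : ↥H.M) ^ 3 = 1 := hpo ▸ pow_orderOf_eq_one _
      rw [← SubmonoidClass.coe_pow, ← map_pow, hp5, map_one]; rfl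
    · intro h
      have : (⟨p, hp⟩ : ↥H.M) = 1 := e.injective ((Subtype.ext h : e ⟨p, hp⟩ = 1).trans (map_one e).symm)
      rw [this, orderOf_one] at hpo
      omega
    · have h : y * ⟨p, hp⟩ = ⟨p, hp⟩ * y := Subgroup.mem_centralizer_singleton_iff.mp hy
      exact (congrArg Subtype.val (by rw [← map_mul, ← map_mul, h] : e y * e ⟨p, hp⟩ = e ⟨p, hp⟩ * e y)).symm
  obtain ⟨n, hn⟩ := hC5.exists_card_eq
  have hdvd : Nat.card ↥C ∣ 60 := H.card_M_eq ▸ C.card_subgroup_dvd_card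
  have hle : Subgroup.zpowers (⟨p, hp⟩ : ↥H.M) ≤ C :=
    Subgroup.zpowers_le.mpr (Subgroup.mem_centralizer_singleton_iff.mpr rfl)
  have hn1 : n ≤ 1 := by
    by_contra hlt
    have h9 : 3 ^ 2 ∣ 60 := (pow_dvd_pow 3 (show 2 ≤ n by omega)).trans (hn ▸ hdvd)
    norm_num at h9
  have heq : Subgroup.zpowers (⟨p, hp⟩ : ↥H.M) = C := Subgroup.eq_of_le_of_card_ge hle (by
    rw [Nat.card_zpowers, Subgroup.orderOf_mk, h5, hn]
    calc 3 ^ n ≤ 3 ^ 1 := Nat.pow_le_pow_right (by norm_num) hn1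
      _ = 3 := pow_one 3)
  have hxC : (⟨x, hx⟩ : ↥H.M) ∈ C :=
    Subgroup.mem_centralizer_singleton_iff.mpr (Subtype.ext hc.eq.symm)
  rw [← heq] at hxC
  obtain ⟨i, hi⟩ := hxC
  exact ⟨i, congrArg Subtype.val hi⟩

theorem mem_M_of_three {p : G} (h3 : orderOf p = 3) (hp : Commute p H.t) : p ∈ H.M := by
  refine H.mem_M.mpr ⟨H.mem_Ct.mpr hp, ?_⟩
  set q := H.phi ⟨p, H.mem_Ct.mpr hp⟩ with hq
  have h1 : q ^ 3 = 1 := by
    rw [hq, ← map_pow, ← map_one H.phi]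
    congr 1
    refine Subtype.ext ?_
    rw [SubmonoidClass.mk_pow]
    exact h3 ▸ pow_orderOf_eq_one p
  have h2 : q ^ 2 = 1 := Subtype.ext (by
    rw [SubmonoidClass.coe_pow, pow_two]; exact H.T_sq (H.B0_le_T q.2))
  rwa [pow_succ, h2, one_mul] at h1

variable {m : G} (hm : m ∈ H.M) (ho : orderOf m = 3)
include hm ho

theorem comm_m3_B0 {b : G} (hb : b ∈ H.B0) : Commute b m := H.B0_comm_M hb hm

theorem cent_m3_t {x : G} (hxm : Commute x m) (hxt : Commute x H.t) :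
    ∃ b ∈ H.B0, ∃ i : ℤ, x = b * m ^ i := by
  obtain ⟨b, hb, y, hy, rfl⟩ := H.Ct_decomp (H.mem_Ct.mpr hxt)
  have hym : Commute y m := by
    have := (H.B0_comm_M hb hm).inv_left.mul_left hxm
    rwa [inv_mul_cancel_left] at this
  obtain ⟨i, hi⟩ := H.three_pow_M hm ho hy hym.symm
  exact ⟨b, hb, i, by rw [← hi]⟩

theorem B0_le_cent3 : H.B0 ≤ Subgroup.centralizer {m} := fun _ hb =>
  Subgroup.mem_centralizer_singleton_iff.mpr (H.B0_comm_M hb hm).eq

theorem h_cent3 : H.h ∈ Subgroup.centralizer ({m} : Set G) :=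
  Subgroup.mem_centralizer_singleton_iff.mpr (H.h_comm_M hm).eq

/-- The normaliser of `B0` in `C(m)`. -/
theorem norm_cent3 {n : G} (hn : ∀ b ∈ H.B0, n * b * n⁻¹ ∈ H.B0) (hnm : Commute n m) :
    ∃ l ∈ H.L, ∃ i : ℤ, n = l * m ^ i := by
  obtain ⟨a, ha, y, hy, rfl⟩ := H.norm_B0_decomp (Tools.mem_normalizer_of_conj hn)
  have hym : Commute y m := by
    have := (H.L_comm_M ha hm).inv_left.mul_left hnm
    rwa [inv_mul_cancel_left] at this
  obtain ⟨i, hi⟩ := H.three_pow_M hm ho hy hym.symm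
  exact ⟨a, ha, i, by rw [← hi]⟩

/-- `B0` is a Sylow 2-subgroup of `C(m)`. -/
theorem exists_sylow_m3 : ∃ S : Sylow 2 ↥(Subgroup.centralizer ({m} : Set G)),
    (S : Subgroup ↥(Subgroup.centralizer ({m} : Set G))) = H.B0.subgroupOf _ := by
  haveI : Fact (Nat.Prime 2) := ⟨Nat.prime_two⟩
  have hle := H.B0_le_cent3 hm ho
  obtain ⟨S, hS⟩ : ∃ S : Sylow 2 ↥(Subgroup.centralizer ({m} : Set G)),
      H.B0.subgroupOf (Subgroup.centralizer ({m} : Set G)) ≤ S :=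
    IsPGroup.exists_le_sylow (IsPGroup.of_card (n := 2) (by
      rw [Nat.card_congr (Subgroup.subgroupOfEquivOfLe hle).toEquiv, H.card_B0]; norm_num))
  refine ⟨S, le_antisymm ?_ hS⟩
  by_contra hnot
  have hlt : (H.B0.subgroupOf (Subgroup.centralizer ({m} : Set G))).subgroupOf
      (S : Subgroup ↥(Subgroup.centralizer ({m} : Set G))) < ⊤ :=
    lt_top_iff_ne_top.mpr fun h => hnot (Subgroup.subgroupOf_eq_top.mp h)
  haveI := S.isPGroup'.isNilpotent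
  obtain ⟨⟨⟨n, hnC⟩, hnS⟩, hn, hn'⟩ := SetLike.exists_of_lt
    (Group.normalizerCondition_of_isNilpotent
      (G := ↥(S : Subgroup ↥(Subgroup.centralizer ({m} : Set G)))) _ hlt)
  rw [Subgroup.mem_normalizer_iff] at hn
  have hnm : Commute n m := Subgroup.mem_centralizer_singleton_iff.mp hnC
  obtain ⟨l, hl, i, e⟩ := H.norm_cent3 hm ho (fun b hb => (hn ⟨⟨b, hle hb⟩, hS hb⟩).mp hb) hnm
  obtain ⟨j, hj⟩ := S.isPGroup' ⟨⟨n, hnC⟩, hnS⟩
  have hj' : n ^ 2 ^ j = 1 := congrArg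
    (fun y : ↥(S : Subgroup ↥(Subgroup.centralizer ({m} : Set G))) =>
      ((y : ↥(Subgroup.centralizer ({m} : Set G))) : G)) hj
  have hlm : Commute l m := H.L_comm_M hl hm
  replace e : n = l * m ^ i := e
  rw [e, (hlm.zpow_right i).mul_pow] at hj'
  -- the `m`-part is trivial
  have hmL : (m ^ i) ^ 2 ^ j ∈ H.L := by
    rw [eq_inv_of_mul_eq_one_right hj']; exact inv_mem (pow_mem hl _)
  have h1 : (m ^ i) ^ 2 ^ j = 1 := H.center_M (pow_mem (zpow_mem hm i) _)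
    fun y hy => H.L_comm_M hmL hy
  have hmi : m ^ i = 1 := by
    have h2 : orderOf (m ^ i) ∣ 2 ^ j := orderOf_dvd_of_pow_eq_one h1
    have h3 : orderOf (m ^ i) ∣ 3 := orderOf_dvd_of_pow_eq_one (by
      rw [← zpow_natCast, ← zpow_mul, mul_comm, zpow_mul, zpow_natCast,
        show m ^ 3 = 1 from ho ▸ pow_orderOf_eq_one m, one_zpow])
    exact orderOf_eq_one_iff.mp (Nat.eq_one_of_dvd_coprimes
      ((Nat.Coprime.pow_left j (by norm_num : Nat.Coprime 2 3))) h2 h3)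
  rw [h1, mul_one] at hj'
  rw [hmi, mul_one] at e
  -- a 2-element of `L` lies in `B0`
  obtain ⟨b, hb, c, hc, e'⟩ := H.L_decomp hl
  refine hn' ?_
  show n ∈ H.B0
  suffices c = 1 by rw [e, e', this, mul_one]; exact hb
  have hcn : c ∈ Subgroup.centralizer ({m} : Set G) := Subgroup.zpowers_le.mpr (H.h_cent3 hm ho) hc
  have hcS : (⟨c, hcn⟩ : ↥(Subgroup.centralizer ({m} : Set G))) ∈
      (S : Subgroup ↥(Subgroup.centralizer ({m} : Set G))) := by
    have := mul_mem (inv_mem (hS (show (⟨b, hle hb⟩ :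
      ↥(Subgroup.centralizer ({m} : Set G))) ∈ H.B0.subgroupOf _ from hb))) hnS
    convert this using 1
    refine Subtype.ext ?_
    show c = b⁻¹ * n
    rw [e, e', inv_mul_cancel_left]
  obtain ⟨j', hj2⟩ := S.isPGroup' ⟨_, hcS⟩
  have hj2' : c ^ 2 ^ j' = 1 := by
    simpa using congrArg (fun y : ↥(S : Subgroup ↥(Subgroup.centralizer ({m} : Set G))) =>
      ((y : ↥(Subgroup.centralizer ({m} : Set G))) : G)) hj2
  have h3 : orderOf c ∣ 3 := by
    rw [← H.h_order]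
    obtain ⟨k, rfl⟩ := hc
    exact orderOf_dvd_of_pow_eq_one (by
      rw [← zpow_natCast, ← zpow_mul, mul_comm, zpow_mul, zpow_natCast, pow_orderOf_eq_one, one_zpow])
  exact orderOf_eq_one_iff.mp (Nat.eq_one_of_dvd_coprimes
    ((Nat.Coprime.pow_right j' (by norm_num : Nat.Coprime 3 2))) h3 (orderOf_dvd_of_pow_eq_one hj2'))

theorem inv_cent_m3 {x : G} (hxm : Commute x m) (hx2 : x * x = 1) :
    ∃ c, Commute c m ∧ c * x * c⁻¹ ∈ H.B0 := by
  haveI : Fact (Nat.Prime 2) := ⟨Nat.prime_two⟩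
  obtain ⟨S, hS⟩ := H.exists_sylow_m3 hm ho
  set x' : ↥(Subgroup.centralizer ({m} : Set G)) :=
    ⟨x, Subgroup.mem_centralizer_singleton_iff.mpr hxm.eq⟩
  obtain ⟨S1, hS1⟩ : ∃ S1 : Sylow 2 ↥(Subgroup.centralizer ({m} : Set G)),
      Subgroup.zpowers x' ≤ (S1 : Subgroup ↥(Subgroup.centralizer ({m} : Set G))) := by
    refine IsPGroup.exists_le_sylow fun ⟨y, hy⟩ => ⟨1, Subtype.ext ?_⟩
    obtain ⟨i, rfl⟩ := hy
    show (x' ^ i) ^ 2 ^ 1 = 1
    rw [pow_one, ← zpow_natCast, ← zpow_mul, mul_comm, zpow_mul, zpow_natCast,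
      show x' ^ 2 = 1 from Subtype.ext (by simpa [x', pow_two] using hx2), one_zpow]
  obtain ⟨g, hg⟩ := MulAction.exists_smul_eq ↥(Subgroup.centralizer ({m} : Set G)) S1 S
  refine ⟨g, Subgroup.mem_centralizer_singleton_iff.mp g.2, ?_⟩
  have : g * x' * g⁻¹ ∈ (S : Subgroup ↥(Subgroup.centralizer ({m} : Set G))) := by
    rw [← hg, Sylow.coe_subgroup_smul]
    exact ⟨_, hS1 (Subgroup.mem_zpowers _), rfl⟩
  rw [hS] at this
  exact this

/-- The involutions of `C(m)` are conjugate to `t`. -/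
theorem tc_cent_m3 {x : G} (hxm : Commute x m) (hx : orderOf x = 2) : IsConj H.t x := by
  obtain ⟨c, -, hc⟩ := H.inv_cent_m3 hm ho hxm (by rw [← pow_two, ← hx, pow_orderOf_eq_one])
  have h1 : c * x * c⁻¹ ≠ 1 := fun h => by
    rw [conj_eq_one_iff] at h
    rw [h, orderOf_one] at hx
    omega
  exact (H.B0_zc hc h1).trans (isConj_iff.mpr ⟨c⁻¹, by group⟩)

theorem cent_m3_B0 {b y : G} (hb : b ∈ H.B0) (hb1 : b ≠ 1) (hym : Commute y m)
    (hyb : Commute y b) : ∃ b' ∈ H.B0, ∃ i : ℤ, y = b' * m ^ i := by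
  obtain ⟨n, rfl⟩ := H.B0_orbit hb hb1
  have hn : Commute (H.h ^ n) m := (H.h_comm_M hm).pow_left n
  obtain ⟨b', hb', i, e⟩ := H.cent_m3_t hm ho (x := (H.h ^ n)⁻¹ * y * H.h ^ n)
    ((hn.inv_left.mul_left hym).mul_left hn) ((Commute.conj_iff (H.h ^ n)).mp (by
      rwa [show H.h ^ n * ((H.h ^ n)⁻¹ * y * H.h ^ n) * (H.h ^ n)⁻¹ = y by group]))
  have hnorm : H.h ^ n ∈ Subgroup.normalizer (H.B0 : Set G) :=
    pow_mem (Tools.mem_normalizer_of_conj fun _ hb => H.h_B0 hb) n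
  refine ⟨H.h ^ n * b' * (H.h ^ n)⁻¹, (Subgroup.mem_normalizer_iff.mp hnorm _).mp hb', i, ?_⟩
  calc y = H.h ^ n * ((H.h ^ n)⁻¹ * y * H.h ^ n) * (H.h ^ n)⁻¹ := by group
    _ = (H.h ^ n * b' * (H.h ^ n)⁻¹) * (H.h ^ n * m ^ i * (H.h ^ n)⁻¹) := by rw [e]; group
    _ = _ := by rw [(hn.zpow_right i).eq, mul_inv_cancel_right]

end Hyp

end Cfsg.Agent.Lib.JankoTwoType
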