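import Cfsg.Agent.Lib.JankoTwoType.CentThree
import Cfsg.Agent.Lib.JankoTwoType.CentFiveCard

/-!
Groups of Hall–Janko type: `C(k)` has order 36 or 180, and `C(k) ∩ C(h) = ⟨k, h⟩`.
-/

set_option autoImplicit false
set_option linter.unusedSectionVars false
set_option linter.style.haveILetI false

namespace Cfsg.Agent.Lib.JankoTwoType.Hyp

open scoped Pointwise

variable {G : Type*} [Group G] [Finite G] (H : Hyp G)

theorem NB_k_card : Nat.card ↥(Subgroup.normalizer (H.B0 : Set G) ⊓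
    Subgroup.centralizer ({H.k} : Set G)) = 36 := by
  have hLN : H.L ≤ Subgroup.normalizer (H.B0 : Set G) := sup_le Subgroup.le_normalizer
    (Subgroup.zpowers_le.mpr (Tools.mem_normalizer_of_conj fun _ hb => H.h_B0 hb))
  obtain ⟨e⟩ := Tools.mulEquiv_prod (L := H.L) (M := Subgroup.zpowers H.k)
    (N := Subgroup.normalizer (H.B0 : Set G) ⊓ Subgroup.centralizer ({H.k} : Set G))
    (le_inf hLN fun x hx => Subgroup.mem_centralizer_singleton_iff.mpr (H.L_comm_M hx H.kM).eq)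
    (Subgroup.zpowers_le.mpr ⟨Tools.mem_normalizer_of_conj fun b hb => by
      rw [← (H.B0_comm_M hb H.kM).eq, mul_inv_cancel_right]; exact hb,
      Subgroup.mem_centralizer_singleton_iff.mpr rfl⟩)
    (fun x hx y hy => H.L_comm_M hx (Subgroup.zpowers_le.mpr H.kM hy))
    (fun x hx hxm => H.center_M (Subgroup.zpowers_le.mpr H.kM hxm) fun y hy => H.L_comm_M hx hy)
    (fun x hx => by
      obtain ⟨l, hl, i, e⟩ := H.norm_cent3 H.kM H.k_order
        (fun b hb => ((Subgroup.mem_normalizer_iff.mp hx.1) b).mp hb)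
        (Subgroup.mem_centralizer_singleton_iff.mp hx.2)
      exact ⟨l, hl, H.k ^ i, zpow_mem (Subgroup.mem_zpowers H.k) i, e⟩)
  rw [Nat.card_congr e.toEquiv, Nat.card_prod, H.card_L, Nat.card_zpowers, H.k_order]

theorem not_all_B0 {x : G} (hxm : Commute x H.k) (hxb : ¬ x ∈ Subgroup.normalizer (H.B0 : Set G)) :
    ∃ a b : G, Commute a H.k ∧ Commute b H.k ∧ orderOf a = 2 ∧ orderOf b = 2 ∧ ¬ Commute a b := by
  by_contra hno
  push Not at hno
  refine hxb (Tools.mem_normalizer_of_conj fun b hb => ?_)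
  by_cases hb1 : b = 1
  · subst hb1; simp [one_mem]
  have htk : Commute H.t H.k := H.kt.symm
  have hym : Commute (x * b * x⁻¹) H.k :=
    (hxm.mul_left (H.B0_comm_M hb H.kM)).mul_left hxm.inv_left
  have hb2 : orderOf (x * b * x⁻¹) = 2 := by
    rw [← orderOf_eq_prime (p := 2) (x := b) (by rw [pow_two]; exact H.T_sq (H.B0_le_T hb)) hb1]
    exact orderOf_injective (MulAut.conj x).toMonoidHom (MulAut.conj x).injective b
  obtain ⟨b', hb', i, e⟩ := H.cent_m3_t H.kM H.k_order hym (hno _ _ hym htk hb2 H.ht)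
  suffices hmi : H.k ^ i = 1 by rw [e, hmi, mul_one]; exact hb'
  have h2 : (x * b * x⁻¹) ^ 2 = 1 := hb2 ▸ pow_orderOf_eq_one _
  rw [e, ((H.B0_comm_M hb' H.kM).zpow_right i).mul_pow, pow_two b', H.T_sq (H.B0_le_T hb'), one_mul]
    at h2
  have h3 : orderOf (H.k ^ i) ∣ 3 := orderOf_dvd_of_pow_eq_one (by
    rw [← zpow_natCast, ← zpow_mul, mul_comm, zpow_mul, zpow_natCast, H.k3, one_zpow])
  exact orderOf_eq_one_iff.mp (Nat.eq_one_of_dvd_coprimes (by norm_num : Nat.Coprime 3 2) h3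
    (orderOf_dvd_of_pow_eq_one h2))

theorem center_cent_k {c : ↥(Subgroup.centralizer ({H.k} : Set G))}
    (hc : c ∈ Subgroup.center ↥(Subgroup.centralizer ({H.k} : Set G))) :
    ∃ i : ℤ, (c : G) = H.k ^ i := by
  have hct : Commute (c : G) H.t := (congrArg Subtype.val (Subgroup.mem_center_iff.mp hc
    ⟨H.t, H.B0_le_cent3 H.kM H.k_order H.tB0⟩)).symm
  obtain ⟨b, hb, i, e⟩ := H.cent_m3_t H.kM H.k_order (Subgroup.mem_centralizer_singleton_iff.mp c.2) hct
  refine ⟨i, ?_⟩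
  suffices hb1 : b = 1 by rw [e, hb1, one_mul]
  by_contra hb1
  obtain ⟨n, hn⟩ := H.B0_orbit hb hb1
  have hch : Commute (c : G) H.h := (congrArg Subtype.val (Subgroup.mem_center_iff.mp hc
    ⟨H.h, H.h_cent3 H.kM H.k_order⟩)).symm
  have hbh : Commute b H.h := by
    have := hch.mul_left (((H.h_comm_M H.kM).symm.zpow_left i).inv_left)
    rwa [e, mul_inv_cancel_right] at this
  have hbt : b = H.t := by
    have h1 := (hbh.pow_right n).symm
    rw [← hn] at h1
    have e2 : H.h ^ n * (H.h ^ n * H.t * (H.h ^ n)⁻¹) * (H.h ^ n)⁻¹ = H.h ^ n * H.t * (H.h ^ n)⁻¹ := by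
      rw [h1.eq, mul_inv_cancel_right]
    rw [← hn]
    exact mul_left_cancel (mul_right_cancel e2)
  exact H.h_not_Ct (H.mem_Ct.mpr (hbt ▸ hbh).symm)

theorem card_cent_k : Nat.card (Subgroup.centralizer ({H.k} : Set G)) = 36 ∨
    Nat.card (Subgroup.centralizer ({H.k} : Set G)) = 180 := by
  classical
  haveI : Fact (Nat.Prime 2) := ⟨Nat.prime_two⟩
  have hm := H.kM
  have ho := H.k_order
  set C := Subgroup.centralizer ({H.k} : Set G) with hC
  by_cases hall : C ≤ Subgroup.normalizer (H.B0 : Set G)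
  · left
    rw [← H.NB_k_card, inf_eq_right.mpr hall]
  right
  obtain ⟨x, hxC, hxb⟩ := SetLike.not_le_iff_exists.mp hall
  have htC : H.t ∈ C := H.B0_le_cent3 hm ho H.tB0
  have hinv : ∀ {w : ↥C}, AbelianInvCentralizer.IsInv w → orderOf (w : G) = 2 := fun hw => by
    rw [Subgroup.orderOf_coe]; exact AbelianInvCentralizer.isInv_iff.mp hw
  have hmk : ∀ (y : G) (hy : y ∈ C), orderOf y = 2 → AbelianInvCentralizer.IsInv (⟨y, hy⟩ : ↥C) :=
    fun y hy h => AbelianInvCentralizer.isInv_iff.mpr (by rw [Subgroup.orderOf_mk]; exact h)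
  have hAC : AbelianInvCentralizer.HasAbelianCent ↥C := by
    intro w hw a b ha hb
    have hwm : Commute (w : G) H.k := Subgroup.mem_centralizer_singleton_iff.mp w.2
    have hw2 := hinv hw
    obtain ⟨c, hcm, hcB⟩ := H.inv_cent_m3 hm ho hwm (by rw [← pow_two, ← hw2, pow_orderOf_eq_one])
    have hc1 : c * (w : G) * c⁻¹ ≠ 1 := fun h => by
      rw [conj_eq_one_iff] at h; rw [h, orderOf_one] at hw2; omega
    have key : ∀ y : ↥C, Commute y w → ∃ b' ∈ H.B0, ∃ i : ℤ, c * (y : G) * c⁻¹ = b' * H.k ^ i :=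
      fun y hy => H.cent_m3_B0 hm ho hcB hc1
        ((hcm.mul_left (Subgroup.mem_centralizer_singleton_iff.mp y.2)).mul_left hcm.inv_left)
        ((Commute.conj_iff c).mpr (congrArg Subtype.val hy))
    obtain ⟨b1, hb1, i, e1⟩ := key a ha
    obtain ⟨b2, hb2, j, e2⟩ := key b hb
    refine Subtype.ext ((Commute.conj_iff c).mp ?_).eq
    rw [e1, e2]
    exact ((H.B0_comm hb1 hb2).mul_right ((H.B0_comm_M hb1 hm).zpow_right j)).mul_left
      (((H.B0_comm_M hb2 hm).zpow_right i).symm.mul_right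
        (((Commute.refl H.k).zpow_left i).zpow_right j))
  have hS : AbelianInvCentralizer.HasSpread ↥C := by
    obtain ⟨a, b, ham, hbm, ha, hb, hab⟩ :=
      H.not_all_B0 (Subgroup.mem_centralizer_singleton_iff.mp hxC) hxb
    exact ⟨⟨a, Subgroup.mem_centralizer_singleton_iff.mpr ham.eq⟩,
      ⟨b, Subgroup.mem_centralizer_singleton_iff.mpr hbm.eq⟩, hmk _ _ ha, hmk _ _ hb,
      fun h => hab (congrArg Subtype.val h)⟩
  have hF : AbelianInvCentralizer.HasFour ↥C := by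
    have hs : H.h * H.t * H.h⁻¹ ∈ H.B0 := H.h_B0 H.tB0
    refine ⟨⟨H.t, htC⟩, ⟨_, H.B0_le_cent3 hm ho hs⟩, hmk _ _ H.ht, hmk _ _ ?_, ?_,
      Subtype.ext (H.B0_comm H.tB0 hs).eq⟩
    · rw [← H.ht]; exact orderOf_injective (MulAut.conj H.h).toMonoidHom (MulAut.conj H.h).injective _
    · intro h
      exact H.h_not_Ct (H.mem_Ct.mpr (mul_inv_eq_iff_eq_mul.mp (congrArg Subtype.val h).symm))
  obtain ⟨F, _, _, f, _, hf, hFc, -, ⟨e⟩⟩ := AbelianInvCentralizer.exists_slTwo_prod hAC hS hF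
  have hmC : H.k ∈ C := Subgroup.mem_centralizer_singleton_iff.mpr rfl
  have hcen : Subgroup.center ↥C = Subgroup.zpowers (⟨H.k, hmC⟩ : ↥C) := by
    refine le_antisymm (fun c hc => ?_) (Subgroup.zpowers_le.mpr (Subgroup.mem_center_iff.mpr
      fun y => Subtype.ext (Subgroup.mem_centralizer_singleton_iff.mp y.2)))
    obtain ⟨i, hi⟩ := H.center_cent_k hc
    exact ⟨i, Subtype.ext (by simpa using hi.symm)⟩
  have hc3 : Nat.card (Subgroup.center ↥C) = 3 := by
    rw [hcen, Nat.card_zpowers, Subgroup.orderOf_mk, ho]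
  have hcard := Nat.card_congr e.toEquiv
  rw [Nat.card_prod, hc3] at hcard
  have hSL := Cfsg.Agent.Lib.LinGroup.card_SL_mul (F := F) 2 (by norm_num)
  rw [Fin.prod_univ_two, hFc] at hSL
  simp only [Fin.val_zero, Fin.val_one, pow_zero, pow_one] at hSL
  have h4 : ¬ 8 ∣ Nat.card ↥C := by
    intro h8
    obtain ⟨S, hS'⟩ := H.exists_sylow_m3 hm ho
    have hi := Subgroup.card_mul_index (S : Subgroup ↥C)
    rw [hS', Nat.card_congr (Subgroup.subgroupOfEquivOfLe (H.B0_le_cent3 hm ho)).toEquiv, H.card_B0]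
      at hi
    have := S.not_dvd_index
    rw [hS'] at this
    exact this (Nat.dvd_of_mul_dvd_mul_left (by norm_num : 0 < 4) (by rw [hi]; exact h8))
  set s := Nat.card (Matrix.SpecialLinearGroup (Fin 2) F)
  suffices hs60 : s = 60 by rw [hcard, hs60]
  by_cases hf2 : f = 2
  · subst hf2; norm_num at hSL; omega
  exfalso
  obtain ⟨g, rfl⟩ : ∃ g, f = g + 3 := ⟨f - 3, by omega⟩
  obtain ⟨r, hr⟩ : ∃ r, 2 ^ (g + 3) = r + 1 :=
    ⟨2 ^ (g + 3) - 1, by have := Nat.one_le_two_pow (n := g + 3); omega⟩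
  have hr0 : 0 < r := by
    have : 2 ^ 3 ≤ 2 ^ (g + 3) := Nat.pow_le_pow_right (by norm_num) (by omega)
    omega
  rw [hr, Nat.add_sub_cancel, show (r + 1) ^ 2 - 1 = r * (r + 2) by
    rw [Nat.sub_eq_iff_eq_add (Nat.one_le_pow _ _ (by omega))]; ring,
    show (r + 1) ^ 2 - (r + 1) = r * (r + 1) by
    rw [Nat.sub_eq_iff_eq_add (Nat.le_self_pow (by norm_num) _)]; ring] at hSL
  have hs' : s = (r + 2) * (r * (r + 1)) := Nat.eq_of_mul_eq_mul_left hr0 (by rw [hSL]; ring)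
  refine h4 (hcard ▸ Dvd.dvd.mul_right ?_ 3)
  rw [hs', ← hr, pow_add]
  exact ⟨(r + 2) * (r * 2 ^ g), by ring⟩

theorem not_k_h {g : G} {x : G} (hx : Commute x H.z) : g * H.k * g⁻¹ ≠ x := by
  intro e
  have hzk : Commute (g⁻¹ * H.z * g) H.k := by
    refine (Commute.conj_iff g).mp ?_
    rw [e, show g * (g⁻¹ * H.z * g) * g⁻¹ = H.z by group]
    exact hx.symm
  have hc : IsConj H.z (g⁻¹ * H.z * g) := isConj_iff.mpr ⟨g⁻¹, by group⟩
  exact H.t_nzc (hc.trans (H.tc_cent_m3 H.kM H.k_order hzk (H.zc_order hc)).symm)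

theorem h_pow_z (i : ℤ) : Commute (H.h ^ i) H.z := (H.mem_E.mp H.hE).1.zpow_left i

/-- `C(k) ∩ C(h)` is a 3-group. -/
theorem cent_kh_three {x : G} {q : ℕ} (hq : q.Prime) (hxo : orderOf x = q) (hk : Commute x H.k)
    (hh : Commute x H.h) : q = 3 := by
  classical
  have hm := H.kM
  have ho := H.k_order
  by_contra hq3
  have hdvd : q ∣ Nat.card (Subgroup.centralizer ({H.k} : Set G)) := by
    rw [← hxo, ← Subgroup.orderOf_mk x (Subgroup.mem_centralizer_singleton_iff.mpr hk.eq)]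
    exact orderOf_dvd_natCard _
  have hq180 : q ∣ 180 := by
    rcases H.card_cent_k with h | h <;> rw [h] at hdvd
    · exact hdvd.trans (by norm_num)
    · exact hdvd
  have hq25 : q = 2 ∨ q = 5 := by
    have hle : q ≤ 180 := Nat.le_of_dvd (by norm_num) hq180
    have h1 : q ∣ 2 ^ 2 * (3 ^ 2 * 5) := by simpa using hq180
    rcases hq.dvd_mul.mp h1 with h | h
    · exact Or.inl ((Nat.prime_dvd_prime_iff_eq hq Nat.prime_two).mp (hq.dvd_of_dvd_pow h))
    rcases hq.dvd_mul.mp h with h | h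
    · exact absurd ((Nat.prime_dvd_prime_iff_eq hq Nat.prime_three).mp (hq.dvd_of_dvd_pow h)) hq3
    · exact Or.inr ((Nat.prime_dvd_prime_iff_eq hq (by norm_num : Nat.Prime 5)).mp h)
  have hpow : ∀ {b : G} {i : ℤ} {y : G}, b ∈ H.B0 → y = b * H.k ^ i → ∀ {r : ℕ}, Nat.Coprime r 6 →
      y ^ r = 1 → y = 1 := by
    intro b i y hb e r hr hy
    have hc : Commute b (H.k ^ i) := (H.B0_comm_M hb hm).zpow_right i
    have h6 : y ^ 6 = 1 := by
      rw [e, hc.mul_pow, show (6 : ℕ) = 2 * 3 from rfl, pow_mul b, pow_two b,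
        H.T_sq (H.B0_le_T hb), one_pow, one_mul, mul_comm, pow_mul, ← zpow_natCast (H.k ^ i) 3,
        ← zpow_mul, mul_comm, zpow_mul, zpow_natCast, H.k3, one_zpow, one_pow]
    exact orderOf_eq_one_iff.mp (Nat.eq_one_of_dvd_coprimes hr (orderOf_dvd_of_pow_eq_one hy)
      (orderOf_dvd_of_pow_eq_one h6))
  have hxne : x ≠ 1 := fun h => by
    rw [h, orderOf_one] at hxo; exact hq.one_lt.ne hxo
  rcases hq25 with rfl | rfl
  · obtain ⟨c, hcm, hcB⟩ := H.inv_cent_m3 hm ho hk (by rw [← pow_two, ← hxo, pow_orderOf_eq_one])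
    have hb1 : c * x * c⁻¹ ≠ 1 := fun h => hxne (conj_eq_one_iff.mp h)
    obtain ⟨b, hb, i, e⟩ := H.cent_m3_B0 hm ho (y := c * H.h * c⁻¹) hcB hb1
      ((hcm.mul_left (H.h_comm_M hm)).mul_left hcm.inv_left) ((Commute.conj_iff c).mpr hh.symm)
    have h3 : (c * H.h * c⁻¹) ^ 3 = 1 := by rw [conj_pow, H.h3, mul_one, mul_inv_cancel]
    rw [e, ((H.B0_comm_M hb hm).zpow_right i).mul_pow] at h3
    have hbb : b = 1 := by
      have hk3 : (H.k ^ i) ^ 3 = 1 := by
        rw [← zpow_natCast, ← zpow_mul, mul_comm, zpow_mul, zpow_natCast, H.k3, one_zpow]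
      rw [hk3, mul_one, pow_succ, pow_two, H.T_sq (H.B0_le_T hb), one_mul] at h3
      exact h3
    rw [hbb, one_mul] at e
    refine H.h_ne ?_
    have hhM : H.h ∈ H.M := by
      have e2 : H.h = H.k ^ i := by
        calc H.h = c⁻¹ * (c * H.h * c⁻¹) * c := by group
          _ = c⁻¹ * (H.k ^ i * c) := by rw [e, mul_assoc]
          _ = _ := by rw [(hcm.zpow_right i).symm.eq, inv_mul_cancel_left]
      rw [e2]; exact zpow_mem hm i
    exact H.center_M hhM fun y hy => H.h_comm_M hy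
  · -- a normal subgroup of order 5 of `C(k)`
    haveI : Fact (Nat.Prime 5) := ⟨by norm_num⟩
    set C := Subgroup.centralizer ({H.k} : Set G) with hC
    have hC180 : Nat.card ↥C = 180 := by
      rcases H.card_cent_k with h | h
      · rw [h] at hdvd; norm_num at hdvd
      · exact h
    have hxC : x ∈ C := Subgroup.mem_centralizer_singleton_iff.mpr hk.eq
    set W := Subgroup.zpowers (⟨x, hxC⟩ : ↥C)
    have hW : Nat.card W = 5 := by rw [Nat.card_zpowers, Subgroup.orderOf_mk, hxo]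
    obtain ⟨S, hS⟩ : ∃ S : Sylow 5 ↥C, W ≤ (S : Subgroup ↥C) :=
      IsPGroup.exists_le_sylow (IsPGroup.of_card (n := 1) (by rw [hW, pow_one]))
    have hScard : Nat.card (S : Subgroup ↥C) = 5 := by
      rw [S.card_eq_multiplicity, hC180, show (180 : ℕ) = 5 ^ 1 * 36 from rfl,
        Nat.factorization_mul (by norm_num) (by norm_num), Finsupp.add_apply,
        Nat.Prime.factorization_pow (by norm_num : Nat.Prime 5),
        Nat.factorization_eq_zero_of_not_dvd (by norm_num : ¬ 5 ∣ 36)]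
      simp
    have hSW : W = (S : Subgroup ↥C) := Subgroup.eq_of_le_of_card_ge hS (by rw [hScard, hW])
    set N := Subgroup.normalizer ((S : Subgroup ↥C) : Set ↥C)
    -- `45` divides the order of the normaliser
    have hR : ∀ y : G, ∀ hy : y ∈ C, Commute y x → (⟨y, hy⟩ : ↥C) ∈ N := by
      intro y hy hyx
      refine Tools.mem_normalizer_of_conj fun w hw => ?_
      rw [← hSW] at hw
      obtain ⟨i, rfl⟩ := hw
      rw [← hSW]
      refine ⟨i, Subtype.ext ?_⟩
      show x ^ i = y * x ^ i * y⁻¹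
      rw [(hyx.zpow_right i).eq, mul_inv_cancel_right]
    have hhC : H.h ∈ C := H.h_cent3 hm ho
    have hkC : H.k ∈ C := Subgroup.mem_centralizer_singleton_iff.mpr rfl
    have hnine : 9 ∣ Nat.card ↥N := by
      obtain ⟨e⟩ := Tools.mulEquiv_prod (L := Subgroup.zpowers H.h) (M := Subgroup.zpowers H.k)
        (N := Subgroup.zpowers H.h ⊔ Subgroup.zpowers H.k) le_sup_left le_sup_right
        (fun a ha b hb => by
          obtain ⟨i, rfl⟩ := ha; obtain ⟨j, rfl⟩ := hb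
          exact ((H.h_comm_M hm).zpow_left i).zpow_right j)
        (fun a ha hb => by
          obtain ⟨i, rfl⟩ := ha
          exact H.center_M (Subgroup.zpowers_le.mpr hm hb) fun y hy => (H.h_comm_M hy).zpow_left i)
        (fun a ha => by
          have hn : Subgroup.zpowers H.k ≤ Subgroup.normalizer (Subgroup.zpowers H.h : Set G) :=
            Subgroup.zpowers_le.mpr (Tools.mem_normalizer_of_conj fun w hw => by
              obtain ⟨i, rfl⟩ := hw
              rw [((H.h_comm_M hm).zpow_left i).symm.eq, mul_inv_cancel_right]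
              exact zpow_mem (Subgroup.mem_zpowers _) i)
          have : a ∈ ((Subgroup.zpowers H.h : Set G) * (Subgroup.zpowers H.k : Set G)) := by
            rw [← Subgroup.coe_mul_of_right_le_normalizer_left _ _ hn]; exact ha
          obtain ⟨u, hu, w, hw, rfl⟩ := this
          exact ⟨u, hu, w, hw, rfl⟩)
      have h9 := Nat.card_congr e.toEquiv
      rw [Nat.card_prod, Nat.card_zpowers, Nat.card_zpowers, H.h_order, ho] at h9
      refine (show 9 = Nat.card ↥(Subgroup.zpowers H.h ⊔ Subgroup.zpowers H.k) by rw [h9]) ▸ ?_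
      rw [show Nat.card ↥N = Nat.card ↥(N.map C.subtype) from
        (Subgroup.card_map_of_injective C.subtype_injective).symm]
      refine Subgroup.card_dvd_of_le (sup_le (Subgroup.zpowers_le.mpr ?_) (Subgroup.zpowers_le.mpr ?_))
      · exact ⟨⟨H.h, hhC⟩, hR _ hhC hh.symm, rfl⟩
      · exact ⟨⟨H.k, hkC⟩, hR _ hkC hk.symm, rfl⟩
    have hfive : 5 ∣ Nat.card ↥N := hScard ▸ Subgroup.card_dvd_of_le Subgroup.le_normalizer
    have h45 : 45 ∣ Nat.card ↥N :=
      Nat.Coprime.mul_dvd_of_dvd_of_dvd (by norm_num : Nat.Coprime 9 5) hnine hfive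
    have hi := N.card_mul_index
    rw [hC180] at hi
    have h1 := card_sylow_modEq_one 5 ↥C
    rw [show Nat.card (Sylow 5 ↥C) = N.index from S.card_eq_index_normalizer] at h1
    have hidx : N.index ∣ 4 := by
      obtain ⟨c, hc⟩ := h45
      rw [hc] at hi
      exact ⟨c, by nlinarith⟩
    have hN : N = ⊤ := by
      rw [← Subgroup.index_eq_one]
      have := Nat.le_of_dvd (by norm_num) hidx
      unfold Nat.ModEq at h1
      omega
    -- involutions of `B0` invert `x`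
    have hb : ∀ b ∈ H.B0, b ≠ 1 → b * x * b⁻¹ = x⁻¹ := by
      intro b hb hb1
      have hbC : b ∈ C := H.B0_le_cent3 hm ho hb
      have hmem : (⟨b, hbC⟩ : ↥C) * ⟨x, hxC⟩ * (⟨b, hbC⟩ : ↥C)⁻¹ ∈ W := by
        have hbn : (⟨b, hbC⟩ : ↥C) ∈ N := by rw [hN]; trivial
        rw [hSW]
        exact (Subgroup.mem_normalizer_iff.mp hbn _).mp (hS (Subgroup.mem_zpowers _))
      obtain ⟨i, hi⟩ := hmem
      have hi' : x ^ i = b * x * b⁻¹ := congrArg Subtype.val hi
      have hbb : b * b = 1 := H.T_sq (H.B0_le_T hb)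
      have hii : x ^ (i * i) = x := by
        rw [zpow_mul, hi', conj_zpow, hi',
          show b * (b * x * b⁻¹) * b⁻¹ = (b * b) * x * (b * b)⁻¹ by group, hbb]
        group
      have hmod : (5 : ℤ) ∣ (i * i - 1) := by
        rw [show (5 : ℤ) = (orderOf x : ℤ) by rw [hxo]; rfl,
          orderOf_dvd_iff_zpow_eq_one, zpow_sub, hii, zpow_one, mul_inv_cancel]
      have hnc : ¬ Commute b x := fun hc => hxne (by
        obtain ⟨b', hb', j, e⟩ := H.cent_m3_B0 hm ho hb hb1 hk hc.symm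
        exact hpow hb' e (show Nat.Coprime 5 6 by norm_num) (hxo ▸ pow_orderOf_eq_one x))
      have hfac : (5 : ℤ) ∣ (i - 1) * (i + 1) := by rwa [show (i - 1) * (i + 1) = i * i - 1 by ring]
      rcases (Int.prime_iff_natAbs_prime.mpr (by norm_num : Nat.Prime (5 : ℤ).natAbs)).dvd_mul.mp hfac
        with h | h
      · exfalso
        apply hnc
        rw [show (5 : ℤ) = (orderOf x : ℤ) by rw [hxo]; rfl,
          orderOf_dvd_iff_zpow_eq_one, zpow_sub, zpow_one, hi', mul_inv_eq_one] at h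
        exact mul_inv_eq_iff_eq_mul.mp h
      · rw [show (5 : ℤ) = (orderOf x : ℤ) by rw [hxo]; rfl,
          orderOf_dvd_iff_zpow_eq_one, zpow_add, zpow_one, hi'] at h
        exact eq_inv_of_mul_eq_one_left h
    have ht1 : H.t ≠ 1 := fun h => by have := H.ht; rw [h, orderOf_one] at this; omega
    set s := H.h * H.t * H.h⁻¹
    have hs : s ∈ H.B0 := H.h_B0 H.tB0
    have hs1 : s ≠ 1 := fun h => ht1 (conj_eq_one_iff.mp h)
    have hts : H.t * s ≠ 1 := by
      intro h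
      have e : s = H.t := by rw [eq_inv_of_mul_eq_one_right h, H.t_inv]
      exact H.h_not_Ct (H.mem_Ct.mpr (mul_inv_eq_iff_eq_mul.mp e))
    have e1 := hb _ H.tB0 ht1
    have e2 := hb _ hs hs1
    have e3 := hb _ (mul_mem H.tB0 hs) hts
    rw [mul_inv_rev, show H.t * s * x * (s⁻¹ * H.t⁻¹) = H.t * (s * x * s⁻¹) * H.t⁻¹ by group, e2,
      show H.t * x⁻¹ * H.t⁻¹ = (H.t * x * H.t⁻¹)⁻¹ by group, e1, inv_inv] at e3
    have h2 : x ^ 2 = 1 := by rw [pow_two]; exact eq_inv_iff_mul_eq_one.mp e3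
    have := orderOf_dvd_of_pow_eq_one h2
    rw [hxo] at this
    norm_num at this

/-- `C(k) ∩ C(h) = ⟨k⟩⟨h⟩`. -/
theorem cent_kh {x : G} (hk : Commute x H.k) (hh : Commute x H.h) :
    ∃ a b : Fin 3, x = H.k ^ (a : ℕ) * H.h ^ (b : ℕ) := by
  classical
  haveI : Fact (Nat.Prime 3) := ⟨by norm_num⟩
  set C := Subgroup.centralizer ({H.k} : Set G) ⊓ Subgroup.centralizer ({H.h} : Set G)
  have hmC : ∀ {y : G}, y ∈ C ↔ Commute y H.k ∧ Commute y H.h := fun {y} => by
    simp only [C, Subgroup.mem_inf, Subgroup.mem_centralizer_singleton_iff]; rfl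
  have hpr : ∀ {q : ℕ}, q.Prime → q ∣ Nat.card ↥C → q = 3 := by
    intro q hq hd
    haveI := Fact.mk hq
    obtain ⟨⟨y, hy⟩, hyo⟩ := exists_prime_orderOf_dvd_card' (G := ↥C) q hd
    rw [Subgroup.orderOf_mk] at hyo
    exact H.cent_kh_three hq hyo (hmC.mp hy).1 (hmC.mp hy).2
  obtain ⟨n, hn⟩ : ∃ n, Nat.card ↥C = 3 ^ n :=
    ⟨_, Nat.eq_prime_pow_of_unique_prime_dvd Nat.card_pos.ne' (fun hq hd => hpr hq hd)⟩
  have h9 : Nat.card ↥C ≤ 9 := by
    have hd : Nat.card ↥C ∣ Nat.card (Subgroup.centralizer ({H.k} : Set G)) :=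
      Subgroup.card_dvd_of_le inf_le_left
    rw [hn] at hd ⊢
    have hn2 : n ≤ 2 := by
      by_contra h3
      have h27 : 3 ^ 3 ∣ Nat.card (Subgroup.centralizer ({H.k} : Set G)) :=
        (pow_dvd_pow 3 (show 3 ≤ n by omega)).trans hd
      rcases H.card_cent_k with e | e <;> rw [e] at h27 <;> norm_num at h27
    calc 3 ^ n ≤ 3 ^ 2 := Nat.pow_le_pow_right (by norm_num) hn2
      _ = 9 := rfl
  let F : Fin 3 × Fin 3 → G := fun p => H.k ^ (p.1 : ℕ) * H.h ^ (p.2 : ℕ)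
  have hF : ∀ p, F p ∈ C := fun p => hmC.mpr
    ⟨((Commute.refl H.k).pow_left _).mul_left ((H.h_comm_M H.kM).pow_left _),
      ((H.h_comm_M H.kM).symm.pow_left _).mul_left ((Commute.refl H.h).pow_left _)⟩
  have hinj : Function.Injective F := by
    rintro ⟨a, b⟩ ⟨a', b'⟩ e
    simp only [F] at e
    have e2 : (H.k ^ (a' : ℕ))⁻¹ * H.k ^ (a : ℕ) = H.h ^ (b' : ℕ) * (H.h ^ (b : ℕ))⁻¹ := by
      calc (H.k ^ (a' : ℕ))⁻¹ * H.k ^ (a : ℕ)
          = (H.k ^ (a' : ℕ))⁻¹ * (H.k ^ (a : ℕ) * H.h ^ (b : ℕ)) * (H.h ^ (b : ℕ))⁻¹ := by group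
        _ = _ := by rw [e]; group
    have hM : (H.k ^ (a' : ℕ))⁻¹ * H.k ^ (a : ℕ) ∈ H.M :=
      mul_mem (inv_mem (pow_mem H.kM _)) (pow_mem H.kM _)
    have h1 := H.center_M hM fun y hy => by
      rw [e2]
      exact ((H.h_comm_M hy).pow_left _).mul_left ((H.h_comm_M hy).pow_left _).inv_left
    rw [h1] at e2
    have ha := pow_inj_mod.mp (inv_mul_eq_one.mp h1)
    have hb := pow_inj_mod.mp (mul_inv_eq_one.mp e2.symm)
    rw [H.k_order, Nat.mod_eq_of_lt a.2, Nat.mod_eq_of_lt a'.2] at ha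
    rw [H.h_order, Nat.mod_eq_of_lt b.2, Nat.mod_eq_of_lt b'.2] at hb
    exact Prod.ext (Fin.ext ha.symm) (Fin.ext hb.symm)
  have heq := Set.eq_of_subset_of_ncard_le (s := Set.range F) (t := (C : Set G))
    (by rintro _ ⟨p, rfl⟩; exact hF p)
    (by rw [Set.ncard_range_of_injective hinj, Nat.card_prod, Nat.card_fin, ← Nat.card_coe_set_eq]; exact h9)
  obtain ⟨⟨a, b⟩, hab⟩ := heq.symm ▸ (show x ∈ (C : Set G) from hmC.mpr ⟨hk, hh⟩)
  exact ⟨a, b, hab.symm⟩

end Cfsg.Agent.Lib.JankoTwoType.Hyp
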