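import Cfsg.Agent.Lib.JankoTwoType.Kappa

/-!
Groups of Hall–Janko type: `T` is an abelian Sylow 2-subgroup of `C(t)` normalised by an element
`k` of order 3, and transfer to the fixed points of `k` gives a subgroup `M` of index 4 in `C(t)`
in which the involutions are the conjugates of `z`.
-/

set_option autoImplicit false
set_option linter.unusedSectionVars false
set_option linter.style.haveILetI false

namespace Cfsg.Agent.Lib.JankoTwoType.Hyp

variable {G : Type*} [Group G] [Finite G] (H : Hyp G)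

/-- An element of order 3 of `C(t)` normalising `A`. -/
noncomputable def k : G := H.exists_k.choose

theorem kt : Commute H.k H.t := H.exists_k.choose_spec.1

theorem k3 : H.k ^ 3 = 1 := H.exists_k.choose_spec.2.1

theorem k_spec : ∃ b, H.k * H.z * H.k⁻¹ = H.v * H.zb b ∧
    H.k * (H.v * H.zb b) * H.k⁻¹ = H.v * H.zb (!b) ∧ H.k * (H.v * H.zb (!b)) * H.k⁻¹ = H.z :=
  H.exists_k.choose_spec.2.2

/-- Conjugation by `k`. -/
noncomputable def kk : MulAut G := MulAut.conj H.k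

theorem kk_apply (x : G) : H.kk x = H.k * x * H.k⁻¹ := rfl

theorem kk3 (x : G) : H.kk (H.kk (H.kk x)) = x := by
  simp only [kk_apply]
  calc H.k * (H.k * (H.k * x * H.k⁻¹) * H.k⁻¹) * H.k⁻¹ = H.k ^ 3 * x * (H.k ^ 3)⁻¹ := by
        simp only [pow_succ, pow_zero, one_mul]; group
    _ = x := by rw [H.k3]; group

theorem A_cases' {a : G} (ha : a ∈ H.A) :
    a = 1 ∨ a = H.z ∨ a = H.kk H.z ∨ a = H.kk (H.kk H.z) := by
  obtain ⟨b, h1, h2, -⟩ := H.k_spec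
  simp only [kk_apply]
  rw [h1, h2]
  rcases H.A_cases ha with rfl | rfl | rfl | rfl <;> cases b <;> simp

theorem kk_A {a : G} (ha : a ∈ H.A) : H.kk a ∈ H.A := by
  have hm : ∀ b, H.v * H.zb b ∈ H.A := fun b => mul_mem H.vA (by
    cases b
    · simp
    · simpa using H.zA)
  obtain ⟨b, h1, h2, -⟩ := H.k_spec
  rcases H.A_cases' ha with rfl | rfl | rfl | rfl
  · simp
  · rw [kk_apply, h1]; exact hm b
  · rw [kk_apply, kk_apply, h1, h2]; exact hm _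
  · rw [H.kk3]; exact H.zA

theorem kk_z_ne : H.kk H.z ≠ H.z ∧ H.kk (H.kk H.z) ≠ H.z := by
  obtain ⟨b, h1, h2, -⟩ := H.k_spec
  simp only [kk_apply]
  rw [h1, h2]
  cases b <;> simp [H.v_ne_z, H.vz_ne_z]

theorem z_prod : H.z * H.kk H.z * H.kk (H.kk H.z) = 1 := by
  obtain ⟨b, h1, h2, -⟩ := H.k_spec
  simp only [kk_apply]
  rw [h1, h2, show H.z * (H.v * H.zb b) * (H.v * H.zb (!b)) =
    H.z * (H.v * (H.zb b * H.v)) * H.zb (!b) by group, H.zQ H.vQ, ← mul_assoc H.v H.v, H.vv,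
    one_mul, mul_assoc, H.zb_mul]
  cases b <;> simp [H.zz]

theorem kk_fix {a : G} (ha : a ∈ H.A) (h : H.kk a = a) : a = 1 := by
  rcases H.A_cases' ha with rfl | rfl | rfl | rfl
  · rfl
  · exact absurd h H.kk_z_ne.1
  · exact absurd (H.kk.injective h) H.kk_z_ne.1
  · exact absurd (H.kk.injective (H.kk.injective h)) H.kk_z_ne.1

theorem k_ne : H.k ≠ 1 := fun h => H.kk_z_ne.1 (by rw [kk_apply, h]; simp)

theorem k_order : orderOf H.k = 3 := by
  haveI : Fact (Nat.Prime 3) := ⟨by norm_num⟩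
  exact orderOf_eq_prime H.k3 H.k_ne

theorem kk_T {x : G} (hx : x ∈ H.T) : H.kk x ∈ H.T := by
  refine H.mem_T.mpr ⟨?_, ?_⟩
  · rw [show H.z = H.kk (H.kk (H.kk H.z)) from (H.kk3 _).symm]
    exact (H.A_central (H.kk_A (H.kk_A H.zA)) hx).map H.kk
  · rw [show H.t = H.kk H.t by rw [kk_apply, H.kt.eq, mul_inv_cancel_right]]
    exact (H.mem_T.mp hx).2.map H.kk

theorem kk_t : H.kk H.t = H.t := by rw [kk_apply, H.kt.eq, mul_inv_cancel_right]

theorem T_sq {x : G} (hx : x ∈ H.T) : x * x = 1 := by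
  have hj2A : H.j * H.j ∈ H.A := by
    refine H.mem_A_of_perm (mul_mem H.jT H.jT) ?_
    rw [H.perm_mul H.jT.1 H.jT.1, H.perm_j]; decide
  have hsq : ∀ y ∈ H.T, y * y = 1 ∨ y * y = H.j * H.j := by
    intro y hy
    have htj : Commute H.j H.t := (H.mem_T.mp H.jT).2
    obtain ⟨a, ha, rfl | rfl | rfl | rfl⟩ := H.T_cases hy
    · exact Or.inl (H.A_sq ha)
    · exact Or.inl (by
        rw [(H.A_central ha H.tT).mul_mul_mul_comm, H.A_sq ha, H.tt, one_mul])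
    · exact Or.inr (by
        rw [(H.A_central ha H.jT).mul_mul_mul_comm, H.A_sq ha, one_mul])
    · exact Or.inr (by
        rw [(H.A_central ha (mul_mem H.tT H.jT)).mul_mul_mul_comm, H.A_sq ha, one_mul,
          htj.mul_mul_mul_comm, H.tt, one_mul])
  have hj : H.j * H.j = 1 := by
    by_contra hne
    refine hne (H.kk_fix hj2A ?_)
    rw [map_mul]
    rcases hsq _ (H.kk_T H.jT) with h | h
    · exact absurd (H.kk.injective (by rw [map_mul, h, map_one])) hne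
    · exact h
  rcases hsq x hx with h | h
  · exact h
  · rw [h, hj]

theorem T_inv {x : G} (hx : x ∈ H.T) : x⁻¹ = x := inv_eq_of_mul_eq_one_right (H.T_sq hx)

/-- The images of `z` under elements of `C(t)` normalising `T`. -/
theorem norm_T {n : G} (hn : Commute n H.t) (h : ∀ x ∈ H.T, n * x * n⁻¹ ∈ H.T) :
    n ∈ H.T ∨ H.k⁻¹ * n ∈ H.T ∨ H.k⁻¹ * H.k⁻¹ * n ∈ H.T := by
  have hc : IsConj H.z (n * H.z * n⁻¹) := isConj_iff.mpr ⟨n, rfl⟩
  have hm := H.mem_T.mp (h _ (H.A_le_T H.zA))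
  have hA : n * H.z * n⁻¹ ∈ H.A := H.mem_A.mpr ⟨H.mem_Q_of_zc hc hm.1, hm.2⟩
  have key : ∀ m, Commute m H.t → m * H.z * m⁻¹ = H.z → m ∈ H.T := fun m hm1 hm2 =>
    H.mem_T.mpr ⟨mul_inv_eq_iff_eq_mul.mp hm2, hm1⟩
  have hkt : Commute H.k⁻¹ H.t := H.kt.inv_left
  rcases H.A_cases' hA with e | e | e | e
  · exact absurd (conj_eq_one_iff.mp e) H.z_ne
  · exact Or.inl (key n hn e)
  · refine Or.inr (Or.inl (key _ (hkt.mul_left hn) ?_))
    rw [show H.k⁻¹ * n * H.z * (H.k⁻¹ * n)⁻¹ = H.k⁻¹ * (n * H.z * n⁻¹) * H.k by group, e, kk_apply]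
    group
  · refine Or.inr (Or.inr (key _ ((hkt.mul_left hkt).mul_left hn) ?_))
    rw [show H.k⁻¹ * H.k⁻¹ * n * H.z * (H.k⁻¹ * H.k⁻¹ * n)⁻¹ =
      H.k⁻¹ * (H.k⁻¹ * (n * H.z * n⁻¹) * H.k) * H.k by
        simp only [mul_inv_rev, inv_inv, mul_assoc], e, kk_apply, kk_apply]
    group

theorem norm_T_conj {n : G} (hn : Commute n H.t) (h : ∀ x ∈ H.T, n * x * n⁻¹ ∈ H.T) {x : G}
    (hx : x ∈ H.T) : n * x * n⁻¹ = x ∨ n * x * n⁻¹ = H.kk x ∨ n * x * n⁻¹ = H.kk (H.kk x) := by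
  rcases H.norm_T hn h with hm | hm | hm
  · exact Or.inl (by rw [(H.T_comm hm hx).eq, mul_inv_cancel_right])
  · refine Or.inr (Or.inl ?_)
    have e := (H.T_comm hm hx).eq
    calc n * x * n⁻¹ = H.k * ((H.k⁻¹ * n) * x) * (H.k⁻¹ * n)⁻¹ * H.k⁻¹ := by group
      _ = _ := by rw [e, kk_apply]; group
  · refine Or.inr (Or.inr ?_)
    have e := (H.T_comm hm hx).eq
    calc n * x * n⁻¹ = H.k * (H.k * ((H.k⁻¹ * H.k⁻¹ * n) * x) * (H.k⁻¹ * H.k⁻¹ * n)⁻¹ * H.k⁻¹) *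
          H.k⁻¹ := by group
      _ = _ := by rw [e, kk_apply, kk_apply]; group

/-- `C(t)`. -/
abbrev Ct : Subgroup G := Subgroup.centralizer {H.t}

theorem mem_Ct {c : G} : c ∈ H.Ct ↔ Commute c H.t := Subgroup.mem_centralizer_singleton_iff

theorem T_le_Ct : H.T ≤ H.Ct := fun _ hx => hx.2

/-- `T` is a Sylow 2-subgroup of `C(t)`. -/
theorem exists_sylow_T : ∃ S : Sylow 2 ↥H.Ct, (S : Subgroup ↥H.Ct) = H.T.subgroupOf H.Ct := by
  haveI : Fact (Nat.Prime 2) := ⟨Nat.prime_two⟩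
  obtain ⟨S, hS⟩ : ∃ S : Sylow 2 ↥H.Ct, H.T.subgroupOf H.Ct ≤ S :=
    IsPGroup.exists_le_sylow (IsPGroup.of_card (n := 4) (by
      rw [Nat.card_congr (Subgroup.subgroupOfEquivOfLe H.T_le_Ct).toEquiv, H.card_T]; norm_num))
  refine ⟨S, le_antisymm ?_ hS⟩
  by_contra hnot
  have hlt : (H.T.subgroupOf H.Ct).subgroupOf (S : Subgroup ↥H.Ct) < ⊤ :=
    lt_top_iff_ne_top.mpr fun h => hnot (Subgroup.subgroupOf_eq_top.mp h)
  haveI := S.isPGroup'.isNilpotent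
  obtain ⟨⟨⟨n, hnC⟩, hnS⟩, hn, hn'⟩ := SetLike.exists_of_lt
    (Group.normalizerCondition_of_isNilpotent (G := ↥(S : Subgroup ↥H.Ct)) _ hlt)
  rw [Subgroup.mem_normalizer_iff] at hn
  have hnorm : ∀ x ∈ H.T, n * x * n⁻¹ ∈ H.T := by
    intro x hx
    exact (hn ⟨⟨x, H.T_le_Ct hx⟩, hS hx⟩).mp hx
  have hk2 : ∀ m : G, ∀ hmC : m ∈ H.Ct, (⟨m, hmC⟩ : ↥H.Ct) ∈ (S : Subgroup ↥H.Ct) →
      m ^ 3 = 1 → m = 1 := by
    intro m hmC hmS h3
    obtain ⟨i, hi⟩ := S.isPGroup' ⟨⟨m, hmC⟩, hmS⟩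
    have hi' : m ^ 2 ^ i = 1 := by
      simpa using congrArg (fun y : ↥(S : Subgroup ↥H.Ct) => ((y : ↥H.Ct) : G)) hi
    have := Nat.eq_one_of_dvd_coprimes ((Nat.coprime_primes Nat.prime_three Nat.prime_two).mpr
      (by norm_num) |>.pow_right i) (orderOf_dvd_of_pow_eq_one h3) (orderOf_dvd_of_pow_eq_one hi')
    exact orderOf_eq_one_iff.mp this
  have hkC : H.k⁻¹ ∈ H.Ct := H.mem_Ct.mpr H.kt.inv_left
  rcases H.norm_T (H.mem_Ct.mp hnC) hnorm with hm | hm | hm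
  · exact hn' hm
  · refine H.k_ne (inv_eq_one.mp (hk2 _ hkC ?_ (by rw [inv_pow, H.k3, inv_one])))
    have := mul_mem (hS (show (⟨H.k⁻¹ * n, mul_mem hkC hnC⟩ : ↥H.Ct) ∈ H.T.subgroupOf H.Ct from hm))
      (inv_mem hnS)
    convert this using 1
    exact Subtype.ext (by simp)
  · have hkk : H.k⁻¹ * H.k⁻¹ ∈ H.Ct := mul_mem hkC hkC
    have h2 := hk2 _ hkk (by
      have := mul_mem
        (hS (show (⟨H.k⁻¹ * H.k⁻¹ * n, mul_mem hkk hnC⟩ : ↥H.Ct) ∈ H.T.subgroupOf H.Ct from hm))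
        (inv_mem hnS)
      convert this using 1
      exact Subtype.ext (by simp)) (by
        rw [← pow_two, ← pow_mul, pow_mul', inv_pow, H.k3, inv_one, one_pow])
    refine H.k_ne ?_
    have h3 := H.k3
    rw [← mul_inv_rev, inv_eq_one] at h2
    simpa [pow_succ, h2] using h3

/-- The fixed points of `k` in `T`. -/
def B0 : Subgroup G := H.T ⊓ Subgroup.centralizer {H.k}

theorem mem_B0 {x : G} : x ∈ H.B0 ↔ x ∈ H.T ∧ H.kk x = x := by
  rw [B0, Subgroup.mem_inf, Subgroup.mem_centralizer_singleton_iff, kk_apply,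
    mul_inv_eq_iff_eq_mul]
  exact and_congr_right fun _ => eq_comm

theorem B0_le_T : H.B0 ≤ H.T := fun _ hx => (H.mem_B0.mp hx).1

/-- The projection to the fixed points of `k`. -/
noncomputable def pr (x : G) : G := x * H.kk x * H.kk (H.kk x)

theorem pr_mem {x : G} (hx : x ∈ H.T) : H.pr x ∈ H.B0 := by
  have h1 := H.kk_T hx
  have h2 := H.kk_T h1
  refine H.mem_B0.mpr ⟨mul_mem (mul_mem hx h1) h2, ?_⟩
  simp only [pr, map_mul, H.kk3]
  exact (H.T_comm (mul_mem h1 h2) hx).eq.trans (by group)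

theorem pr_mul {x y : G} (hx : x ∈ H.T) (hy : y ∈ H.T) : H.pr (x * y) = H.pr x * H.pr y := by
  have h1 := H.kk_T hx
  have h2 := H.kk_T h1
  have g1 := H.kk_T hy
  simp only [pr, map_mul]
  rw [(H.T_comm hy h1).mul_mul_mul_comm, (H.T_comm (mul_mem hy g1) h2).mul_mul_mul_comm]

theorem pr_kk {x : G} (hx : x ∈ H.T) : H.pr (H.kk x) = H.pr x := by
  have h1 := H.kk_T hx
  simp only [pr, H.kk3]
  rw [(H.T_comm (mul_mem h1 (H.kk_T h1)) hx).eq, mul_assoc]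

theorem pr_B0 {x : G} (hx : x ∈ H.B0) : H.pr x = x := by
  obtain ⟨hT, hk⟩ := H.mem_B0.mp hx
  simp only [pr, hk]
  rw [H.T_sq hT, one_mul]

theorem pr_A {a : G} (ha : a ∈ H.A) : H.pr a = 1 := by
  have h : H.pr H.z = 1 := H.z_prod
  rcases H.A_cases' ha with rfl | rfl | rfl | rfl
  · simp [pr]
  · exact h
  · rw [H.pr_kk (H.A_le_T H.zA), h]
  · rw [H.pr_kk (H.A_le_T (H.kk_A H.zA)), H.pr_kk (H.A_le_T H.zA), h]

theorem B0_A {x : G} (hB : x ∈ H.B0) (hA : x ∈ H.A) : x = 1 := by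
  rw [← H.pr_B0 hB, H.pr_A hA]

theorem kk_mul_A {x : G} (hx : x ∈ H.T) : ∃ a ∈ H.A, H.kk x = x * a := by
  obtain ⟨a1, ha1, hj⟩ : ∃ a ∈ H.A, H.kk H.j = H.j * a := by
    obtain ⟨a, ha, e | e | e | e⟩ := H.T_cases (H.kk_T H.jT)
    · exfalso
      have hjA : H.j ∈ H.A := by
        have := H.kk_A (H.kk_A ha)
        rwa [← e, H.kk3] at this
      have := H.perm_A hjA
      rw [H.perm_j] at this
      exact absurd this (by decide)
    · exfalso
      have e' : H.j = H.kk (H.kk a) * H.t := by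
        rw [← H.kk3 H.j, e, map_mul, map_mul, H.kk_t, H.kk_t]
      have hA : H.j * H.t ∈ H.A := by
        rw [e', mul_assoc, H.tt, mul_one]; exact H.kk_A (H.kk_A ha)
      have := H.perm_A hA
      rw [H.perm_mul H.jT.1 H.tC, H.perm_j, H.perm_t] at this
      exact absurd this (by decide)
    · exact ⟨a, ha, by rw [e, (H.A_central ha H.jT).eq]⟩
    · exfalso
      have e2 : H.kk (H.kk H.j) = H.kk a * a * H.j := by
        rw [e, map_mul, map_mul, H.kk_t, e]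
        calc H.kk a * (H.t * (a * (H.t * H.j))) = H.kk a * ((H.t * a) * (H.t * H.j)) := by group
          _ = H.kk a * ((a * H.t) * (H.t * H.j)) := by rw [(H.A_central ha H.tT).eq]
          _ = _ := by rw [mul_assoc a, ← mul_assoc H.t, H.tt, one_mul, ← mul_assoc]
      have e3 : H.j = H.kk (H.kk a) * H.kk a * (a * (H.t * H.j)) := by
        conv_lhs => rw [← H.kk3 H.j, e2, map_mul, map_mul, e]
      have hA : H.t ∈ H.A := by
        have hm : H.kk (H.kk a) * H.kk a * a ∈ H.A :=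
          mul_mem (mul_mem (H.kk_A (H.kk_A ha)) (H.kk_A ha)) ha
        have : (H.kk (H.kk a) * H.kk a * a) * H.t = 1 := by
          apply mul_right_cancel (b := H.j)
          rw [one_mul]
          conv_rhs => rw [e3]
          group
        rw [eq_inv_of_mul_eq_one_left this] at hm
        simpa using hm
      exact H.t_notQ (H.mem_A.mp hA).1
  obtain ⟨a, ha, rfl | rfl | rfl | rfl⟩ := H.T_cases hx
  · exact ⟨x * H.kk x, mul_mem ha (H.kk_A ha), by rw [← mul_assoc, H.A_sq ha, one_mul]⟩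
  · refine ⟨a * H.kk a, mul_mem ha (H.kk_A ha), ?_⟩
    rw [map_mul, H.kk_t, (H.A_central ha H.tT).symm.eq, mul_assoc, ← mul_assoc a, H.A_sq ha,
      one_mul, (H.A_central (H.kk_A ha) H.tT).eq]
  · refine ⟨a * (H.kk a * a1), mul_mem ha (mul_mem (H.kk_A ha) ha1), ?_⟩
    rw [map_mul, hj, (H.A_central ha H.jT).symm.eq, mul_assoc H.j, ← mul_assoc a, H.A_sq ha,
      one_mul, ← mul_assoc, ← mul_assoc, (H.A_central (H.kk_A ha) H.jT).eq]
  · refine ⟨a * (H.kk a * a1), mul_mem ha (mul_mem (H.kk_A ha) ha1), ?_⟩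
    rw [map_mul, map_mul, H.kk_t, hj, (H.A_central ha (mul_mem H.tT H.jT)).symm.eq,
      mul_assoc (H.t * H.j), ← mul_assoc a, H.A_sq ha, one_mul,
      ← mul_assoc (H.t * H.j), (H.A_central (H.kk_A ha) (mul_mem H.tT H.jT)).eq]
    group

theorem pr_mul_self {x : G} (hx : x ∈ H.T) : x * H.pr x ∈ H.A := by
  obtain ⟨a, ha, e⟩ := H.kk_mul_A hx
  have : x * H.pr x = x * x * (x * x) * (a * (a * H.kk a)) := by
    simp only [pr, e, map_mul]
    calc x * (x * (x * a) * (x * a * H.kk a)) = x * x * x * ((a * x) * (a * H.kk a)) := by group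
      _ = x * x * x * ((x * a) * (a * H.kk a)) := by rw [(H.A_central ha hx).eq]
      _ = _ := by group
  rw [this, H.T_sq hx, one_mul, one_mul]
  exact mul_mem ha (mul_mem ha (H.kk_A ha))

theorem pr_eq_one {x : G} (hx : x ∈ H.T) : H.pr x = 1 ↔ x ∈ H.A := by
  refine ⟨fun h => ?_, H.pr_A⟩
  have := H.pr_mul_self hx
  rwa [h, mul_one] at this

theorem card_B0 : Nat.card H.B0 = 4 := by
  set f : ↥H.T →* ↥H.B0 := MonoidHom.mk' (fun x => ⟨H.pr x, H.pr_mem x.2⟩)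
    (fun x y => Subtype.ext (H.pr_mul x.2 y.2)) with hf
  have hsurj : f.range = ⊤ := MonoidHom.range_eq_top.mpr fun b =>
    ⟨⟨b, H.B0_le_T b.2⟩, Subtype.ext (H.pr_B0 b.2)⟩
  have hker : f.ker = H.A.subgroupOf H.T := by
    ext ⟨x, hx⟩
    rw [MonoidHom.mem_ker, Subgroup.mem_subgroupOf, ← H.pr_eq_one hx]
    exact Subtype.ext_iff
  have h := Subgroup.card_mul_index f.ker
  rw [Subgroup.index_ker, hsurj, Subgroup.card_top, hker,
    Nat.card_congr (Subgroup.subgroupOfEquivOfLe H.A_le_T).toEquiv, H.card_A, H.card_T] at h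
  omega

theorem B0_comm {x y : G} (hx : x ∈ H.B0) (hy : y ∈ H.B0) : Commute x y :=
  H.T_comm (H.B0_le_T hx) (H.B0_le_T hy)

/-- The transfer. -/
theorem exists_transfer :
    ∃ φ : ↥H.Ct →* ↥H.B0, ∀ x (hx : x ∈ H.T), (φ ⟨x, H.T_le_Ct hx⟩ : G) = H.pr x := by
  classical
  haveI : Fact (Nat.Prime 2) := ⟨Nat.prime_two⟩
  letI : CommGroup ↥H.B0 :=
    { (inferInstance : Group ↥H.B0) with
      mul_comm := fun x y => Subtype.ext (H.B0_comm x.2 y.2) }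
  obtain ⟨S, hS⟩ := H.exists_sylow_T
  have hST : ∀ {y : ↥H.Ct}, y ∈ (S : Subgroup ↥H.Ct) ↔ (y : G) ∈ H.T := by
    intro y; rw [hS]; rfl
  haveI : IsMulCommutative ↥(S : Subgroup ↥H.Ct) :=
    ⟨⟨fun a b => Subtype.ext (Subtype.ext (H.T_comm (hST.mp a.2) (hST.mp b.2)))⟩⟩
  let ϕ : ↥(S : Subgroup ↥H.Ct) →* ↥H.B0 :=
    MonoidHom.mk' (fun x => ⟨H.pr (x : G), H.pr_mem (hST.mp x.2)⟩)
      (fun x y => Subtype.ext (H.pr_mul (hST.mp x.2) (hST.mp y.2)))
  have fus : ∀ (y c : ↥H.Ct), (y : G) ∈ H.T → ((c⁻¹ * y * c : ↥H.Ct) : G) ∈ H.T →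
      H.pr ((c⁻¹ * y * c : ↥H.Ct) : G) = H.pr (y : G) := by
    intro y c hy hyc
    obtain ⟨n, hn, e⟩ := S.conj_eq_normalizer_conj_of_mem y c (hST.mpr hy) (hST.mpr hyc)
    rw [e]
    replace hn := Subgroup.mem_normalizer_iff.mp
      (show n ∈ Subgroup.normalizer ((S : Subgroup ↥H.Ct) : Set ↥H.Ct) from hn)
    have hnT : ∀ x ∈ H.T, ((n⁻¹ : ↥H.Ct) : G) * x * ((n⁻¹ : ↥H.Ct) : G)⁻¹ ∈ H.T := by
      intro x hx
      have h1 := (hn (n⁻¹ * ⟨x, H.T_le_Ct hx⟩ * n)).mpr (by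
        simpa [mul_assoc] using (hST.mpr hx : (⟨x, H.T_le_Ct hx⟩ : ↥H.Ct) ∈ (S : Subgroup ↥H.Ct)))
      simpa using hST.mp h1
    have := H.norm_T_conj (H.mem_Ct.mp (n⁻¹).2) hnT hy
    rw [show ((n⁻¹ * y * n : ↥H.Ct) : G) = ((n⁻¹ : ↥H.Ct) : G) * y * ((n⁻¹ : ↥H.Ct) : G)⁻¹ by simp]
    rcases this with h | h | h <;> rw [h]
    · exact H.pr_kk hy
    · rw [H.pr_kk (H.kk_T hy), H.pr_kk hy]
  refine ⟨MonoidHom.transfer ϕ, fun x hx => ?_⟩
  set g : ↥H.Ct := ⟨x, H.T_le_Ct hx⟩ with hg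
  letI := (S : Subgroup ↥H.Ct).fintypeQuotientOfFiniteIndex
  rw [MonoidHom.transfer_eq_prod_quotient_orbitRel_zpowers_quot]
  set n := fun q : Quotient (MulAction.orbitRel (Subgroup.zpowers g)
      (↥H.Ct ⧸ (S : Subgroup ↥H.Ct))) => Function.minimalPeriod (g • ·) q.out with hn
  rw [Finset.prod_congr rfl (g := fun q => ϕ ⟨g, hST.mpr hx⟩ ^ n q) (fun q _ => ?_),
    Finset.prod_pow_eq_pow_sum, ← Subgroup.index_eq_sum_minimalPeriod]
  · have hodd : ¬ 2 ∣ (S : Subgroup ↥H.Ct).index := S.not_dvd_index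
    have h2 : (ϕ ⟨g, hST.mpr hx⟩) ^ 2 = 1 := Subtype.ext (by
      rw [pow_two]; exact H.T_sq (H.B0_le_T (H.pr_mem hx)))
    rw [← Nat.div_add_mod (S : Subgroup ↥H.Ct).index 2, pow_add, pow_mul, h2, one_pow, one_mul,
      show (S : Subgroup ↥H.Ct).index % 2 = 1 by omega, pow_one]
    rfl
  · rw [← map_pow]
    refine Subtype.ext ?_
    have h1 := fus (g ^ n q) q.out.out
      (by simpa using pow_mem hx (n q))
      (hST.mp (QuotientGroup.out_conj_pow_minimalPeriod_mem _ g q.out))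
    exact h1

end Cfsg.Agent.Lib.JankoTwoType.Hyp
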