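import Cfsg.Agent.Lib.JankoTwoType.CentFiveCard

/-!
Groups of Hall–Janko type: a complement `A₅` in `C(z)` centralising an element of order 5 that `z`
inverts.
-/

set_option autoImplicit false
set_option linter.unusedSectionVars false
set_option linter.style.haveILetI false

namespace Cfsg.Agent.Lib.JankoTwoType

/-- `(01)(23)`. -/
def sT : alternatingGroup (Fin 5) :=
  ⟨Equiv.swap 0 1 * Equiv.swap 2 3, Equiv.Perm.mem_alternatingGroup.mpr (by decide)⟩

/-- `(012)`. -/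
def sH : alternatingGroup (Fin 5) :=
  ⟨Equiv.swap 0 1 * Equiv.swap 1 2, Equiv.Perm.mem_alternatingGroup.mpr (by decide)⟩

/-- `(01)(34)`. -/
def sR : alternatingGroup (Fin 5) :=
  ⟨Equiv.swap 0 1 * Equiv.swap 3 4, Equiv.Perm.mem_alternatingGroup.mpr (by decide)⟩

set_option maxRecDepth 4000 in
set_option synthInstance.maxSize 2000 in
theorem std_pair : ∀ σ τ : Equiv.Perm (Fin 5), Equiv.Perm.sign σ = 1 → Equiv.Perm.sign τ = 1 →
    σ * σ = 1 → σ ≠ 1 → τ ^ 3 = 1 → τ ≠ 1 → (σ * τ) ^ 3 = 1 →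
    ∃ ρ : Equiv.Perm (Fin 5), ρ * σ * ρ⁻¹ = sT.1 ∧ ρ * τ * ρ⁻¹ = sH.1 := by decide +kernel

set_option maxRecDepth 4000 in
set_option synthInstance.maxSize 2000 in
theorem pr_unique : ∀ s : Equiv.Perm (Fin 5), Equiv.Perm.sign s = 1 → s * s = 1 → s ≠ 1 →
    (sT.1 * s) ^ 3 = 1 → (sH.1 * s) ^ 2 = 1 → (sT.1 * sH.1 * s) ^ 5 = 1 →
    (sH.1 * sH.1 * s) ^ 2 = 1 → s = sR.1 := by decide +kernel

set_option maxRecDepth 4000 in
theorem pr_rels : (sT * sR) ^ 3 = 1 ∧ (sH * sR) ^ 2 = 1 ∧ (sT * sH * sR) ^ 5 = 1 ∧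
    (sH * sH * sR) ^ 2 = 1 ∧ sR * sR = 1 ∧ sR ≠ 1 ∧ sT ≠ 1 ∧ sH ≠ 1 ∧ sT * sH * sR ≠ 1 ∧
    sT * sT = 1 ∧ sH ^ 3 = 1 := by decide +kernel

set_option maxRecDepth 4000 in
theorem A4_order' : ∀ σ τ : Equiv.Perm (Fin 4), Equiv.Perm.sign σ = 1 → Equiv.Perm.sign τ = 1 →
    σ * σ = 1 → σ ≠ 1 → τ ^ 3 = 1 → τ ≠ 1 → (σ * τ) ^ 3 = 1 := by decide +kernel

theorem A4_order (σ τ : alternatingGroup (Fin 4)) (h1 : σ * σ = 1) (h2 : σ ≠ 1) (h3 : τ ^ 3 = 1)
    (h4 : τ ≠ 1) : (σ * τ) ^ 3 = 1 :=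
  Subtype.ext (A4_order' σ τ (Equiv.Perm.mem_alternatingGroup.mp σ.2)
    (Equiv.Perm.mem_alternatingGroup.mp τ.2) (congrArg Subtype.val h1) (fun h => h2 (Subtype.ext h))
    (congrArg Subtype.val h3) (fun h => h4 (Subtype.ext h)))

set_option maxRecDepth 4000 in
theorem inverted_five' : ∀ a : Equiv.Perm (Fin 5), Equiv.Perm.sign a = 1 → a * a = 1 → a ≠ 1 →
    ∃ c, Equiv.Perm.sign c = 1 ∧ c ^ 5 = 1 ∧ c ≠ 1 ∧ a * c * a = c⁻¹ := by decide +kernel

theorem inverted_five (a : alternatingGroup (Fin 5)) (h1 : a * a = 1) (h2 : a ≠ 1) :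
    ∃ c, c ^ 5 = 1 ∧ c ≠ 1 ∧ a * c * a = c⁻¹ := by
  obtain ⟨c, hc, hc5, hc1, hac⟩ := inverted_five' a (Equiv.Perm.mem_alternatingGroup.mp a.2)
    (congrArg Subtype.val h1) (fun h => h2 (Subtype.ext h))
  exact ⟨⟨c, Equiv.Perm.mem_alternatingGroup.mpr hc⟩, Subtype.ext hc5,
    fun h => hc1 (congrArg Subtype.val h), Subtype.ext hac⟩

theorem eq_top_of_three {S : Subgroup (alternatingGroup (Fin 5))} (ht : sT ∈ S) (hh : sH ∈ S)
    (hr : sR ∈ S) : S = ⊤ := by
  haveI : IsSimpleGroup ↥(alternatingGroup (Fin 5)) := alternatingGroup.isSimpleGroup (by simp)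
  obtain ⟨-, -, h5, -, -, -, ht1, hh1, h51, ht2, hh3⟩ := pr_rels
  have hd : ∀ {x : alternatingGroup (Fin 5)} {p : ℕ}, p.Prime → x ∈ S → x ^ p = 1 → x ≠ 1 →
      p ∣ Nat.card S := fun {x p} hp hx hxp hx1 => by
    haveI := Fact.mk hp
    rw [← orderOf_eq_prime hxp hx1, ← Subgroup.orderOf_mk x hx]
    exact orderOf_dvd_natCard _
  have h30 : 2 * 3 * 5 ∣ Nat.card S := by
    refine Nat.Coprime.mul_dvd_of_dvd_of_dvd (by norm_num) (Nat.Coprime.mul_dvd_of_dvd_of_dvd
      (by norm_num) (hd Nat.prime_two ht (by rw [pow_two]; exact ht2) ht1)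
      (hd Nat.prime_three hh hh3 hh1)) (hd (by norm_num) (mul_mem (mul_mem ht hh) hr) h5 h51)
  have hi := S.card_mul_index
  rw [show Nat.card (alternatingGroup (Fin 5)) = 60 by
    rw [nat_card_alternatingGroup, Nat.card_fin]; rfl] at hi
  obtain ⟨c, hc⟩ := h30
  rw [hc] at hi
  by_contra hne
  have h2 : S.index = 2 := by
    have h1 : S.index ≠ 1 := fun h => hne (Subgroup.index_eq_one.mp h)
    have : S.index ∣ 2 := ⟨c, by nlinarith⟩
    exact ((Nat.dvd_prime Nat.prime_two).mp this).resolve_left h1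
  rcases (Subgroup.normal_of_index_eq_two h2).eq_bot_or_eq_top with h | h
  · exact ht1 (Subgroup.mem_bot.mp (h ▸ ht))
  · exact hne h

namespace Hyp

variable {G : Type*} [Group G] [Finite G] (H : Hyp G)

theorem th_cube : (H.t * H.h) ^ 3 = 1 := by
  obtain ⟨e⟩ := H.L_alternating
  set a : ↥H.L := ⟨H.t, (le_sup_left : H.B0 ≤ H.L) H.tB0⟩
  set b : ↥H.L := ⟨H.h, (le_sup_right : Subgroup.zpowers H.h ≤ H.L) (Subgroup.mem_zpowers _)⟩
  have ha : a ≠ 1 := fun h => by
    have : H.t = 1 := congrArg Subtype.val h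
    have h2 := H.ht; rw [this, orderOf_one] at h2; omega
  have hb : b ≠ 1 := fun h => H.h_ne (congrArg Subtype.val h)
  have h := A4_order (e a) (e b)
    (by rw [← map_mul, show a * a = 1 from Subtype.ext H.tt, map_one])
    (fun h => ha (e.injective (h.trans (map_one e).symm)))
    (by rw [← map_pow, show b ^ 3 = 1 from Subtype.ext H.h3, map_one])
    (fun h => hb (e.injective (h.trans (map_one e).symm)))
  rw [← map_mul, ← map_pow, ← map_one e] at h
  exact congrArg Subtype.val (e.injective h)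

/-- An element of order 5 of `M` inverted by `z`. -/
theorem exists_inverted : ∃ m ∈ H.M, orderOf m = 5 ∧ H.z * m * H.z = m⁻¹ := by
  haveI : Fact (Nat.Prime 5) := ⟨by norm_num⟩
  obtain ⟨e⟩ := H.M_alternating
  set a : ↥H.M := ⟨H.z, H.zM⟩
  have ha : a * a = 1 := Subtype.ext H.zz
  obtain ⟨c, hc5, hc1, hc⟩ := inverted_five (e a) (by rw [← map_mul, ha, map_one])
    (fun h => H.z_ne (congrArg Subtype.val (e.injective (h.trans (map_one e).symm))))
  refine ⟨(e.symm c : G), (e.symm c).2, ?_, ?_⟩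
  · rw [Subgroup.orderOf_coe, MulEquiv.orderOf_eq]
    exact orderOf_eq_prime hc5 hc1
  · have := congrArg e.symm hc
    rw [map_mul, map_mul, map_inv, e.symm_apply_apply] at this
    exact congrArg Subtype.val this

variable {m : G}

/-- The complement. -/
theorem exists_complement (hm : m ∈ H.M) (h5 : orderOf m = 5) (hinv : H.z * m * H.z = m⁻¹) :
    ∃ ψ : alternatingGroup (Fin 5) →* G, Function.Injective ψ ∧ ψ sT = H.t ∧ ψ sH = H.h ∧
      ∀ x, Commute (ψ x) H.z ∧ Commute (ψ x) m := by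
  classical
  set C := Subgroup.centralizer ({m} : Set G) with hC
  obtain ⟨f, hfs, hfk⟩ : ∃ f : ↥C →* alternatingGroup (Fin 5), Function.Surjective f ∧
      ∀ x, f x = 1 ↔ (x : G) ∈ Subgroup.zpowers m := H.exists_quotient hm h5
  have hmem : ∀ {x : G}, x ∈ C ↔ Commute x m := Subgroup.mem_centralizer_singleton_iff
  have hm5 : m ^ 5 = 1 := h5 ▸ pow_orderOf_eq_one m
  -- conjugation by `z` on `C`
  have hzC : ∀ {x : G}, x ∈ C → H.z * x * H.z ∈ C := fun {x} hx => by
    have h := (Commute.conj_iff H.z).mpr (hmem.mp hx)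
    rw [H.z_inv, hinv] at h
    exact hmem.mpr (by simpa using h.inv_right)
  set Ls := (H.Cz).subgroupOf C
  set g : ↥Ls →* alternatingGroup (Fin 5) := f.comp Ls.subtype
  have hginj : Function.Injective g := by
    rw [injective_iff_map_eq_one]
    intro x hx
    obtain ⟨i, hi⟩ := (hfk (x : ↥C)).mp hx
    refine Subtype.ext (Subtype.ext ?_)
    show ((x : ↥C) : G) = 1
    have hi : m ^ i = ((x : ↥C) : G) := hi
    have hc : Commute (m ^ i) H.z := by rw [hi]; exact H.mem_Cz.mp x.2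
    have e2 : H.z * m ^ i * H.z = (m ^ i)⁻¹ := by
      have := conj_zpow (a := H.z) (b := m) (i := i)
      rw [H.z_inv, hinv, inv_zpow] at this
      exact this.symm
    rw [hc.eq.symm, mul_assoc, H.zz, mul_one] at e2
    have h2 : (m ^ i) ^ 2 = 1 := by rw [pow_two, mul_eq_one_iff_eq_inv]; exact e2
    have h5' : (m ^ i) ^ 5 = 1 := by
      rw [← zpow_natCast, ← zpow_mul, mul_comm, zpow_mul, zpow_natCast, hm5, one_zpow]
    rw [← hi, show m ^ i = (m ^ i) ^ 5 * (((m ^ i) ^ 2) ^ 2)⁻¹ by group, h5', h2]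
    simp
  have htC : H.t ∈ C := H.B0_le_cent hm h5 H.tB0
  have hhC : H.h ∈ C := H.h_cent hm h5
  set tL : ↥Ls := ⟨⟨H.t, htC⟩, H.tC⟩
  set hL : ↥Ls := ⟨⟨H.h, hhC⟩, H.hE.1⟩
  have htt : tL * tL = 1 := Subtype.ext (Subtype.ext H.tt)
  have hne : ∀ {x : ↥Ls}, ((x : ↥C) : G) ≠ 1 → g x ≠ 1 := fun hx h => hx (by
    rw [hginj (h.trans (map_one g).symm)]; rfl)
  have hcoe : ∀ (a b : alternatingGroup (Fin 5)), ((a * b : alternatingGroup (Fin 5)) :
      Equiv.Perm (Fin 5)) = a * b := fun _ _ => rfl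
  obtain ⟨ρ, hρt, hρh⟩ := std_pair (g tL) (g hL)
    (Equiv.Perm.mem_alternatingGroup.mp (g tL).2) (Equiv.Perm.mem_alternatingGroup.mp (g hL).2)
    (congrArg Subtype.val (show g tL * g tL = 1 by rw [← map_mul, htt, map_one]))
    (fun h => hne (x := tL) (fun h' => by
      have h2 := H.ht; rw [show H.t = 1 from h', orderOf_one] at h2; omega) (Subtype.ext h))
    (congrArg Subtype.val (show g hL ^ 3 = 1 by
      rw [← map_pow, show hL ^ 3 = 1 from Subtype.ext (Subtype.ext H.h3), map_one]))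
    (fun h => hne (x := hL) H.h_ne (Subtype.ext h))
    (congrArg Subtype.val (show (g tL * g hL) ^ 3 = 1 by
      rw [← map_mul, ← map_pow, show (tL * hL) ^ 3 = 1 from Subtype.ext (Subtype.ext H.th_cube),
        map_one]))
  -- the normalised map
  let c : alternatingGroup (Fin 5) ≃* alternatingGroup (Fin 5) :=
    { toFun := fun x => ⟨ρ * x * ρ⁻¹, (alternatingGroup.normal).conj_mem x x.2 ρ⟩
      invFun := fun x => ⟨ρ⁻¹ * x * ρ, by
        simpa using (alternatingGroup.normal).conj_mem (x : Equiv.Perm (Fin 5)) x.2 ρ⁻¹⟩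
      left_inv := fun x => Subtype.ext (by simp [mul_assoc])
      right_inv := fun x => Subtype.ext (by simp [mul_assoc])
      map_mul' := fun x y => Subtype.ext (by simp [mul_assoc]) }
  set φ : ↥C →* alternatingGroup (Fin 5) := c.toMonoidHom.comp f with hφ
  set g' : ↥Ls →* alternatingGroup (Fin 5) := φ.comp Ls.subtype
  have hg' : Function.Injective g' := fun x y e => hginj (c.injective e)
  have hgt : g' tL = sT := Subtype.ext hρt
  have hgh : g' hL = sH := Subtype.ext hρh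
  have hφk : ∀ x : ↥C, φ x = 1 ↔ (x : G) ∈ Subgroup.zpowers m := fun x => by
    rw [← hfk x]; exact ⟨fun h => c.injective (h.trans (map_one c).symm), fun h => by
      show c (f x) = 1
      rw [h, map_one]⟩
  -- conjugation by `z` commutes with `φ`
  let cz : ↥C →* ↥C := MonoidHom.mk' (fun x => ⟨H.z * x * H.z, hzC x.2⟩) (fun x y => Subtype.ext (by
    show H.z * ((x : G) * y) * H.z = (H.z * x * H.z) * (H.z * y * H.z)
    rw [show (H.z * x * H.z) * (H.z * y * H.z) = H.z * x * (H.z * H.z) * y * H.z by group, H.zz,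
      mul_one]
    group))
  have hczk : ∀ x, φ x = 1 → φ (cz x) = 1 := fun x hx => by
    rw [hφk] at hx ⊢
    obtain ⟨i, hi⟩ := hx
    refine ⟨-i, ?_⟩
    show m ^ (-i) = H.z * (x : G) * H.z
    rw [← show m ^ i = (x : G) from hi]
    have := conj_zpow (a := H.z) (b := m) (i := i)
    rw [H.z_inv, hinv] at this
    rw [← this, inv_zpow, zpow_neg]
  obtain ⟨x, hx⟩ := (c.surjective.comp hfs) sR
  have hx : φ x = sR := hx
  have hczL : ∀ y : ↥Ls, cz y = y := fun y => Subtype.ext (by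
    show H.z * ((y : ↥C) : G) * H.z = _
    rw [show H.z * ((y : ↥C) : G) = ((y : ↥C) : G) * H.z from (H.mem_Cz.mp y.2).eq.symm,
      mul_assoc, H.zz, mul_one])
  have hrel : ∀ (w : ↥Ls) (k : ℕ), (g' w * sR) ^ k = 1 → (g' w * φ (cz x)) ^ k = 1 := fun w k hk => by
    have h1 : φ (((w : ↥C) * x) ^ k) = 1 := by rw [map_pow, map_mul, hx]; exact hk
    have h2 := hczk _ h1
    rw [map_pow, map_mul, hczL, map_pow, map_mul] at h2
    exact h2
  obtain ⟨r1, r2, r3, r4, r5, r6, -⟩ := pr_rels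
  have hxx : φ (cz x) = sR := by
    refine Subtype.ext (pr_unique _ (Equiv.Perm.mem_alternatingGroup.mp (φ (cz x)).2) ?_ ?_ ?_ ?_ ?_ ?_)
    · have h1 : φ (x * x) = 1 := by rw [map_mul, hx]; exact r5
      have h2 := hczk _ h1
      rw [map_mul, map_mul] at h2
      exact congrArg Subtype.val h2
    · intro h
      have hczcz : cz (cz x) = x := Subtype.ext (by
        show H.z * (H.z * (x : G) * H.z) * H.z = x
        rw [show H.z * (H.z * (x : G) * H.z) * H.z = (H.z * H.z) * x * (H.z * H.z) by group, H.zz]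
        simp)
      have := hczk _ (Subtype.ext h : φ (cz x) = 1)
      rw [hczcz, hx] at this
      exact r6 this
    · have := hrel tL 3 (by rw [hgt]; exact r1)
      rw [hgt] at this; exact congrArg Subtype.val this
    · have := hrel hL 2 (by rw [hgh]; exact r2)
      rw [hgh] at this; exact congrArg Subtype.val this
    · have := hrel (tL * hL) 5 (by rw [map_mul, hgt, hgh]; exact r3)
      rw [map_mul, hgt, hgh] at this; exact congrArg Subtype.val this
    · have := hrel (hL * hL) 2 (by rw [map_mul, hgh]; exact r4)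
      rw [map_mul, hgh] at this; exact congrArg Subtype.val this
  -- correct `x` by a power of `m`
  have hzx : φ (x⁻¹ * cz x) = 1 := by rw [map_mul, map_inv, hxx, hx, inv_mul_cancel]
  obtain ⟨i, hi⟩ := (hφk _).mp hzx
  have hi : m ^ i = (x : G)⁻¹ * (H.z * x * H.z) := hi
  have hxm : Commute (x : G) m := hmem.mp x.2
  set x' : ↥C := ⟨(x : G) * m ^ (3 * i),
    hmem.mpr (hxm.mul_left ((Commute.refl m).zpow_left _))⟩
  have hx'z : (x' : G) ∈ H.Cz := by
    refine H.mem_Cz.mpr ?_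
    have hzm : H.z * m ^ (3 * i) * H.z = m ^ (-(3 * i)) := by
      have := conj_zpow (a := H.z) (b := m) (i := 3 * i)
      rw [H.z_inv, hinv] at this
      rw [← this, inv_zpow, zpow_neg]
    have key : H.z * ((x : G) * m ^ (3 * i)) * H.z = (x : G) * m ^ (3 * i) := by
      rw [show H.z * ((x : G) * m ^ (3 * i)) * H.z =
          (H.z * x * H.z) * (H.z⁻¹ * m ^ (3 * i) * H.z) by group, H.z_inv, hzm,
        show H.z * (x : G) * H.z = x * m ^ i by rw [hi, mul_inv_cancel_left], mul_assoc, ← zpow_add]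
      congr 1
      rw [show i + -(3 * i) = 3 * i + (5 : ℤ) * (-i) by ring, zpow_add, zpow_mul m 5 (-i),
        show m ^ (5 : ℤ) = 1 by exact_mod_cast hm5, one_zpow, mul_one]
    show (x : G) * m ^ (3 * i) * H.z = H.z * ((x : G) * m ^ (3 * i))
    conv_lhs => rw [← key]
    rw [mul_assoc, H.zz, mul_one]
  have hgx : g' ⟨x', hx'z⟩ = sR := by
    show φ x' = sR
    rw [show x' = x * ⟨m ^ (3 * i), hmem.mpr ((Commute.refl m).zpow_left _)⟩ from rfl, map_mul, hx,
      (hφk ⟨m ^ (3 * i), hmem.mpr ((Commute.refl m).zpow_left _)⟩).mpr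
        (Subgroup.zpow_mem_zpowers m (3 * i)), mul_one]
  have hsurj : Function.Surjective g' := by
    rw [← MonoidHom.range_eq_top]
    exact eq_top_of_three ⟨tL, hgt⟩ ⟨hL, hgh⟩ ⟨_, hgx⟩
  let E := MulEquiv.ofBijective g' ⟨hg', hsurj⟩
  refine ⟨(C.subtype.comp Ls.subtype).comp E.symm.toMonoidHom,
    C.subtype_injective.comp (Ls.subtype_injective.comp E.symm.injective), ?_, ?_,
    fun x => ⟨H.mem_Cz.mp (E.symm x).2, hmem.mp (E.symm x : ↥C).2⟩⟩
  · show ((E.symm sT : ↥C) : G) = H.t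
    rw [show E.symm sT = tL from E.symm_apply_eq.mpr hgt.symm]
  · show ((E.symm sH : ↥C) : G) = H.h
    rw [show E.symm sH = hL from E.symm_apply_eq.mpr hgh.symm]

end Hyp

end Cfsg.Agent.Lib.JankoTwoType
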