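import Mathlib

/-!
An extraspecial group `Q` of order 32 in the centraliser of an involution `z`, admitting an element
of order 5 and containing a non-central involution: it is `Q₈ ∘ D₈`, its five pairs of non-central
involutions pairwise do not commute and `C(z)/Q` embeds in the symmetric group on these pairs.
-/

set_option autoImplicit false
set_option linter.unusedSectionVars false
set_option linter.style.haveILetI false

namespace Cfsg.Agent.Lib.JankoTwoType

/-- The data of the centraliser of `z`. -/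
structure Pre (G : Type*) [Group G] where
  z : G
  Q : Subgroup G
  hz : orderOf z = 2
  hzQ : z ∈ Q
  le : ∀ x ∈ Q, Commute x z
  norm : ∀ c, Commute c z → ∀ x ∈ Q, c * x * c⁻¹ ∈ Q
  card : Nat.card Q = 32
  center : ∀ x ∈ Q, (∀ y ∈ Q, Commute x y) → x = 1 ∨ x = z
  sq : ∀ x ∈ Q, x * x = 1 ∨ x * x = z
  comm : ∀ x ∈ Q, ∀ y ∈ Q, x * y = y * x ∨ x * y = y * x * z
  self : ∀ c, Commute c z → (∀ x ∈ Q, Commute c x) → c ∈ Q
  u0 : G
  hu0 : u0 ∈ Q
  hu0z : u0 ≠ z
  hu0i : u0 * u0 = 1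
  hu01 : u0 ≠ 1
  f : G
  hf : orderOf f = 5
  hfz : Commute f z

namespace Pre

variable {G : Type*} [Group G] (P : Pre G)

/-- `z` or `1`. -/
def zb (b : Bool) : G := if b then P.z else 1

theorem zz : P.z * P.z = 1 := by
  have := pow_orderOf_eq_one P.z
  rwa [P.hz, pow_two] at this

theorem z_ne : P.z ≠ 1 := fun h => by have := P.hz; rw [h, orderOf_one] at this; omega

theorem z_inv : P.z⁻¹ = P.z := inv_eq_of_mul_eq_one_right P.zz

@[simp] theorem zb_false : P.zb false = 1 := rfl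

@[simp] theorem zb_true : P.zb true = P.z := rfl

theorem zb_mul (a b : Bool) : P.zb a * P.zb b = P.zb (xor a b) := by
  cases a <;> cases b <;> simp [zb, P.zz]

theorem zb_inj {a b : Bool} (h : P.zb a = P.zb b) : a = b := by
  cases a <;> cases b <;> simp_all [zb, P.z_ne, P.z_ne.symm]

theorem zb_mem (b : Bool) : P.zb b ∈ P.Q := by
  cases b <;> simp [zb, P.hzQ, one_mem]

theorem zb_comm {x : G} (hx : Commute x P.z) (b : Bool) : Commute x (P.zb b) := by
  cases b <;> simp [zb, hx]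

theorem zb_inv (b : Bool) : (P.zb b)⁻¹ = P.zb b := by
  cases b <;> simp [zb, P.z_inv]

/-- Whether two elements fail to commute. -/
noncomputable def nc (x y : G) : Bool := by classical exact decide (x * y ≠ y * x)

/-- Whether an element is not an involution. -/
noncomputable def sqb (x : G) : Bool := by classical exact decide (x * x ≠ 1)

omit P in
theorem nc_false_iff {x y : G} : nc x y = false ↔ Commute x y := by
  simp [nc, Commute, SemiconjBy]

omit P in
theorem sqb_false_iff {x : G} : sqb x = false ↔ x * x = 1 := by simp [sqb]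

theorem mul_eq_nc {x y : G} (hx : x ∈ P.Q) (hy : y ∈ P.Q) : x * y = y * x * P.zb (nc x y) := by
  rcases P.comm x hx y hy with h | h
  · rw [nc_false_iff.mpr h]; simpa using h
  · have : nc x y = true := by
      rw [← Bool.not_eq_false, nc_false_iff]
      intro h'
      exact P.z_ne (mul_left_cancel (a := y * x) (by rw [mul_one]; exact h.symm.trans h'))
    rw [this]; exact h

theorem sq_eq {x : G} (hx : x ∈ P.Q) : x * x = P.zb (sqb x) := by
  rcases P.sq x hx with h | h
  · rw [sqb_false_iff.mpr h]; simpa using h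
  · have : sqb x = true := by
      rw [← Bool.not_eq_false, sqb_false_iff, h]
      exact P.z_ne
    rw [this]; exact h

theorem zQ {x : G} (hx : x ∈ P.Q) (b : Bool) : P.zb b * x = x * P.zb b :=
  (P.zb_comm (P.le x hx) b).eq.symm

theorem nc_mul {x x' y : G} (hx : x ∈ P.Q) (hx' : x' ∈ P.Q) (hy : y ∈ P.Q) :
    nc (x * x') y = xor (nc x y) (nc x' y) := by
  apply P.zb_inj
  apply mul_left_cancel (a := y * (x * x'))
  rw [← P.mul_eq_nc (mul_mem hx hx') hy, ← P.zb_mul]
  calc x * x' * y = x * (x' * y) := mul_assoc _ _ _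
    _ = (x * y) * x' * P.zb (nc x' y) := by rw [P.mul_eq_nc hx' hy]; group
    _ = y * x * (P.zb (nc x y) * x') * P.zb (nc x' y) := by rw [P.mul_eq_nc hx hy]; group
    _ = _ := by rw [P.zQ hx']; group

theorem nc_zb {y : G} (hy : y ∈ P.Q) (b : Bool) : nc (P.zb b) y = false :=
  nc_false_iff.mpr (P.zb_comm (P.le y hy) b).symm

omit P in
theorem nc_comm (x y : G) : nc x y = nc y x := by
  rw [Bool.eq_iff_iff]; simp only [nc, decide_eq_true_eq]; exact ne_comm

theorem sqb_mul {x y : G} (hx : x ∈ P.Q) (hy : y ∈ P.Q) :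
    sqb (x * y) = xor (xor (sqb x) (sqb y)) (nc y x) := by
  apply P.zb_inj
  rw [← P.sq_eq (mul_mem hx hy), ← P.zb_mul, ← P.zb_mul, ← P.sq_eq hx, ← P.sq_eq hy]
  calc x * y * (x * y) = x * (y * x) * y := by group
    _ = x * x * (y * P.zb (nc y x) * y) := by rw [P.mul_eq_nc hy hx]; group
    _ = _ := by rw [← P.zQ hy]; rw [show P.zb (nc y x) * y * y = P.zb (nc y x) * (y * y) by group,
                  P.zQ (mul_mem hy hy)]; group

theorem sqb_zb (b : Bool) : sqb (P.zb b) = false := by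
  rw [sqb_false_iff, P.zb_mul, Bool.xor_self]; rfl

theorem sqb_mul_zb {x : G} (hx : x ∈ P.Q) (b : Bool) : sqb (x * P.zb b) = sqb x := by
  rw [P.sqb_mul hx (P.zb_mem b), P.sqb_zb, nc_comm, nc_false_iff.mpr (P.zb_comm (P.le x hx) b)]
  simp

/-- A sign. -/
def sgn (b : Bool) : ℤ := if b then -1 else 1

omit P in
theorem sgn_xor (a b : Bool) : sgn (xor a b) = sgn a * sgn b := by
  cases a <;> cases b <;> simp [sgn]

variable [Finite G]

/-- The involutions of `Q` other than `z`. -/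
def S10 : Set G := {x | x ∈ P.Q ∧ x * x = 1 ∧ x ≠ 1 ∧ x ≠ P.z}

theorem ncard_Q : (P.Q : Set G).ncard = 32 := P.card

theorem ncard_sq_one : {x | x ∈ P.Q ∧ x * x = 1}.ncard = 20 ∨
    {x | x ∈ P.Q ∧ x * x = 1}.ncard = 12 := by
  classical
  let _ := Fintype.ofFinite G
  set s : Finset ↥P.Q := Finset.univ with hs
  have hflip : ∀ d : ↥P.Q, (d : G) ≠ 1 → (d : G) ≠ P.z →
      ∑ x : ↥P.Q, sgn (nc (d : G) x) = 0 := by
    intro d h1 hz
    obtain ⟨y, hy, hdy⟩ : ∃ y ∈ P.Q, ¬ Commute (d : G) y := by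
      by_contra h
      push Not at h
      exact (P.center _ d.2 h).elim h1 hz
    have e := Equiv.sum_comp (Equiv.mulRight (⟨y, hy⟩ : ↥P.Q))
      (fun x : ↥P.Q => sgn (nc (d : G) x))
    have key : ∀ x : ↥P.Q, sgn (nc (d : G) ((Equiv.mulRight (⟨y, hy⟩ : ↥P.Q)) x : ↥P.Q)) =
        - sgn (nc (d : G) x) := by
      intro x
      have : nc (d : G) y = true := by rw [← Bool.not_eq_false, nc_false_iff]; exact hdy
      rw [Equiv.coe_mulRight, Subgroup.coe_mul, nc_comm, P.nc_mul x.2 hy d.2, nc_comm (x : G),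
        nc_comm y, this, sgn_xor]
      simp [sgn]
    simp only [key, Finset.sum_neg_distrib] at e
    linarith
  have hall : ∀ d : ↥P.Q, ((d : G) = 1 ∨ (d : G) = P.z) →
      ∑ x : ↥P.Q, sgn (nc (d : G) x) = 32 := by
    intro d hd
    have : ∀ x : ↥P.Q, nc (d : G) x = false := fun x => nc_false_iff.mpr (by
      rcases hd with h | h <;> rw [h]
      · exact Commute.one_left _
      · exact (P.le x x.2).symm)
    simp only [this, sgn, Bool.false_eq_true, if_false, Finset.sum_const, Finset.card_univ,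
      ← Nat.card_eq_fintype_card, P.card]
    rfl
  have hM : (∑ x : ↥P.Q, sgn (sqb (x : G))) ^ 2 = 64 := by
    calc (∑ x : ↥P.Q, sgn (sqb (x : G))) ^ 2
        = ∑ x : ↥P.Q, ∑ d : ↥P.Q, sgn (sqb (x : G)) * sgn (sqb ((x * d : ↥P.Q) : G)) := by
          rw [pow_two, Finset.sum_mul]
          refine Finset.sum_congr rfl fun x _ => ?_
          rw [Finset.mul_sum]
          exact (Equiv.sum_comp (Equiv.mulLeft x)
            (fun y : ↥P.Q => sgn (sqb (x : G)) * sgn (sqb (y : G)))).symm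
      _ = ∑ x : ↥P.Q, ∑ d : ↥P.Q, sgn (sqb (d : G)) * sgn (nc (d : G) x) := by
          refine Finset.sum_congr rfl fun x _ => Finset.sum_congr rfl fun d _ => ?_
          rw [Subgroup.coe_mul, P.sqb_mul x.2 d.2, sgn_xor, sgn_xor]
          have : sgn (sqb (x : G)) * sgn (sqb (x : G)) = 1 := by
            cases sqb (x : G) <;> simp [sgn]
          linear_combination (sgn (sqb (d : G)) * sgn (nc (d : G) x)) * this
      _ = ∑ d : ↥P.Q, sgn (sqb (d : G)) * ∑ x : ↥P.Q, sgn (nc (d : G) x) := by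
          rw [Finset.sum_comm]
          exact Finset.sum_congr rfl fun d _ => (Finset.mul_sum _ _ _).symm
      _ = 64 := by
          rw [← Finset.sum_subset (Finset.subset_univ ({⟨1, one_mem _⟩, ⟨P.z, P.hzQ⟩} : Finset ↥P.Q))
            (fun d _ hd => by
              rw [hflip d (fun h => hd (by simp [Subtype.ext_iff, h]))
                (fun h => hd (by simp [Subtype.ext_iff, h])), mul_zero])]
          rw [Finset.sum_pair (by simp [Subtype.ext_iff, P.z_ne.symm]), hall _ (Or.inl rfl),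
            hall _ (Or.inr rfl)]
          have h1 : sqb (1 : G) = false := sqb_false_iff.mpr (one_mul 1)
          simp [h1, sqb_false_iff.mpr P.zz, sgn]
  have hcnt : ∑ x : ↥P.Q, sgn (sqb (x : G)) =
      2 * ({x | x ∈ P.Q ∧ x * x = 1}.ncard : ℤ) - 32 := by
    have h1 : {x | x ∈ P.Q ∧ x * x = 1}.ncard =
        (Finset.univ.filter fun x : ↥P.Q => sqb (x : G) = false).card := by
      rw [← Set.ncard_coe_finset, ← Set.ncard_image_of_injective _ (Subtype.coe_injective)]
      congr 1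
      ext x
      simp [sqb_false_iff, and_comm]
    have h2 : ∀ b : Bool, sgn b = 2 * (if b = false then 1 else 0) - 1 := by decide
    simp only [h2]
    rw [Finset.sum_sub_distrib, ← Finset.mul_sum, Finset.sum_boole, h1]
    simp [Finset.card_univ, ← Nat.card_eq_fintype_card, P.card]
  rw [hcnt] at hM
  have h := mul_self_eq_mul_self_iff.mp (show
    (2 * ({x | x ∈ P.Q ∧ x * x = 1}.ncard : ℤ) - 32) *
      (2 * ({x | x ∈ P.Q ∧ x * x = 1}.ncard : ℤ) - 32) = 8 * 8 by rw [← pow_two, hM]; norm_num)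
  omega

/-- A set permuted by conjugation with `f` has size congruent to its fixed part modulo 5. -/
theorem modEq_fixed (S : Set G) (hS : ∀ x ∈ S, P.f * x * P.f⁻¹ ∈ S) :
    S.ncard ≡ {x | x ∈ S ∧ Commute P.f x}.ncard [MOD 5] := by
  haveI : Fact (Nat.Prime 5) := ⟨by norm_num⟩
  have hp : IsPGroup 5 ↥(Subgroup.zpowers P.f) :=
    IsPGroup.of_card (n := 1) (by rw [Nat.card_zpowers, P.hf, pow_one])
  have hpow : ∀ (i : ℕ), ∀ x ∈ S, P.f ^ i * x * (P.f ^ i)⁻¹ ∈ S := by
    intro i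
    induction i with
    | zero => simp
    | succ i ih =>
      intro x hx
      have := hS _ (ih x hx)
      rw [pow_succ', show P.f * P.f ^ i * x * (P.f * P.f ^ i)⁻¹ =
        P.f * (P.f ^ i * x * (P.f ^ i)⁻¹) * P.f⁻¹ by group]
      exact this
  have hmem : ∀ c ∈ Subgroup.zpowers P.f, ∀ x ∈ S, c * x * c⁻¹ ∈ S := by
    intro c hc x hx
    obtain ⟨i, rfl⟩ := mem_powers_iff_mem_zpowers.mpr hc
    exact hpow i x hx
  letI : MulAction ↥(Subgroup.zpowers P.f) ↥S :=
    { smul := fun c x => ⟨c * x * (c : G)⁻¹, hmem c c.2 x x.2⟩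
      one_smul := fun x => Subtype.ext (by show (1 : G) * x * 1⁻¹ = x; simp)
      mul_smul := fun c d x => Subtype.ext (by
        show ((c : G) * d) * x * ((c : G) * d)⁻¹ = c * (d * x * (d : G)⁻¹) * (c : G)⁻¹
        group) }
  have h := hp.card_modEq_card_fixedPoints ↥S
  rw [Nat.card_coe_set_eq] at h
  refine h.trans (congrArg (· % 5) ?_)
  rw [← Nat.card_coe_set_eq]
  refine Nat.card_congr ⟨fun x => ⟨x.1.1, x.1.2, ?_⟩, fun x => ⟨⟨x.1, x.2.1⟩, ?_⟩, fun x => rfl,
    fun x => rfl⟩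
  · have := congrArg Subtype.val (x.2 ⟨P.f, Subgroup.mem_zpowers _⟩)
    exact mul_inv_eq_iff_eq_mul.mp this
  · rintro ⟨c, hc⟩
    obtain ⟨i, rfl⟩ := mem_powers_iff_mem_zpowers.mpr hc
    exact Subtype.ext (mul_inv_eq_iff_eq_mul.mpr (x.2.2.pow_left i))

theorem eq_of_commute_f {x : G} (hx : x ∈ P.Q) (hc : Commute P.f x) : x = 1 ∨ x = P.z := by
  classical
  set D : Subgroup G := P.Q ⊓ Subgroup.centralizer {P.f} with hD
  have hmem : ∀ {y : G}, y ∈ D ↔ y ∈ P.Q ∧ Commute P.f y := fun {y} => by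
    rw [hD, Subgroup.mem_inf, Subgroup.mem_centralizer_singleton_iff]
    exact and_congr_right fun _ => ⟨Eq.symm, Eq.symm⟩
  have h := P.modEq_fixed (P.Q : Set G) (fun y hy => P.norm _ P.hfz y hy)
  have hset : {y | y ∈ (P.Q : Set G) ∧ Commute P.f y} = (D : Set G) := by
    ext y; exact hmem.symm
  rw [hset, P.ncard_Q] at h
  have hd : (D : Set G).ncard = Nat.card D := (Nat.card_coe_set_eq _).symm
  rw [hd] at h
  have hdvd : Nat.card D ∣ 2 ^ 5 :=
    (Subgroup.card_dvd_of_le inf_le_left).trans (by rw [P.card]; norm_num)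
  obtain ⟨k, hk, hDk⟩ := (Nat.dvd_prime_pow Nat.prime_two).mp hdvd
  rw [hDk] at h
  have hk1 : 1 ≤ k := by
    by_contra hk0
    have : Nat.card D = 1 := by rw [hDk]; norm_num; omega
    rw [Subgroup.card_eq_one] at this
    exact P.z_ne (Subgroup.mem_bot.mp (this ▸ hmem.mpr ⟨P.hzQ, P.hfz⟩))
  interval_cases k <;> first | (exact absurd h (by decide)) | skip
  · have hsub : ({1, P.z} : Set G) = (D : Set G) := by
      refine Set.eq_of_subset_of_ncard_le ?_ ?_
      · rintro y (rfl | rfl)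
        · exact one_mem D
        · exact hmem.mpr ⟨P.hzQ, P.hfz⟩
      · rw [hd, hDk, Set.ncard_pair P.z_ne.symm]; norm_num
    have : x ∈ ({1, P.z} : Set G) := hsub ▸ hmem.mpr ⟨hx, hc⟩
    simpa using this
  · exfalso
    have hDQ : D = P.Q := Subgroup.eq_of_le_of_card_ge inf_le_left (by rw [hDk, P.card]; norm_num)
    have hfQ : P.f ∈ P.Q := P.self _ P.hfz fun y hy => (hmem.mp (hDQ.symm ▸ hy)).2
    have := P.Q.orderOf_dvd_natCard hfQ
    rw [P.hf, P.card] at this
    omega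

theorem sq_one_eq :
    {x | x ∈ P.Q ∧ x * x = 1} = insert 1 (insert P.z P.S10) := by
  ext x
  simp only [Set.mem_setOf_eq, Set.mem_insert_iff, S10]
  constructor
  · intro h
    by_cases h1 : x = 1
    · exact Or.inl h1
    by_cases h2 : x = P.z
    · exact Or.inr (Or.inl h2)
    exact Or.inr (Or.inr ⟨h.1, h.2, h1, h2⟩)
  · rintro (rfl | rfl | ⟨h1, h2, -, -⟩)
    · exact ⟨one_mem _, one_mul 1⟩
    · exact ⟨P.hzQ, P.zz⟩
    · exact ⟨h1, h2⟩

theorem u0_mem : P.u0 ∈ P.S10 := by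
  exact ⟨P.hu0, P.hu0i, P.hu01, P.hu0z⟩

theorem S10_conj {c : G} (hc : Commute c P.z) {x : G} (hx : x ∈ P.S10) :
    c * x * c⁻¹ ∈ P.S10 := by
  refine ⟨P.norm c hc x hx.1, ?_, ?_, ?_⟩
  · rw [show c * x * c⁻¹ * (c * x * c⁻¹) = c * (x * x) * c⁻¹ by group, hx.2.1]; group
  · rw [Ne, conj_eq_one_iff]; exact hx.2.2.1
  · intro h
    exact hx.2.2.2 (mul_left_cancel (a := c) (mul_right_cancel (b := c⁻¹) (h.trans (by rw [hc.eq]; group))))

theorem ncard_S10 : P.S10.ncard = 10 := by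
  have h := P.ncard_sq_one
  rw [P.sq_one_eq, Set.ncard_insert_of_notMem, Set.ncard_insert_of_notMem] at h
  · have h5 := P.modEq_fixed P.S10 (fun x hx => P.S10_conj P.hfz hx)
    have h0 : {x | x ∈ P.S10 ∧ Commute P.f x} = ∅ := by
      ext x
      simp only [Set.mem_setOf_eq, Set.mem_empty_iff_false, iff_false, not_and]
      exact fun hx hc => (P.eq_of_commute_f hx.1 hc).elim hx.2.2.1 hx.2.2.2
    rw [h0, Set.ncard_empty] at h5
    unfold Nat.ModEq at h5
    omega
  · exact fun h => h.2.2.2 rfl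
  · simp [S10, P.z_ne.symm]

/-- The five pairs of non-central involutions. -/
def u (i : Fin 5) : G := P.f ^ (i : ℕ) * P.u0 * (P.f ^ (i : ℕ))⁻¹

theorem u_mem (i : Fin 5) : P.u i ∈ P.S10 := P.S10_conj (P.hfz.pow_left _) P.u0_mem

theorem uQ (i : Fin 5) : P.u i ∈ P.Q := (P.u_mem i).1

theorem u_zero : P.u 0 = P.u0 := by simp [u]

theorem u_shift' (a i : Fin 5) :
    P.f ^ (a : ℕ) * P.u i * (P.f ^ (a : ℕ))⁻¹ = P.u (a + i) := by
  have : P.f ^ ((a + i : Fin 5) : ℕ) = P.f ^ ((a : ℕ) + i) := by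
    rw [Fin.val_add, ← pow_mod_orderOf P.f ((a : ℕ) + i), P.hf]
  rw [u, u, this, pow_add]
  group

theorem u_eq_zb {i j : Fin 5} {b : Bool} (h : P.u i = P.u j * P.zb b) : i = j ∧ b = false := by
  have hij : i = j := by
    by_contra hne
    have e := congrArg (fun x => P.f ^ ((-j : Fin 5) : ℕ) * x * (P.f ^ ((-j : Fin 5) : ℕ))⁻¹) h
    rw [show P.f ^ ((-j : Fin 5) : ℕ) * (P.u j * P.zb b) * (P.f ^ ((-j : Fin 5) : ℕ))⁻¹ =
      (P.f ^ ((-j : Fin 5) : ℕ) * P.u j * (P.f ^ ((-j : Fin 5) : ℕ))⁻¹) *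
        (P.f ^ ((-j : Fin 5) : ℕ) * P.zb b * (P.f ^ ((-j : Fin 5) : ℕ))⁻¹) by group,
      (P.zb_comm (P.hfz.pow_left _) b).eq, mul_inv_cancel_right, P.u_shift', P.u_shift',
      neg_add_cancel, P.u_zero] at e
    set d := -j + i with hd
    have hd0 : d ≠ 0 := fun h0 => hne (by rw [hd, neg_add_eq_zero] at h0; exact h0.symm)
    rw [u] at e
    -- `f ^ d` fixes `u0` up to `z`, so `f ^ (2 d)` fixes it
    have e2 : P.f ^ ((d : ℕ) + d) * P.u0 * (P.f ^ ((d : ℕ) + d))⁻¹ = P.u0 := by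
      rw [pow_add, show P.f ^ (d : ℕ) * P.f ^ (d : ℕ) * P.u0 * (P.f ^ (d : ℕ) * P.f ^ (d : ℕ))⁻¹ =
        P.f ^ (d : ℕ) * (P.f ^ (d : ℕ) * P.u0 * (P.f ^ (d : ℕ))⁻¹) * (P.f ^ (d : ℕ))⁻¹ by group, e,
        show P.f ^ (d : ℕ) * (P.u0 * P.zb b) * (P.f ^ (d : ℕ))⁻¹ =
          (P.f ^ (d : ℕ) * P.u0 * (P.f ^ (d : ℕ))⁻¹) *
            (P.f ^ (d : ℕ) * P.zb b * (P.f ^ (d : ℕ))⁻¹) by group, e,
        (P.zb_comm (P.hfz.pow_left _) b).eq, mul_inv_cancel_right, mul_assoc, P.zb_mul, Bool.xor_self,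
        P.zb_false, mul_one]
    have hc : Commute (P.f ^ ((d : ℕ) + d)) P.u0 := mul_inv_eq_iff_eq_mul.mp e2
    have hco : Nat.Coprime ((d : ℕ) + d) (orderOf P.f) := by
      rw [P.hf]
      revert hd0
      generalize d = e'
      revert e'
      decide
    obtain ⟨m, hm⟩ := exists_pow_eq_self_of_coprime hco
    have := hc.pow_left m
    rw [hm] at this
    exact (P.eq_of_commute_f P.hu0 this).elim P.u0_mem.2.2.1 P.hu0z
  subst hij
  refine ⟨rfl, P.zb_inj (mul_left_cancel (a := P.u i) ?_)⟩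
  rw [← h, P.zb_false, mul_one]

theorem exists_u {x : G} (hx : x ∈ P.S10) : ∃ i b, x = P.u i * P.zb b := by
  have hinj : Function.Injective (fun p : Fin 5 × Bool => P.u p.1 * P.zb p.2) := by
    rintro ⟨i, a⟩ ⟨j, b⟩ h
    simp only at h
    have h' : P.u i = P.u j * P.zb (xor b a) := by
      rw [← P.zb_mul, ← mul_assoc, ← h, mul_assoc, P.zb_mul, Bool.xor_self, P.zb_false, mul_one]
    obtain ⟨rfl, hab⟩ := P.u_eq_zb h'
    have : a = b := by revert hab; cases a <;> cases b <;> simp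
    rw [this]
  have hsub : Set.range (fun p : Fin 5 × Bool => P.u p.1 * P.zb p.2) ⊆ P.S10 := by
    rintro _ ⟨⟨i, b⟩, rfl⟩
    have hm := P.u_mem i
    refine ⟨mul_mem hm.1 (P.zb_mem b), ?_, ?_, ?_⟩
    · rw [← sqb_false_iff, P.sqb_mul_zb hm.1, sqb_false_iff]; exact hm.2.1
    · intro h
      cases b
      · exact hm.2.2.1 (by simpa using h)
      · exact hm.2.2.2 (by
          have := eq_inv_of_mul_eq_one_left h
          rwa [P.zb_true, P.z_inv] at this)
    · intro h
      cases b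
      · exact hm.2.2.2 (by simpa using h)
      · exact hm.2.2.1 (by simpa using h)
  have := Set.eq_of_subset_of_ncard_le hsub (by
    rw [P.ncard_S10, Set.ncard_range_of_injective hinj]; simp)
  obtain ⟨⟨i, b⟩, h⟩ := this.symm ▸ hx
  exact ⟨i, b, h.symm⟩

theorem u_not_commute {i j : Fin 5} (hij : i ≠ j) : ¬ Commute (P.u i) (P.u j) := by
  classical
  let R : Fin 5 → Bool := fun r => decide (r ≠ 0 ∧ Commute (P.u 0) (P.u r))
  have shift : ∀ a i j, Commute (P.u i) (P.u j) → Commute (P.u (a + i)) (P.u (a + j)) := by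
    intro a i j h
    rw [← P.u_shift', ← P.u_shift']
    exact h.map (MulAut.conj (P.f ^ (a : ℕ))).toMonoidHom
  have hR : ∀ r, R r = true → R (-r) = true ∧ ∃ s, s ≠ r ∧ R s = true ∧ R (s - r) = true := by
    intro r hr
    simp only [R, decide_eq_true_eq] at hr ⊢
    refine ⟨⟨by simpa using hr.1, ?_⟩, ?_⟩
    · have := shift (-r) _ _ hr.2.symm
      rwa [neg_add_cancel, add_zero] at this
    have hne : P.u 0 * P.u r ∈ P.S10 := by
      refine ⟨mul_mem (P.uQ 0) (P.uQ r), ?_, ?_, ?_⟩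
      · rw [← sqb_false_iff, P.sqb_mul (P.uQ 0) (P.uQ r), sqb_false_iff.mpr (P.u_mem 0).2.1,
          sqb_false_iff.mpr (P.u_mem r).2.1, nc_false_iff.mpr hr.2.symm]
        rfl
      · intro h
        have e : P.u r = P.u 0 * P.zb false := by
          rw [P.zb_false, mul_one, eq_inv_of_mul_eq_one_right h]
          exact inv_eq_of_mul_eq_one_right (P.u_mem 0).2.1
        exact hr.1 (P.u_eq_zb e).1
      · intro h
        have e : P.u r = P.u 0 * P.zb true := by
          rw [P.zb_true, ← h, ← mul_assoc, (P.u_mem 0).2.1, one_mul]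
        exact hr.1 (P.u_eq_zb e).1
    obtain ⟨s, b, hs⟩ := P.exists_u hne
    have hs' : P.u s = P.u 0 * P.u r * P.zb b := by
      rw [hs, mul_assoc, P.zb_mul, Bool.xor_self, P.zb_false, mul_one]
    have c0 : Commute (P.u 0) (P.u s) := by
      rw [hs']
      exact ((Commute.refl _).mul_right hr.2).mul_right (P.zb_comm (P.le _ (P.uQ 0)) b)
    have cr : Commute (P.u r) (P.u s) := by
      rw [hs']
      exact (hr.2.symm.mul_right (Commute.refl _)).mul_right (P.zb_comm (P.le _ (P.uQ r)) b)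
    have hs0 : s ≠ 0 := by
      intro h0
      subst h0
      have e : P.u r = P.zb b := by
        rw [mul_assoc] at hs'
        have e1 := eq_inv_of_mul_eq_one_left (mul_left_cancel (hs'.symm.trans (mul_one _).symm))
        rwa [P.zb_inv] at e1
      cases b
      · exact (P.u_mem r).2.2.1 e
      · exact (P.u_mem r).2.2.2 e
    have hsr : s ≠ r := by
      intro h0
      subst h0
      have e : P.u 0 = P.zb b := by
        have e1 : P.u 0 * P.zb b * P.u s = P.u s := by
          rw [mul_assoc, P.zQ (P.uQ s), ← mul_assoc]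
          exact hs'.symm
        rw [mul_eq_right] at e1
        exact (eq_inv_of_mul_eq_one_left e1).trans (P.zb_inv b)
      cases b
      · exact (P.u_mem 0).2.2.1 e
      · exact (P.u_mem 0).2.2.2 e
    refine ⟨s, hsr, ⟨hs0, c0⟩, sub_ne_zero.mpr hsr, ?_⟩
    have := shift (-r) _ _ cr
    rwa [neg_add_cancel, neg_add_eq_sub] at this
  have hall : (∀ r, R r = false) ∨ ∀ r, r ≠ 0 → R r = true := by
    revert hR
    have h0 : R 0 = false := by simp [R]
    revert h0
    generalize R = R'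
    revert R'
    decide
  rcases hall with hall | hall
  · intro h
    have h' := shift (-i) _ _ h
    rw [neg_add_cancel] at h'
    have := hall (-i + j)
    simp only [R, decide_eq_false_iff_not] at this
    exact this ⟨fun e => hij (neg_add_eq_zero.mp e), h'⟩
  · exfalso
    have hcomm : ∀ i j, Commute (P.u i) (P.u j) := by
      intro i j
      rcases eq_or_ne i j with rfl | h
      · exact Commute.refl _
      · have h' := hall (-i + j) (fun e => h (neg_add_eq_zero.mp e))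
        simp only [R, decide_eq_true_eq] at h'
        have := shift i _ _ h'.2
        rwa [add_zero, add_neg_cancel_left] at this
    have hform : ∀ x, x ∈ P.Q → x * x = 1 → (∀ i, Commute x (P.u i)) := by
      intro x hx hx2 i
      by_cases h1 : x = 1
      · rw [h1]; exact Commute.one_left _
      by_cases h2 : x = P.z
      · rw [h2]; exact (P.le _ (P.uQ i)).symm
      obtain ⟨j, b, rfl⟩ := P.exists_u ⟨hx, hx2, h1, h2⟩
      exact (hcomm j i).mul_left (P.zb_comm (P.le _ (P.uQ i)) b).symm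
    have hmul : ∀ x y, x ∈ P.Q → y ∈ P.Q → x * x = 1 → y * y = 1 → (x * y) * (x * y) = 1 := by
      intro x y hx hy hx2 hy2
      rw [← sqb_false_iff, P.sqb_mul hx hy, sqb_false_iff.mpr hx2, sqb_false_iff.mpr hy2]
      suffices h : Commute y x by rw [nc_false_iff.mpr h]; rfl
      by_cases h1 : x = 1
      · rw [h1]; exact Commute.one_right _
      by_cases h2 : x = P.z
      · rw [h2]; exact P.le _ hy
      obtain ⟨j, b, rfl⟩ := P.exists_u ⟨hx, hx2, h1, h2⟩
      exact (hform y hy hy2 j).mul_right (P.zb_comm (P.le _ hy) b)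
    let K : Subgroup G :=
      { carrier := {x | x ∈ P.Q ∧ x * x = 1}
        one_mem' := ⟨one_mem _, one_mul 1⟩
        mul_mem' := fun ha hb => ⟨mul_mem ha.1 hb.1, hmul _ _ ha.1 hb.1 ha.2 hb.2⟩
        inv_mem' := fun {x} hx => ⟨inv_mem hx.1, by rw [← mul_inv_rev, hx.2, inv_one]⟩ }
    have hK : Nat.card K ∣ 32 := P.card ▸ Subgroup.card_dvd_of_le (fun x hx => hx.1)
    have : Nat.card K = 12 := by
      show Nat.card {x | x ∈ P.Q ∧ x * x = 1} = 12
      rw [Nat.card_coe_set_eq, P.sq_one_eq, Set.ncard_insert_of_notMem, Set.ncard_insert_of_notMem,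
        P.ncard_S10]
      · exact fun h => h.2.2.2 rfl
      · simp [S10, P.z_ne.symm]
    rw [this] at hK
    omega

/-- The commutation pattern of an element with the five pairs. -/
noncomputable def sig (x : G) : Fin 5 → Bool := fun i => nc x (P.u i)

theorem sig_u (i : Fin 5) : P.sig (P.u i) = fun j => decide (i ≠ j) := by
  funext j
  rcases eq_or_ne i j with rfl | h
  · simp [sig, nc_false_iff.mpr (Commute.refl _)]
  · have : nc (P.u i) (P.u j) = true := by
      rw [← Bool.not_eq_false, nc_false_iff]; exact P.u_not_commute h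
    simp [sig, this, h]

theorem sig_mul {x y : G} (hx : x ∈ P.Q) (hy : y ∈ P.Q) :
    P.sig (x * y) = fun i => xor (P.sig x i) (P.sig y i) :=
  funext fun i => P.nc_mul hx hy (P.uQ i)

theorem sig_zb (b : Bool) : P.sig (P.zb b) = fun _ => false :=
  funext fun i => P.nc_zb (P.uQ i) b

theorem sig_mul_zb {x : G} (hx : x ∈ P.Q) (b : Bool) : P.sig (x * P.zb b) = P.sig x := by
  rw [P.sig_mul hx (P.zb_mem b), P.sig_zb]; simp

/-- A product of the first four. -/
def word (v : Fin 4 → Bool) : G :=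
  (if v 0 then P.u 0 else 1) * (if v 1 then P.u 1 else 1) * (if v 2 then P.u 2 else 1) *
    (if v 3 then P.u 3 else 1)

/-- The pattern of a product of the first four. -/
def comb (v : Fin 4 → Bool) : Fin 5 → Bool := fun i =>
  xor (xor (xor (v 0 && decide ((0 : Fin 5) ≠ i)) (v 1 && decide ((1 : Fin 5) ≠ i)))
    (v 2 && decide ((2 : Fin 5) ≠ i))) (v 3 && decide ((3 : Fin 5) ≠ i))

theorem word_mem (v : Fin 4 → Bool) : P.word v ∈ P.Q := by
  refine mul_mem (mul_mem (mul_mem ?_ ?_) ?_) ?_ <;> split <;>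
    first | exact P.uQ _ | exact one_mem _

theorem sig_word (v : Fin 4 → Bool) : P.sig (P.word v) = comb v := by
  have h : ∀ (b : Bool) (i : Fin 5), (if b then P.u i else 1) ∈ P.Q := by
    intro b i; split
    · exact P.uQ i
    · exact one_mem _
  have h' : ∀ (b : Bool) (i : Fin 5),
      P.sig (if b then P.u i else 1) = fun j => (b && decide (i ≠ j)) := by
    intro b i
    cases b
    · simpa using P.sig_zb false
    · simpa using P.sig_u i
  rw [word, P.sig_mul (mul_mem (mul_mem (h _ _) (h _ _)) (h _ _)) (h _ _),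
    P.sig_mul (mul_mem (h _ _) (h _ _)) (h _ _), P.sig_mul (h _ _) (h _ _), h', h', h', h']
  rfl

theorem sig_structure :
    (∀ x ∈ P.Q, ∃ v b, x = P.word v * P.zb b) ∧
      ∀ x ∈ P.Q, P.sig x = (fun _ => false) → ∃ b, x = P.zb b := by
  classical
  let N : Subgroup G :=
    { carrier := {x | x ∈ P.Q ∧ P.sig x = fun _ => false}
      one_mem' := ⟨one_mem _, P.sig_zb false⟩
      mul_mem' := fun {a b} ha hb => ⟨mul_mem ha.1 hb.1, by rw [P.sig_mul ha.1 hb.1, ha.2, hb.2]; rfl⟩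
      inv_mem' := fun {a} ha => ⟨inv_mem ha.1, by
        have h := P.sig_mul (inv_mem ha.1) ha.1
        rw [inv_mul_cancel, ha.2] at h
        funext i
        have h' := congrFun h i
        have h1 := congrFun (P.sig_zb false) i
        rw [P.zb_false] at h1
        simpa [h1] using h'.symm⟩ }
  have hcinj : Function.Injective comb := by decide
  have hinj : Function.Injective (fun p : (Fin 4 → Bool) × Bool => P.word p.1 * P.zb p.2) := by
    rintro ⟨v, a⟩ ⟨w, b⟩ h
    simp only at h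
    have h1 := congrArg P.sig h
    rw [P.sig_mul_zb (P.word_mem v), P.sig_mul_zb (P.word_mem w), P.sig_word, P.sig_word] at h1
    obtain rfl := hcinj h1
    rw [P.zb_inj (mul_left_cancel h)]
  have hsurj : ∀ x ∈ P.Q, ∃ v b, x = P.word v * P.zb b := by
    intro x hx
    have hsub : Set.range (fun p : (Fin 4 → Bool) × Bool => P.word p.1 * P.zb p.2) ⊆ (P.Q : Set G) := by
      rintro _ ⟨⟨v, b⟩, rfl⟩
      exact mul_mem (P.word_mem v) (P.zb_mem b)
    have := Set.eq_of_subset_of_ncard_le hsub (by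
      rw [P.ncard_Q, Set.ncard_range_of_injective hinj]; simp)
    obtain ⟨⟨v, b⟩, h⟩ := this.symm ▸ (show x ∈ (P.Q : Set G) from hx)
    exact ⟨v, b, h.symm⟩
  refine ⟨hsurj, fun x hx h => ?_⟩
  obtain ⟨v, b, rfl⟩ := hsurj x hx
  rw [P.sig_mul_zb (P.word_mem v), P.sig_word] at h
  have hv : v = fun _ => false := hcinj (h.trans (by decide))
  exact ⟨b, by rw [hv]; simp [word]⟩

theorem eq_of_sig {x y : G} (hx : x ∈ P.Q) (hy : y ∈ P.Q) (h : P.sig x = P.sig y) :
    ∃ b, x = y * P.zb b := by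
  have hy' : P.sig y⁻¹ = P.sig y := by
    have h1 := P.sig_mul (inv_mem hy) hy
    rw [inv_mul_cancel] at h1
    funext i
    have := congrFun h1 i
    have h2 := congrFun (P.sig_zb false) i
    rw [P.zb_false] at h2
    rw [h2] at this
    revert this
    cases P.sig y⁻¹ i <;> cases P.sig y i <;> simp
  obtain ⟨b, hb⟩ := P.sig_structure.2 (y⁻¹ * x) (mul_mem (inv_mem hy) hx)
    (by rw [P.sig_mul (inv_mem hy) hx, hy', h]; simp)
  exact ⟨b, by rw [← hb, mul_inv_cancel_left]⟩

theorem sig_parity {x : G} (hx : x ∈ P.Q) :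
    xor (xor (xor (xor (P.sig x 0) (P.sig x 1)) (P.sig x 2)) (P.sig x 3)) (P.sig x 4) = false := by
  obtain ⟨v, b, rfl⟩ := P.sig_structure.1 x hx
  rw [P.sig_mul_zb (P.word_mem v), P.sig_word]
  clear hx
  revert v
  decide

theorem exists_sig (v : Fin 5 → Bool)
    (hv : xor (xor (xor (xor (v 0) (v 1)) (v 2)) (v 3)) (v 4) = false) :
    ∃ x ∈ P.Q, P.sig x = v := by
  obtain ⟨w, hw⟩ : ∃ w, comb w = v := by
    revert hv
    revert v
    decide
  exact ⟨P.word w, P.word_mem w, by rw [P.sig_word, hw]⟩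

/-- An element of `Q` squares to `1` exactly if its pattern is trivial or that of one of the five. -/
theorem sq_iff_sig {x : G} (hx : x ∈ P.Q) :
    x * x = 1 ↔ P.sig x = (fun _ => false) ∨ ∃ i, P.sig x = fun j => decide (i ≠ j) := by
  constructor
  · intro h
    by_cases h1 : x = 1
    · left; rw [h1]; exact P.sig_zb false
    by_cases h2 : x = P.z
    · left; rw [h2]; exact P.sig_zb true
    obtain ⟨i, b, rfl⟩ := P.exists_u ⟨hx, h, h1, h2⟩
    exact Or.inr ⟨i, by rw [P.sig_mul_zb (P.uQ i), P.sig_u]⟩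
  · rintro (h | ⟨i, h⟩)
    · obtain ⟨b, rfl⟩ := P.sig_structure.2 x hx h
      rw [P.zb_mul, Bool.xor_self]; rfl
    · obtain ⟨b, rfl⟩ := P.eq_of_sig hx (P.uQ i) (h.trans (P.sig_u i).symm)
      rw [← sqb_false_iff, P.sqb_mul_zb (P.uQ i), sqb_false_iff]
      exact (P.u_mem i).2.1

theorem sig_commute {x y : G} (hx : x ∈ P.Q) (hy : y ∈ P.Q) (h : P.sig x = fun _ => false) :
    Commute x y := by
  obtain ⟨b, rfl⟩ := P.sig_structure.2 x hx h
  exact (P.zb_comm (P.le y hy) b).symm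

/-- `C(z)`. -/
abbrev Cz : Subgroup G := Subgroup.centralizer {P.z}

omit [Finite G] in
theorem mem_Cz {c : G} : c ∈ P.Cz ↔ Commute c P.z := Subgroup.mem_centralizer_singleton_iff

theorem exists_perm {c : G} (hc : Commute c P.z) (i : Fin 5) :
    ∃ j b, c * P.u i * c⁻¹ = P.u j * P.zb b := P.exists_u (P.S10_conj hc (P.u_mem i))

/-- The permutation of the five pairs induced by an element of `C(z)`. -/
noncomputable def idx (c : ↥P.Cz) (i : Fin 5) : Fin 5 :=
  (P.exists_perm (P.mem_Cz.mp c.2) i).choose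

theorem idx_spec (c : ↥P.Cz) (i : Fin 5) :
    ∃ b, (c : G) * P.u i * (c : G)⁻¹ = P.u (P.idx c i) * P.zb b :=
  (P.exists_perm (P.mem_Cz.mp c.2) i).choose_spec

theorem idx_eq {c : ↥P.Cz} {i j : Fin 5} {b : Bool}
    (h : (c : G) * P.u i * (c : G)⁻¹ = P.u j * P.zb b) : P.idx c i = j := by
  obtain ⟨b', hb'⟩ := P.idx_spec c i
  exact (P.u_eq_zb (b := xor b b') (by
    rw [← P.zb_mul, ← mul_assoc, ← h, hb', mul_assoc, P.zb_mul, Bool.xor_self, P.zb_false, mul_one])).1

theorem idx_mul (c d : ↥P.Cz) (i : Fin 5) : P.idx (c * d) i = P.idx c (P.idx d i) := by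
  obtain ⟨b, hb⟩ := P.idx_spec d i
  obtain ⟨b', hb'⟩ := P.idx_spec c (P.idx d i)
  apply P.idx_eq (b := xor b' b)
  rw [Subgroup.coe_mul, show (c : G) * d * P.u i * ((c : G) * d)⁻¹ =
    c * ((d : G) * P.u i * (d : G)⁻¹) * (c : G)⁻¹ by group, hb,
    show (c : G) * (P.u (P.idx d i) * P.zb b) * (c : G)⁻¹ =
      (c * P.u (P.idx d i) * (c : G)⁻¹) * ((c : G) * P.zb b * (c : G)⁻¹) by group, hb',
    (P.zb_comm (P.mem_Cz.mp c.2) b).eq, mul_inv_cancel_right, mul_assoc, P.zb_mul]

theorem idx_one (i : Fin 5) : P.idx 1 i = i := P.idx_eq (b := false) (by simp)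

/-- The action of `C(z)` on the five pairs. -/
noncomputable def perm : ↥P.Cz →* Equiv.Perm (Fin 5) :=
  MonoidHom.mk' (fun c => ⟨P.idx c, P.idx c⁻¹,
    fun i => by rw [← P.idx_mul, inv_mul_cancel, P.idx_one],
    fun i => by rw [← P.idx_mul, mul_inv_cancel, P.idx_one]⟩)
    (fun c d => Equiv.ext fun i => P.idx_mul c d i)

theorem perm_spec (c : ↥P.Cz) (i : Fin 5) :
    ∃ b, (c : G) * P.u i * (c : G)⁻¹ = P.u (P.perm c i) * P.zb b := P.idx_spec c i

theorem perm_eq {c : ↥P.Cz} {i j : Fin 5} {b : Bool}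
    (h : (c : G) * P.u i * (c : G)⁻¹ = P.u j * P.zb b) : P.perm c i = j := P.idx_eq h

theorem sig_conj {c : G} (hc : c ∈ P.Cz) {x : G} (hx : x ∈ P.Q) (i : Fin 5) :
    P.sig (c * x * c⁻¹) (P.perm ⟨c, hc⟩ i) = P.sig x i := by
  obtain ⟨b, hb⟩ := P.perm_spec ⟨c, hc⟩ i
  simp only at hb
  show nc (c * x * c⁻¹) (P.u (P.perm ⟨c, hc⟩ i)) = nc x (P.u i)
  have hy : P.u (P.perm ⟨c, hc⟩ i) = c * P.u i * c⁻¹ * P.zb b := by
    rw [hb, mul_assoc, P.zb_mul, Bool.xor_self, P.zb_false, mul_one]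
  have hcz : Commute (c * x * c⁻¹) (P.zb b) :=
    P.zb_comm (P.le _ (P.norm c (P.mem_Cz.mp hc) x hx)) b
  rw [Bool.eq_iff_iff, ← not_iff_not, Bool.not_eq_true, Bool.not_eq_true, nc_false_iff, nc_false_iff,
    hy]
  constructor
  · intro h
    have h2 := h.mul_right hcz
    rw [mul_assoc (c * P.u i * c⁻¹), P.zb_mul, Bool.xor_self, P.zb_false, mul_one] at h2
    exact (Commute.conj_iff c).mp h2
  · intro h
    exact ((Commute.conj_iff c).mpr h).mul_right hcz

theorem perm_Q {c : G} (hc : c ∈ P.Q) : P.perm ⟨c, P.mem_Cz.mpr (P.le c hc)⟩ = 1 := by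
  refine Equiv.ext fun i => P.perm_eq (b := nc c (P.u i)) ?_
  show c * P.u i * c⁻¹ = _
  rw [P.mul_eq_nc hc (P.uQ i), mul_assoc (P.u i * c), P.zQ (inv_mem hc)]
  simp only [Equiv.Perm.coe_one, id_eq]
  group

theorem mem_Q_of_perm {c : G} (hc : c ∈ P.Cz) (h : P.perm ⟨c, hc⟩ = 1) : c ∈ P.Q := by
  have hcz := P.mem_Cz.mp hc
  choose b hb using fun i => P.perm_spec ⟨c, hc⟩ i
  simp only [h, Equiv.Perm.coe_one, id_eq] at hb
  obtain ⟨q, hq, hqs⟩ := P.exists_sig
    ![b 0, b 1, b 2, b 3, xor (xor (xor (b 0) (b 1)) (b 2)) (b 3)] (by simp)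
  have hfix : ∀ i : Fin 5, i ≠ 4 → Commute (q⁻¹ * c) (P.u i) := by
    intro i hi
    have hnc : nc q (P.u i) = b i := by
      have := congrFun hqs i
      fin_cases i <;> simp_all [sig]
    have e := P.mul_eq_nc hq (P.uQ i)
    rw [hnc] at e
    show q⁻¹ * c * P.u i = P.u i * (q⁻¹ * c)
    calc q⁻¹ * c * P.u i = q⁻¹ * (c * P.u i * c⁻¹) * c := by group
      _ = q⁻¹ * (P.u i * P.zb (b i)) * c := by rw [hb]
      _ = q⁻¹ * (P.u i * q * P.zb (b i)) * q⁻¹ * c := by
          rw [mul_assoc (P.u i) q, ← P.zQ hq]; group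
      _ = _ := by rw [← e]; group
  have hc' : q⁻¹ * c ∈ P.Q := by
    refine P.self _ ((P.le _ (inv_mem hq)).mul_left hcz) fun x hx => ?_
    obtain ⟨v, b', rfl⟩ := P.sig_structure.1 x hx
    have hw : ∀ (a : Bool) (i : Fin 5), i ≠ 4 → Commute (q⁻¹ * c) (if a then P.u i else 1) := by
      intro a i hi
      split
      · exact hfix i hi
      · exact Commute.one_right _
    exact ((((hw _ 0 (by decide)).mul_right (hw _ 1 (by decide))).mul_right
      (hw _ 2 (by decide))).mul_right (hw _ 3 (by decide))).mul_right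
        (P.zb_comm ((P.le _ (inv_mem hq)).mul_left hcz) b')
  simpa using mul_mem hq hc'

theorem ker_perm : P.perm.ker = P.Q.subgroupOf P.Cz := by
  ext ⟨c, hc⟩
  rw [MonoidHom.mem_ker, Subgroup.mem_subgroupOf]
  exact ⟨P.mem_Q_of_perm hc, fun h => P.perm_Q h⟩

theorem card_Cz : Nat.card P.Cz = 32 * Nat.card P.perm.range := by
  rw [← Subgroup.card_mul_index P.perm.ker, Subgroup.index_ker, P.ker_perm,
    Nat.card_congr (Subgroup.subgroupOfEquivOfLe (show P.Q ≤ P.Cz from fun x hx =>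
      P.mem_Cz.mpr (P.le x hx))).toEquiv, P.card]

end Pre

end Cfsg.Agent.Lib.JankoTwoType
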