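import Cfsg.Agent.Lib.JankoTwoType.CentFiveCard

/-!
Groups of Hall–Janko type: Sylow 5-subgroups and the two classes of subgroups of order 5.
-/

set_option autoImplicit false
set_option linter.unusedSectionVars false
set_option linter.style.haveILetI false

namespace Cfsg.Agent.Lib.JankoTwoType.Hyp

open scoped Pointwise

variable {G : Type*} [Group G] [Finite G] (H : Hyp G)

include H in
theorem card_sylow_five (P : Sylow 5 G) : Nat.card (P : Subgroup G) = 25 := by
  haveI : Fact (Nat.Prime 5) := ⟨by norm_num⟩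
  rw [P.card_eq_multiplicity, H.card_G]
  rw [show (604800 : ℕ) = 5 ^ 2 * 24192 from rfl, Nat.factorization_mul (by norm_num) (by norm_num),
    Finsupp.add_apply, Nat.Prime.factorization_pow (by norm_num : Nat.Prime 5),
    Nat.factorization_eq_zero_of_not_dvd (by norm_num : ¬ 5 ∣ 24192)]
  simp

include H in
theorem sylow_five_comm (P : Sylow 5 G) {x y : G} (hx : x ∈ (P : Subgroup G))
    (hy : y ∈ (P : Subgroup G)) : Commute x y := by
  haveI : Fact (Nat.Prime 5) := ⟨by norm_num⟩
  have hab : IsMulCommutative ↥(P : Subgroup G) :=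
    IsPGroup.isMulCommutative_of_card_eq_prime_sq (p := 5) (by rw [H.card_sylow_five P]; norm_num)
  exact congrArg Subtype.val (hab.is_comm.comm (⟨x, hx⟩ : ↥(P : Subgroup G)) ⟨y, hy⟩)

theorem exists_m : ∃ m ∈ H.M, orderOf m = 5 := by
  haveI : Fact (Nat.Prime 5) := ⟨by norm_num⟩
  obtain ⟨x, hx⟩ := exists_prime_orderOf_dvd_card' (G := ↥H.M) 5 (by rw [H.card_M_eq]; norm_num)
  exact ⟨x, x.2, by rw [Subgroup.orderOf_coe]; exact hx⟩

variable {m : G} (hm : m ∈ H.M) (h5 : orderOf m = 5) (P : Sylow 5 G) (hmP : m ∈ (P : Subgroup G))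
include hm h5 hmP

theorem P_le_cent : (P : Subgroup G) ≤ Subgroup.centralizer ({m} : Set G) := fun _ hx =>
  Subgroup.mem_centralizer_singleton_iff.mpr (H.sylow_five_comm P hx hmP).eq

theorem P_exp {x : G} (hx : x ∈ (P : Subgroup G)) : x ^ 5 = 1 := by
  refine (H.card_cent_m hm h5).2 x (H.P_le_cent hm h5 P hmP hx) ?_
  have h := pow_card_eq_one' (x := (⟨x, hx⟩ : ↥(P : Subgroup G)))
  rw [H.card_sylow_five P] at h
  exact congrArg Subtype.val h

theorem exists_p : ∃ p ∈ (P : Subgroup G), p ∉ Subgroup.zpowers m := by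
  by_contra h
  push Not at h
  have := Subgroup.card_dvd_of_le (show (P : Subgroup G) ≤ Subgroup.zpowers m from h)
  rw [H.card_sylow_five P, Nat.card_zpowers, h5] at this
  norm_num at this

theorem centralizer_P : Subgroup.centralizer ((P : Subgroup G) : Set G) = P := by
  haveI : Fact (Nat.Prime 5) := ⟨by norm_num⟩
  obtain ⟨f, -, hf⟩ := H.exists_quotient hm h5
  obtain ⟨p, hp, hpm⟩ := H.exists_p hm h5 P hmP
  have hC : IsPGroup 5 ↥(Subgroup.centralizer ((P : Subgroup G) : Set G)) := by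
    rintro ⟨y, hy⟩
    have hym : y ∈ Subgroup.centralizer ({m} : Set G) :=
      Subgroup.mem_centralizer_singleton_iff.mpr (Subgroup.mem_centralizer_iff.mp hy m hmP).symm
    set y' : ↥(Subgroup.centralizer ({m} : Set G)) := ⟨y, hym⟩
    set p' : ↥(Subgroup.centralizer ({m} : Set G)) := ⟨p, H.P_le_cent hm h5 P hmP hp⟩
    have hp5 : p' ^ 5 = 1 := Subtype.ext (H.P_exp hm h5 P hmP hp)
    have h1 := comm_five _ (Equiv.Perm.mem_alternatingGroup.mp (f p').2)
      (by rw [← SubmonoidClass.coe_pow, ← map_pow, hp5, map_one]; rfl)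
      (fun h => hpm ((hf p').mp (Subtype.ext h))) _ (Equiv.Perm.mem_alternatingGroup.mp (f y').2)
      (by
        refine congrArg Subtype.val (?_ : f p' * f y' = f y' * f p')
        rw [← map_mul, ← map_mul]
        exact congrArg f (Subtype.ext (Subgroup.mem_centralizer_iff.mp hy p hp)))
    have h2 : f (y' ^ 5) = 1 := by rw [map_pow]; exact Subtype.ext (by simpa using h1)
    obtain ⟨i, hi⟩ := (hf _).mp h2
    refine ⟨2, Subtype.ext ?_⟩
    show y ^ (5 ^ 2) = 1
    rw [pow_two, pow_mul, show y ^ 5 = m ^ i from hi.symm, ← zpow_natCast, ← zpow_mul, mul_comm,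
      zpow_mul, zpow_natCast, show m ^ 5 = 1 from h5 ▸ pow_orderOf_eq_one m, one_zpow]
  exact (P.3 hC fun x hx => Subgroup.mem_centralizer_iff.mpr fun y hy =>
    (H.sylow_five_comm P hy hx).eq)

/-- The stabiliser of `m` in `N(P)`. -/
theorem card_stab : Nat.card ↥(Subgroup.normalizer ((P : Subgroup G) : Set G) ⊓
    Subgroup.centralizer ({m} : Set G)) = 50 := by
  classical
  haveI : Fact (Nat.Prime 5) := ⟨by norm_num⟩
  set C := Subgroup.centralizer ({m} : Set G) with hC
  obtain ⟨f, hfs, hf⟩ := H.exists_quotient hm h5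
  obtain ⟨p, hp, hpm⟩ := H.exists_p hm h5 P hmP
  have hle : (P : Subgroup G) ≤ C := H.P_le_cent hm h5 P hmP
  set Pc := P.subtype hle with hPc
  have hC300 : Nat.card ↥C = 300 := (H.card_cent_m hm h5).1
  have hPc25 : Nat.card (Pc : Subgroup ↥C) = 25 := by
    rw [hPc, Sylow.coe_subtype, Nat.card_congr (Subgroup.subgroupOfEquivOfLe hle).toEquiv,
      H.card_sylow_five P]
  have hindex : (Pc : Subgroup ↥C).index = 12 := by
    have h := Subgroup.card_mul_index (Pc : Subgroup ↥C)
    rw [hPc25, hC300] at h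
    omega
  have hn1 := card_sylow_modEq_one 5 ↥C
  have hn2 := Pc.card_dvd_index
  have hn3 := Pc.card_eq_index_normalizer
  rw [hindex] at hn2
  have hne1 : Nat.card (Sylow 5 ↥C) ≠ 1 := by
    intro h1
    haveI : (Pc : Subgroup ↥C).Normal := by
      rw [← Subgroup.normalizer_eq_top_iff, ← Subgroup.index_eq_one]
      exact hn3.symm.trans h1
    haveI : IsSimpleGroup ↥(alternatingGroup (Fin 5)) := alternatingGroup.isSimpleGroup (by simp)
    have hn : ((Pc : Subgroup ↥C).map f).Normal := Subgroup.Normal.map inferInstance f hfs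
    rcases hn.eq_bot_or_eq_top with e | e
    · have hmem : f ⟨p, hle hp⟩ ∈ (Pc : Subgroup ↥C).map f := ⟨_, hp, rfl⟩
      rw [e, Subgroup.mem_bot] at hmem
      exact hpm ((hf _).mp hmem)
    · have h60 : Nat.card ((Pc : Subgroup ↥C).map f) ∣ 25 := by
        rw [← hPc25]; exact Subgroup.card_map_dvd _ f
      rw [e, Subgroup.card_top, nat_card_alternatingGroup, Nat.card_fin] at h60
      norm_num [Nat.factorial] at h60
  have h6 : Nat.card (Sylow 5 ↥C) = 6 := by
    have hle12 := Nat.le_of_dvd (by norm_num) hn2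
    unfold Nat.ModEq at hn1
    interval_cases hS : Nat.card (Sylow 5 ↥C) <;> omega
  have hcard := (Subgroup.normalizer ((Pc : Subgroup ↥C) : Set ↥C)).card_mul_index
  rw [show (Subgroup.normalizer ((Pc : Subgroup ↥C) : Set ↥C)).index = 6 from hn3.symm.trans h6,
    hC300] at hcard
  have hiff : ∀ x : ↥C, x ∈ Subgroup.normalizer ((Pc : Subgroup ↥C) : Set ↥C) ↔
      (x : G) ∈ Subgroup.normalizer ((P : Subgroup G) : Set G) := by
    intro x
    constructor
    · intro h
      refine Tools.mem_normalizer_of_conj fun y hy => ?_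
      exact ((Subgroup.mem_normalizer_iff.mp h) ⟨y, hle hy⟩).mp hy
    · intro h
      refine Tools.mem_normalizer_of_conj fun y hy => ?_
      exact ((Subgroup.mem_normalizer_iff.mp h) (y : G)).mp hy
  rw [show Nat.card ↥(Subgroup.normalizer ((P : Subgroup G) : Set G) ⊓ C) =
    Nat.card ↥(Subgroup.normalizer ((Pc : Subgroup ↥C) : Set ↥C)) from Nat.card_congr
      { toFun := fun x => ⟨⟨x, x.2.2⟩, (hiff _).mpr x.2.1⟩
        invFun := fun x => ⟨x.1, (hiff _).mp x.2, x.1.2⟩
        left_inv := fun x => rfl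
        right_inv := fun x => rfl }]
  omega

/-- An element of `N(P)` inverting `m`. -/
theorem exists_inverter : ∃ n ∈ Subgroup.normalizer ((P : Subgroup G) : Set G),
    n * m * n⁻¹ = m⁻¹ := by
  classical
  haveI : Fact (Nat.Prime 5) := ⟨by norm_num⟩
  obtain ⟨e⟩ := H.M_alternating
  set m' : ↥H.M := ⟨m, hm⟩
  have hm5 : m' ^ 5 = 1 := Subtype.ext (h5 ▸ pow_orderOf_eq_one m)
  have hm1 : m' ≠ 1 := fun h => by
    have : m = 1 := congrArg Subtype.val h
    rw [this, orderOf_one] at h5; omega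
  obtain ⟨τ, hτ, hτ2, hτm⟩ := invert_five _ (Equiv.Perm.mem_alternatingGroup.mp (e m').2)
    (by rw [← SubmonoidClass.coe_pow, ← map_pow, hm5, map_one]; rfl)
    (fun h => hm1 (e.injective ((Subtype.ext h : e m' = 1).trans (map_one e).symm)))
  set y : ↥H.M := e.symm ⟨τ, Equiv.Perm.mem_alternatingGroup.mpr hτ⟩
  have hy : y * m' * y⁻¹ = m'⁻¹ := by
    apply e.injective
    rw [map_mul, map_mul, map_inv, map_inv, e.apply_symm_apply]
    refine Subtype.ext ?_
    show τ * (e m' : Equiv.Perm (Fin 5)) * τ⁻¹ = (e m' : Equiv.Perm (Fin 5))⁻¹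
    rw [inv_eq_of_mul_eq_one_right hτ2]
    exact hτm
  have hym : (y : G) * m * (y : G)⁻¹ = m⁻¹ := congrArg Subtype.val hy
  have hle := H.P_le_cent hm h5 P hmP
  have hle' : (((y : G) • P : Sylow 5 G) : Subgroup G) ≤ Subgroup.centralizer ({m} : Set G) := by
    rw [Sylow.coe_subgroup_smul]
    rintro _ ⟨x, hx, rfl⟩
    refine Subgroup.mem_centralizer_singleton_iff.mpr ?_
    have hc : Commute ((y : G) * x * (y : G)⁻¹) ((y : G) * m * (y : G)⁻¹) :=
      (Commute.conj_iff (y : G)).mpr (H.sylow_five_comm P hx hmP)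
    rw [hym] at hc
    simpa [MulDistribMulAction.toMonoidHom] using hc.inv_right.eq
  obtain ⟨c, hc⟩ := MulAction.exists_smul_eq ↥(Subgroup.centralizer ({m} : Set G))
    (((y : G) • P).subtype hle') (P.subtype hle)
  have heq : ((c : G) * (y : G)) • P = P := by
    rw [mul_smul]
    apply Sylow.subtype_injective (hP := by
      rw [Sylow.coe_subgroup_smul]
      rintro _ ⟨x, hx, rfl⟩
      exact mul_mem (mul_mem c.2 (hle' hx)) (inv_mem c.2)) (hQ := hle)
    rw [← hc, Sylow.smul_subtype]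
    rfl
  refine ⟨(c : G) * y, Sylow.smul_eq_iff_mem_normalizer.mp heq, ?_⟩
  rw [show (c : G) * y * m * ((c : G) * y)⁻¹ = c * ((y : G) * m * (y : G)⁻¹) * (c : G)⁻¹ by group, hym]
  have hcm : Commute (c : G) m⁻¹ :=
    (show Commute (c : G) m from Subgroup.mem_centralizer_singleton_iff.mp c.2).inv_right
  rw [hcm.eq, mul_inv_cancel_right]

theorem hundred_dvd : 100 ∣ Nat.card ↥(Subgroup.normalizer ((P : Subgroup G) : Set G) ⊓
    Subgroup.normalizer ((Subgroup.zpowers m : Subgroup G) : Set G)) := by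
  classical
  set N := Subgroup.normalizer ((P : Subgroup G) : Set G)
  set J := N ⊓ Subgroup.normalizer ((Subgroup.zpowers m : Subgroup G) : Set G)
  set K := N ⊓ Subgroup.centralizer ({m} : Set G)
  have hK : Nat.card K = 50 := H.card_stab hm h5 P hmP
  have hKJ : K ≤ J := le_inf inf_le_left (fun x hx => by
    refine Tools.mem_normalizer_of_conj fun w hw => ?_
    obtain ⟨i, rfl⟩ := hw
    have hxm : Commute x m := Subgroup.mem_centralizer_singleton_iff.mp hx.2
    rw [(hxm.zpow_right i).eq, mul_inv_cancel_right]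
    exact zpow_mem (Subgroup.mem_zpowers m) i)
  obtain ⟨n, hnN, hnm⟩ := H.exists_inverter hm h5 P hmP
  have hnJ : n ∈ J := ⟨hnN, Tools.mem_normalizer_of_conj fun w hw => by
    obtain ⟨i, rfl⟩ := hw
    rw [← conj_zpow, hnm]
    exact zpow_mem (inv_mem (Subgroup.mem_zpowers m)) i⟩
  haveI : (K.subgroupOf J).Normal := (Subgroup.normal_subgroupOf_iff hKJ).mpr fun x c hx hc => by
    refine Subgroup.mem_inf.mpr ⟨mul_mem (mul_mem hc.1 hx.1) (inv_mem hc.1),
      Subgroup.mem_centralizer_singleton_iff.mpr ?_⟩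
    have hmm : c⁻¹ * m * c ∈ Subgroup.zpowers m := by
      simpa using ((Subgroup.mem_normalizer_iff.mp (inv_mem hc.2)) m).mp (Subgroup.mem_zpowers m)
    obtain ⟨i, hi⟩ := hmm
    replace hi : m ^ i = c⁻¹ * m * c := hi
    have hxm : Commute x (m ^ i) :=
      (show Commute x m from Subgroup.mem_centralizer_singleton_iff.mp hx.2).zpow_right i
    rw [hi] at hxm
    calc c * x * c⁻¹ * m = c * (x * (c⁻¹ * m * c)) * c⁻¹ := by group
      _ = c * ((c⁻¹ * m * c) * x) * c⁻¹ := by rw [hxm.eq]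
      _ = _ := by group
  rw [← Subgroup.card_mul_index (K.subgroupOf J),
    Nat.card_congr (Subgroup.subgroupOfEquivOfLe hKJ).toEquiv, hK]
  refine (show 100 = 50 * 2 from rfl) ▸ Nat.mul_dvd_mul_left 50 ?_
  rw [Subgroup.index_eq_card]
  have ho : orderOf ((⟨n, hnJ⟩ : ↥J) : ↥J ⧸ K.subgroupOf J) = 2 := by
    refine orderOf_eq_prime ?_ ?_
    · rw [← QuotientGroup.mk_pow, QuotientGroup.eq_one_iff, Subgroup.mem_subgroupOf]
      refine ⟨(pow_mem hnJ 2).1, Subgroup.mem_centralizer_singleton_iff.mpr ?_⟩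
      show n ^ 2 * m = m * n ^ 2
      have h2 : n ^ 2 * m * (n ^ 2)⁻¹ = m := by
        rw [show n ^ 2 * m * (n ^ 2)⁻¹ = n * (n * m * n⁻¹) * n⁻¹ by
          simp only [pow_two, mul_inv_rev, mul_assoc], hnm,
          show n * m⁻¹ * n⁻¹ = (n * m * n⁻¹)⁻¹ by group, hnm, inv_inv]
      exact mul_inv_eq_iff_eq_mul.mp h2
    · rw [Ne, QuotientGroup.eq_one_iff, Subgroup.mem_subgroupOf]
      intro hnK
      have hcm : n * m * n⁻¹ = m := by
        rw [Subgroup.mem_centralizer_singleton_iff.mp hnK.2, mul_inv_cancel_right]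
      have h2 : m ^ 2 = 1 := by
        rw [pow_two]; nth_rewrite 1 [← hcm]; rw [hnm, inv_mul_cancel]
      have := orderOf_dvd_of_pow_eq_one h2
      rw [h5] at this
      norm_num at this
  rw [← ho]
  exact orderOf_dvd_natCard _

/-- The orbit map of `N(P)` on `P`. -/
theorem orbit_vec {p : G} (hp : p ∈ (P : Subgroup G)) (hp1 : p ≠ 1) :
    (Set.range fun n : ↥(Subgroup.normalizer ((P : Subgroup G) : Set G)) =>
      (n : G) * p * (n : G)⁻¹).ncard *
      Nat.card ↥(Subgroup.normalizer ((P : Subgroup G) : Set G) ⊓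
        Subgroup.centralizer ({p} : Set G)) =
      Nat.card ↥(Subgroup.normalizer ((P : Subgroup G) : Set G)) ∧
    (Set.range fun n : ↥(Subgroup.normalizer ((P : Subgroup G) : Set G)) =>
      (n : G) * p * (n : G)⁻¹) ⊆ ((P : Subgroup G) : Set G) \ {1} := by
  set N := Subgroup.normalizer ((P : Subgroup G) : Set G)
  refine ⟨?_, ?_⟩
  · rw [← Tools.ncard_range_mul_card (fun n : ↥N => (n : G) * p * (n : G)⁻¹)
      ((Subgroup.centralizer ({p} : Set G)).subgroupOf N) fun a b => ?_,
      ← Subgroup.card_map_of_injective (f := N.subtype) N.subtype_injective,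
      Subgroup.subgroupOf_map_subtype, inf_comm]
    rw [Subgroup.mem_subgroupOf, Subgroup.mem_centralizer_singleton_iff]
    constructor
    · intro h
      show ((a : G)⁻¹ * b) * p = p * ((a : G)⁻¹ * b)
      calc (a : G)⁻¹ * b * p = (a : G)⁻¹ * ((b : G) * p * (b : G)⁻¹) * b := by group
        _ = (a : G)⁻¹ * ((a : G) * p * (a : G)⁻¹) * b := by rw [show _ = _ from h]
        _ = _ := by group
    · intro h
      have h' : ((a : G)⁻¹ * b) * p = p * ((a : G)⁻¹ * b) := h
      calc (a : G) * p * (a : G)⁻¹ = (a : G) * (p * ((a : G)⁻¹ * b)) * (b : G)⁻¹ := by group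
        _ = (a : G) * ((a : G)⁻¹ * b * p) * (b : G)⁻¹ := by rw [h']
        _ = _ := by group
  · rintro _ ⟨n, rfl⟩
    exact ⟨((Subgroup.mem_normalizer_iff.mp n.2) p).mp hp, fun h => hp1 (conj_eq_one_iff.mp h)⟩

theorem no_stab_four {p : G} (hp : p ∈ (P : Subgroup G)) (hp1 : p ≠ 1) {S : Subgroup G}
    (hS : Nat.card S = 4) (hSN : S ≤ Subgroup.normalizer ((P : Subgroup G) : Set G) ⊓
      Subgroup.centralizer ({p} : Set G)) : False := by
  classical
  haveI : Fact (Nat.Prime 5) := ⟨by norm_num⟩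
  haveI : Fact (Nat.Prime 2) := ⟨Nat.prime_two⟩
  have hp5 : orderOf p = 5 := orderOf_eq_prime (H.P_exp hm h5 P hmP hp) hp1
  obtain ⟨s, hs⟩ := exists_prime_orderOf_dvd_card' (G := ↥S) 2 (by rw [hS]; norm_num)
  have hso : orderOf (s : G) = 2 := by rw [Subgroup.orderOf_coe]; exact hs
  have hab : IsMulCommutative ↥S :=
    IsPGroup.isMulCommutative_of_card_eq_prime_sq (p := 2) (by rw [hS]; norm_num)
  rcases H.inv_classes hso with hz | ht
  · obtain ⟨g, hg⟩ := isConj_iff.mp hz.symm
    have hpz : Commute (g * p * g⁻¹) H.z :=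
      hg ▸ (Commute.conj_iff g).mpr
        (show Commute p s from (Subgroup.mem_centralizer_singleton_iff.mp (hSN s.2).2).symm)
    have hpo : orderOf (g * p * g⁻¹) = 5 := by
      rw [← hp5]; exact orderOf_injective (MulAut.conj g).toMonoidHom (MulAut.conj g).injective p
    have hsub : (S : Set G) ⊆ {1, (s : G)} := by
      intro x hx
      have hxs : Commute x s := congrArg Subtype.val (hab.is_comm.comm (⟨x, hx⟩ : ↥S) s)
      have hxz : Commute (g * x * g⁻¹) H.z := hg ▸ (Commute.conj_iff g).mpr hxs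
      have hxp : Commute (g * p * g⁻¹) (g * x * g⁻¹) := (Commute.conj_iff g).mpr
        (show Commute p x from (Subgroup.mem_centralizer_singleton_iff.mp (hSN hx).2).symm)
      have hpC := H.mem_Cz.mpr hpz
      have hxC := H.mem_Cz.mpr hxz
      have hx4 : x ^ 4 = 1 := by
        have h := pow_card_eq_one' (x := (⟨x, hx⟩ : ↥S))
        rw [hS] at h
        exact congrArg Subtype.val h
      have hp'5 : (g * p * g⁻¹) ^ 5 = 1 := hpo ▸ pow_orderOf_eq_one _
      have hσ : H.perm ⟨_, hpC⟩ ≠ 1 := fun h => by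
        have hQ := H.mem_Q_of_perm hpC h
        have hd := H.Q.orderOf_dvd_natCard hQ
        rw [hpo, H.card] at hd
        norm_num at hd
      have h5' := comm_five (H.perm ⟨_, hpC⟩) (H.sign_perm _)
        (by rw [← map_pow, show (⟨_, hpC⟩ : ↥H.Cz) ^ 5 = 1 from Subtype.ext hp'5, map_one]) hσ
        (H.perm ⟨_, hxC⟩) (H.sign_perm _)
        (by rw [← map_mul, ← map_mul]; exact congrArg H.perm (Subtype.ext hxp.eq))
      have h4' : H.perm ⟨_, hxC⟩ ^ 4 = 1 := by
        rw [← map_pow, show (⟨_, hxC⟩ : ↥H.Cz) ^ 4 = 1 from Subtype.ext (by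
          show (g * x * g⁻¹) ^ 4 = 1
          rw [conj_pow, hx4, mul_one, mul_inv_cancel]), map_one]
      have hQ := H.mem_Q_of_perm hxC (by rwa [pow_succ, h4', one_mul] at h5')
      rcases H.Q_fixed hpo hpz hQ hxp with e | e
      · exact Or.inl (conj_eq_one_iff.mp e)
      · exact Or.inr (mul_left_cancel (mul_right_cancel (e.trans hg.symm)))
    have h2 := Set.ncard_le_ncard hsub (Set.toFinite _)
    rw [← Nat.card_coe_set_eq] at h2
    change Nat.card S ≤ _ at h2
    rw [hS, Set.ncard_pair (fun h => by rw [← h, orderOf_one] at hso; omega)] at h2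
    omega
  · obtain ⟨g, hg⟩ := isConj_iff.mp ht.symm
    have hpt : Commute (g * p * g⁻¹) H.t :=
      hg ▸ (Commute.conj_iff g).mpr
        (show Commute p s from (Subgroup.mem_centralizer_singleton_iff.mp (hSN s.2).2).symm)
    have hpo : orderOf (g * p * g⁻¹) = 5 := by
      rw [← hp5]; exact orderOf_injective (MulAut.conj g).toMonoidHom (MulAut.conj g).injective p
    have hpM := H.mem_M_of_five hpo hpt
    have hpP : g * p * g⁻¹ ∈ ((g • P : Sylow 5 G) : Subgroup G) := by
      rw [Sylow.coe_subgroup_smul]; exact ⟨p, hp, rfl⟩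
    have h50 := H.card_stab hpM hpo (g • P) hpP
    have hle : S.map (MulAut.conj g).toMonoidHom ≤
        Subgroup.normalizer (((g • P : Sylow 5 G) : Subgroup G) : Set G) ⊓
          Subgroup.centralizer ({g * p * g⁻¹} : Set G) := by
      rintro _ ⟨x, hx, rfl⟩
      refine ⟨?_, Subgroup.mem_centralizer_singleton_iff.mpr ?_⟩
      · refine Sylow.smul_eq_iff_mem_normalizer.mp ?_
        have hxP : x • P = P := Sylow.smul_eq_iff_mem_normalizer.mpr (hSN hx).1
        show (g * x * g⁻¹) • g • P = g • P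
        rw [← mul_smul, inv_mul_cancel_right, mul_smul, hxP]
      · exact ((Commute.conj_iff g).mpr
          (show Commute x p from Subgroup.mem_centralizer_singleton_iff.mp (hSN hx).2)).eq
    have h := Subgroup.card_dvd_of_le hle
    rw [h50, Subgroup.card_map_of_injective (MulAut.conj g).injective, hS] at h
    norm_num at h

theorem card_normalizer : Nat.card ↥(Subgroup.normalizer ((P : Subgroup G) : Set G)) = 300 := by
  classical
  haveI : Fact (Nat.Prime 5) := ⟨by norm_num⟩
  haveI : Fact (Nat.Prime 2) := ⟨Nat.prime_two⟩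
  set N := Subgroup.normalizer ((P : Subgroup G) : Set G)
  have hm1 : m ≠ 1 := fun h => by rw [h, orderOf_one] at h5; omega
  have h100 : 100 ∣ Nat.card ↥N :=
    (H.hundred_dvd hm h5 P hmP).trans (Subgroup.card_dvd_of_le inf_le_left)
  obtain ⟨ho, hsub⟩ := H.orbit_vec hm h5 P hmP hmP hm1
  have h24 : (((P : Subgroup G) : Set G) \ {1}).ncard = 24 := by
    rw [Set.ncard_sdiff_singleton_of_mem (one_mem (P : Subgroup G)), ← Nat.card_coe_set_eq]
    show Nat.card (P : Subgroup G) - 1 = 24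
    rw [H.card_sylow_five P]
  set O := Set.range fun n : ↥N => (n : G) * m * (n : G)⁻¹ with hO
  have hle24 : O.ncard ≤ 24 := h24 ▸ Set.ncard_le_ncard hsub (Set.toFinite _)
  rw [H.card_stab hm h5 P hmP] at ho
  have hi := N.card_mul_index
  rw [H.card_G, show N.index = Nat.card (Sylow 5 G) from P.card_eq_index_normalizer.symm] at hi
  have h1 := card_sylow_modEq_one 5 G
  unfold Nat.ModEq at h1
  rw [← ho] at hi h100 ⊢
  by_contra hne
  have ho16 : O.ncard = 16 := by
    interval_cases O.ncard <;> omega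
  obtain ⟨p, hp, hpO⟩ : ∃ p ∈ ((P : Subgroup G) : Set G) \ {1}, p ∉ O :=
    Set.exists_mem_notMem_of_ncard_lt_ncard (by rw [ho16, h24]; norm_num) (Set.toFinite _)
  obtain ⟨ho', hsub'⟩ := H.orbit_vec hm h5 P hmP hp.1 hp.2
  set O' := Set.range fun n : ↥N => (n : G) * p * (n : G)⁻¹
  have hdisj : Disjoint O O' := by
    rw [Set.disjoint_left]
    rintro _ ⟨a, rfl⟩ ⟨b, e⟩
    refine hpO ⟨b⁻¹ * a, ?_⟩
    simp only at e ⊢
    calc ((b⁻¹ * a : ↥N) : G) * m * ((b⁻¹ * a : ↥N) : G)⁻¹
        = (b : G)⁻¹ * ((a : G) * m * (a : G)⁻¹) * b := by simp [mul_assoc]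
      _ = _ := by rw [← e]; group
  have hsum : O.ncard + O'.ncard ≤ 24 := by
    rw [← Set.ncard_union_eq hdisj, ← h24]
    exact Set.ncard_le_ncard (Set.union_subset hsub hsub') (Set.toFinite _)
  rw [← ho, ho16] at ho'
  set K' := N ⊓ Subgroup.centralizer ({p} : Set G)
  have h4 : 2 ^ 2 ∣ Nat.card ↥K' := by
    have hO'8 : O'.ncard ≤ 8 := by omega
    interval_cases O'.ncard <;> omega
  obtain ⟨S, hS⟩ := Sylow.exists_subgroup_card_pow_prime 2 h4
  exact H.no_stab_four hm h5 P hmP hp.1 hp.2 (S := S.map K'.subtype)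
    (by rw [Subgroup.card_map_of_injective K'.subtype_injective, hS]; norm_num)
    (Subgroup.map_subtype_le _)

end Cfsg.Agent.Lib.JankoTwoType.Hyp
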