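import Mathlib

/-!
General tools: recognising an alternating group by an action, internal products, fixed points of
conjugation by an element of prime order.
-/

set_option autoImplicit false
set_option linter.style.haveILetI false

namespace Cfsg.Agent.Lib.JankoTwoType.Tools

variable {G : Type*} [Group G]

/-- A group of order `n!/2` with a subgroup of index `n` and trivial core is alternating. -/
theorem mulEquiv_alternating {L : Type*} [Group L] [Finite L] {n : ℕ} (H : Subgroup L)
    (hi : H.index = n) (hc : H.normalCore = ⊥) (hcard : 2 * Nat.card L = n.factorial) :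
    Nonempty (L ≃* alternatingGroup (Fin n)) := by
  obtain ⟨e⟩ := Finite.card_eq.mp (show Nat.card (L ⧸ H) = Nat.card (Fin n) by
    rw [Nat.card_fin, ← hi, Subgroup.index_eq_card])
  set f : L →* Equiv.Perm (Fin n) :=
    (e.permCongrHom : Equiv.Perm (L ⧸ H) ≃* Equiv.Perm (Fin n)).toMonoidHom.comp
      (MulAction.toPermHom L (L ⧸ H)) with hf
  have hinj : Function.Injective f := by
    refine (e.permCongrHom.injective).comp ?_
    rw [← MonoidHom.ker_eq_bot_iff, ← Subgroup.normalCore_eq_ker, hc]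
  have hr : f.range = alternatingGroup (Fin n) := by
    refine Equiv.Perm.eq_alternatingGroup_of_index_eq_two ?_
    have h := f.range.card_mul_index
    rw [Nat.card_perm, Nat.card_fin, ← hcard,
      ← Nat.card_congr (MonoidHom.ofInjective hinj).toEquiv] at h
    exact Nat.eq_of_mul_eq_mul_left Nat.card_pos (h.trans (mul_comm _ _))
  exact ⟨(MonoidHom.ofInjective hinj).trans (MulEquiv.subgroupCongr hr)⟩

/-- An internal product of two commuting subgroups. -/
theorem mulEquiv_prod {L M N : Subgroup G} (hL : L ≤ N) (hM : M ≤ N)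
    (hc : ∀ x ∈ L, ∀ y ∈ M, Commute x y) (hd : ∀ x ∈ L, x ∈ M → x = 1)
    (hgen : ∀ x ∈ N, ∃ a ∈ L, ∃ b ∈ M, x = a * b) : Nonempty (↥N ≃* ↥L × ↥M) := by
  let f : ↥L × ↥M →* ↥N := MonoidHom.noncommCoprod (Subgroup.inclusion hL) (Subgroup.inclusion hM)
    fun x y => Subtype.ext (hc x x.2 y y.2)
  have hf : ∀ p : ↥L × ↥M, (f p : G) = p.1 * p.2 := fun p => rfl
  refine ⟨(MulEquiv.ofBijective f ⟨?_, ?_⟩).symm⟩
  · rintro ⟨a, b⟩ ⟨a', b'⟩ h
    have h' : (a : G) * b = a' * b' := by rw [← hf (a, b), ← hf (a', b'), h]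
    have e : (a' : G)⁻¹ * a = b' * (b : G)⁻¹ := by
      calc (a' : G)⁻¹ * a = (a' : G)⁻¹ * (a * b) * (b : G)⁻¹ := by group
        _ = _ := by rw [h']; group
    have h1 := hd _ (mul_mem (inv_mem a'.2) a.2) (e ▸ mul_mem b'.2 (inv_mem b.2))
    have ha : a = a' := Subtype.ext (inv_mul_eq_one.mp h1).symm
    subst ha
    exact Prod.ext rfl (Subtype.ext (mul_left_cancel h'))
  · rintro ⟨x, hx⟩
    obtain ⟨a, ha, b, hb, rfl⟩ := hgen x hx
    exact ⟨(⟨a, ha⟩, ⟨b, hb⟩), Subtype.ext rfl⟩

/-- A set invariant under conjugation by an element of prime order `p` has cardinality congruent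
to the number of its elements centralised by that element. -/
theorem modEq_conj_fixed [Finite G] (p : ℕ) [Fact p.Prime] {k : G} (hk : k ^ p = 1) (S : Set G)
    (hS : ∀ x ∈ S, k * x * k⁻¹ ∈ S) :
    S.ncard ≡ {x | x ∈ S ∧ Commute k x}.ncard [MOD p] := by
  by_cases h1 : k = 1
  · subst h1
    rw [show {x | x ∈ S ∧ Commute 1 x} = S from Set.ext fun x => ⟨fun h => h.1,
      fun h => ⟨h, Commute.one_left x⟩⟩]
  have hp : IsPGroup p ↥(Subgroup.zpowers k) :=
    IsPGroup.of_card (n := 1) (by rw [Nat.card_zpowers, orderOf_eq_prime hk h1, pow_one])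
  have hpow : ∀ (i : ℕ), ∀ x ∈ S, k ^ i * x * (k ^ i)⁻¹ ∈ S := by
    intro i
    induction i with
    | zero => simp
    | succ i ih =>
      intro x hx
      have := hS _ (ih x hx)
      rw [pow_succ', show k * k ^ i * x * (k * k ^ i)⁻¹ = k * (k ^ i * x * (k ^ i)⁻¹) * k⁻¹ by group]
      exact this
  have hmem : ∀ c ∈ Subgroup.zpowers k, ∀ x ∈ S, c * x * c⁻¹ ∈ S := by
    intro c hc x hx
    obtain ⟨i, rfl⟩ := mem_powers_iff_mem_zpowers.mpr hc
    exact hpow i x hx
  letI : MulAction ↥(Subgroup.zpowers k) ↥S :=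
    { smul := fun c x => ⟨c * x * (c : G)⁻¹, hmem c c.2 x x.2⟩
      one_smul := fun x => Subtype.ext (by show (1 : G) * x * 1⁻¹ = x; simp)
      mul_smul := fun c d x => Subtype.ext (by
        show ((c : G) * d) * x * ((c : G) * d)⁻¹ = c * (d * x * (d : G)⁻¹) * (c : G)⁻¹
        group) }
  have h := hp.card_modEq_card_fixedPoints ↥S
  rw [Nat.card_coe_set_eq] at h
  refine h.trans (congrArg (· % p) ?_)
  rw [← Nat.card_coe_set_eq]
  refine Nat.card_congr ⟨fun x => ⟨x.1.1, x.1.2, ?_⟩, fun x => ⟨⟨x.1, x.2.1⟩, ?_⟩, fun x => rfl,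
    fun x => rfl⟩
  · have := congrArg Subtype.val (x.2 ⟨k, Subgroup.mem_zpowers _⟩)
    exact mul_inv_eq_iff_eq_mul.mp this
  · rintro ⟨c, hc⟩
    obtain ⟨i, rfl⟩ := mem_powers_iff_mem_zpowers.mpr hc
    exact Subtype.ext (mul_inv_eq_iff_eq_mul.mpr (x.2.2.pow_left i))

/-- A subgroup conjugated into itself is normalised. -/
theorem mem_normalizer_of_conj [Finite G] {K : Subgroup G} {g : G}
    (h : ∀ x ∈ K, g * x * g⁻¹ ∈ K) : g ∈ Subgroup.normalizer (K : Set G) := by
  rw [Subgroup.mem_normalizer_iff]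
  refine fun x => ⟨h x, fun hx => ?_⟩
  have hfin : (fun y => g * y * g⁻¹) '' (K : Set G) = K := Set.eq_of_subset_of_ncard_le
    (by rintro _ ⟨y, hy, rfl⟩; exact h y hy)
    (by rw [Set.ncard_image_of_injective _ fun a b e => mul_left_cancel (mul_right_cancel e)])
  obtain ⟨y, hy, e⟩ := hfin.symm ▸ (show g * x * g⁻¹ ∈ (K : Set G) from hx)
  rwa [← mul_left_cancel (mul_right_cancel e)]

/-- Counting the values of a function whose fibres are the left cosets of a subgroup. -/
theorem ncard_range_mul_card {N : Type*} [Group N] [Finite N] {X : Type*} (f : N → X)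
    (S : Subgroup N) (h : ∀ a b, f a = f b ↔ a⁻¹ * b ∈ S) :
    (Set.range f).ncard * Nat.card S = Nat.card N := by
  rw [Subgroup.card_eq_card_quotient_mul_card_subgroup S]
  congr 1
  rw [← Nat.card_coe_set_eq]
  refine (Nat.card_eq_of_bijective
    (fun q : N ⧸ S => (⟨Quotient.liftOn' q f (fun a b hab => (h a b).mpr
      (QuotientGroup.leftRel_apply.mp hab)), by
        induction q using QuotientGroup.induction_on with | _ a => exact ⟨a, rfl⟩⟩ :
      ↥(Set.range f))) ⟨?_, ?_⟩).symm
  · intro q q' e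
    induction q using QuotientGroup.induction_on with | _ a =>
    induction q' using QuotientGroup.induction_on with | _ b =>
    exact QuotientGroup.eq.mpr ((h a b).mp (congrArg Subtype.val e))
  · rintro ⟨_, a, rfl⟩
    exact ⟨(a : N ⧸ S), rfl⟩

end Cfsg.Agent.Lib.JankoTwoType.Tools
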