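import Cfsg.Agent.Lib.JankoTwoType.Order
import Cfsg.Agent.Lib.JankoTwoType.Tools

/-!
Groups of Hall–Janko type: `M` is alternating of degree 5, and an element centralising `A` and `k`
and normalising `M` centralises `M`.
-/

set_option autoImplicit false
set_option linter.unusedSectionVars false
set_option linter.style.haveILetI false

namespace Cfsg.Agent.Lib.JankoTwoType.Hyp

variable {G : Type*} [Group G] [Finite G] (H : Hyp G)

theorem M_commute_t {m : G} (hm : m ∈ H.M) : Commute m H.t := H.mem_Ct.mp (H.M_le_Ct hm)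

/-- `N_M(A)`. -/
noncomputable def NA : Subgroup ↥H.M :=
  (Subgroup.normalizer (H.A : Set G)).subgroupOf H.M

theorem mem_NA {m : ↥H.M} :
    m ∈ H.NA ↔ (m : G) ∈ H.A ∨ H.k⁻¹ * (m : G) ∈ H.A ∨ H.k⁻¹ * H.k⁻¹ * (m : G) ∈ H.A := by
  have hk : H.k ∈ Subgroup.normalizer (H.A : Set G) :=
    Tools.mem_normalizer_of_conj fun x hx => H.kk_A hx
  have hAn : H.A ≤ Subgroup.normalizer (H.A : Set G) := fun a ha => Subgroup.le_normalizer ha
  rw [NA, Subgroup.mem_subgroupOf]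
  constructor
  · intro hm
    rw [Subgroup.mem_normalizer_iff] at hm
    have hA := (hm H.z).mp H.zA
    have hkM := inv_mem H.kM
    rcases H.A_cases' hA with e | e | e | e
    · exact absurd (conj_eq_one_iff.mp e) H.z_ne
    · exact Or.inl (H.cent_M_z m.2 (mul_inv_eq_iff_eq_mul.mp e))
    · refine Or.inr (Or.inl (H.cent_M_z (mul_mem hkM m.2) (mul_inv_eq_iff_eq_mul.mp ?_)))
      rw [show H.k⁻¹ * (m : G) * H.z * (H.k⁻¹ * (m : G))⁻¹ = H.k⁻¹ * ((m : G) * H.z * (m : G)⁻¹) * H.k by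
        group, e, kk_apply]
      group
    · refine Or.inr (Or.inr (H.cent_M_z (mul_mem (mul_mem hkM hkM) m.2)
        (mul_inv_eq_iff_eq_mul.mp ?_)))
      rw [show H.k⁻¹ * H.k⁻¹ * (m : G) * H.z * (H.k⁻¹ * H.k⁻¹ * (m : G))⁻¹ =
        H.k⁻¹ * (H.k⁻¹ * ((m : G) * H.z * (m : G)⁻¹) * H.k) * H.k by
          simp only [mul_inv_rev, inv_inv, mul_assoc], e, kk_apply, kk_apply]
      group
  · rintro (h | h | h)
    · exact hAn h
    · simpa [mul_assoc] using mul_mem hk (hAn h)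
    · simpa [mul_assoc] using mul_mem (mul_mem hk hk) (hAn h)

theorem A_NA {a : ↥H.M} (ha : (a : G) ∈ H.A) : a ∈ H.NA := H.mem_NA.mpr (Or.inl ha)

theorem k_NA : (⟨H.k, H.kM⟩ : ↥H.M) ∈ H.NA :=
  H.mem_NA.mpr (Or.inr (Or.inl (by simp [one_mem])))

theorem inv_NA {m : ↥H.M} (hm : m ∈ H.NA) (h2 : m * m = 1) : (m : G) ∈ H.A := by
  have h2' : (m : G) * m = 1 := congrArg Subtype.val h2
  have key : ∀ j : G, j ^ 3 = 1 → (∀ a ∈ H.A, j⁻¹ * a * j ∈ H.A) → j⁻¹ * (m : G) ∈ H.A →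
      j ∈ H.A := by
    intro j h3 hj hh
    have h5 : j * j ∈ H.A := by
      have e4 : (1 : G) = j * j * ((j⁻¹ * (j⁻¹ * (m : G)) * j) * (j⁻¹ * m)) := by
        rw [← h2']; group
      rw [eq_inv_of_mul_eq_one_left e4.symm]
      exact inv_mem (mul_mem (hj _ hh) hh)
    have : j = (j * j)⁻¹ := eq_inv_of_mul_eq_one_left (by
      rw [← mul_assoc, ← pow_two, ← pow_succ]; exact h3)
    rw [this]; exact inv_mem h5
  have hkA : ∀ a ∈ H.A, H.k⁻¹ * a * H.k ∈ H.A := fun a ha => by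
    have := H.kk_A (H.kk_A ha)
    rw [show H.k⁻¹ * a * H.k = H.kk (H.kk a) from H.kk.injective (by
      rw [H.kk3, kk_apply]; group)]
    exact this
  rcases H.mem_NA.mp hm with h | h | h
  · exact h
  · simpa [mul_assoc] using mul_mem (key H.k H.k3 hkA h) h
  · have hk2 := key (H.k * H.k) (by rw [← pow_two, ← pow_mul, pow_mul', H.k3, one_pow])
      (fun a ha => by
        rw [show (H.k * H.k)⁻¹ * a * (H.k * H.k) = H.k⁻¹ * (H.k⁻¹ * a * H.k) * H.k by group]
        exact hkA _ (hkA _ ha))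
      (by rwa [mul_inv_rev])
    simpa [mul_assoc] using mul_mem hk2 h

theorem card_NA : Nat.card H.NA = 12 := by
  classical
  have hk0 : H.k ∉ H.A := fun h => H.kk_z_ne.1 (by
    rw [kk_apply, (H.mem_T.mp (H.A_le_T h)).1.eq, mul_inv_cancel_right])
  have hkk0 : H.k * H.k ∉ H.A := fun h => by
    refine hk0 ?_
    have : H.k = (H.k * H.k)⁻¹ := eq_inv_of_mul_eq_one_left (by
      rw [← mul_assoc, ← pow_two, ← pow_succ]; exact H.k3)
    rw [this]; exact inv_mem h
  have hset : Subtype.val '' (H.NA : Set ↥H.M) = (H.A : Set G) ∪ (H.k * ·) '' (H.A : Set G) ∪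
      (H.k * H.k * ·) '' (H.A : Set G) := by
    ext x
    constructor
    · rintro ⟨m, hm, rfl⟩
      rcases H.mem_NA.mp hm with h | h | h
      · exact Or.inl (Or.inl h)
      · exact Or.inl (Or.inr ⟨_, h, by group⟩)
      · exact Or.inr ⟨_, h, by group⟩
    · rintro ((h | ⟨a, ha, rfl⟩) | ⟨a, ha, rfl⟩)
      · exact ⟨⟨x, H.A_le_M h⟩, H.A_NA h, rfl⟩
      · refine ⟨⟨_, mul_mem H.kM (H.A_le_M ha)⟩, H.mem_NA.mpr (Or.inr (Or.inl ?_)), rfl⟩
        simpa using ha
      · refine ⟨⟨_, mul_mem (mul_mem H.kM H.kM) (H.A_le_M ha)⟩,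
          H.mem_NA.mpr (Or.inr (Or.inr ?_)), rfl⟩
        simpa [mul_assoc] using ha
  show Nat.card (H.NA : Set ↥H.M) = 12
  rw [Nat.card_coe_set_eq, ← Set.ncard_image_of_injective _ Subtype.val_injective, hset,
    Set.ncard_union_eq, Set.ncard_union_eq, Set.ncard_image_of_injective _ (mul_right_injective _),
    Set.ncard_image_of_injective _ (mul_right_injective _), ← Nat.card_coe_set_eq,
    show Nat.card (H.A : Set G) = 4 from H.card_A]
  · rw [Set.disjoint_left]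
    rintro x hx ⟨a, ha, rfl⟩
    exact hk0 (by simpa using mul_mem hx (inv_mem ha))
  · rw [Set.disjoint_left]
    rintro x hx ⟨a, ha, rfl⟩
    rcases hx with hx | ⟨b, hb, e⟩
    · exact hkk0 (by simpa using mul_mem hx (inv_mem ha))
    · refine hk0 ?_
      have e' : H.k = b * a⁻¹ := by
        calc H.k = H.k⁻¹ * (H.k * H.k * a) * a⁻¹ := by group
          _ = _ := by rw [show H.k * H.k * a = H.k * b from e.symm]; group
      rw [e']; exact mul_mem hb (inv_mem ha)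

theorem index_NA : H.NA.index = 5 := by
  have h := H.NA.card_mul_index
  rw [H.card_NA, H.card_M_eq] at h
  omega

theorem core_NA : H.NA.normalCore = ⊥ := by
  rw [Subgroup.eq_bot_iff_forall]
  intro x hx
  set N := H.NA.normalCore with hN
  have hle : N ≤ H.NA := Subgroup.normalCore_le _
  -- no involution
  have hA : ∀ a : ↥H.M, a ∈ N → (a : G) ∈ H.A → a = 1 := by
    intro a ha haA
    by_contra hne
    have haI : (a : G) ∈ H.I := H.A_zc haA fun h => hne (Subtype.ext h)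
    have hsub : H.I ⊆ (H.A : Set G) := by
      intro y hy
      obtain ⟨m, hm, e⟩ := H.zc_M hy.1 hy.2
      obtain ⟨m', hm', e'⟩ := H.zc_M haI.1 haI.2
      have hy2 : (⟨y, H.zc_mem_M hy.1 hy.2⟩ : ↥H.M) ∈ N := by
        have := (Subgroup.normalCore_normal H.NA).conj_mem a ha ⟨m * m'⁻¹, mul_mem hm (inv_mem hm')⟩
        convert this using 1
        refine Subtype.ext ?_
        show y = m * m'⁻¹ * (a : G) * (m * m'⁻¹)⁻¹
        rw [← e, ← e']; group
      exact H.inv_NA (hle hy2) (Subtype.ext (by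
        show y * y = 1
        rw [← pow_two, ← H.zc_order hy.1, pow_orderOf_eq_one]))
    have h1 := Set.ncard_le_ncard hsub (Set.toFinite _)
    rw [H.ncard_I, ← Nat.card_coe_set_eq] at h1
    change 15 ≤ Nat.card H.A at h1
    rw [H.card_A] at h1
    omega
  set z' : ↥H.M := ⟨H.z, H.zM⟩ with hz'
  have hcA : ((z' * x * z'⁻¹ * x⁻¹ : ↥H.M) : G) ∈ H.A := by
    have hxn : (x : G) ∈ Subgroup.normalizer (H.A : Set G) := Subgroup.mem_subgroupOf.mp (hle hx)
    rw [Subgroup.mem_normalizer_iff] at hxn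
    have h := (hxn H.z⁻¹).mp (inv_mem H.zA)
    simpa [mul_assoc] using mul_mem H.zA h
  have hcomm := hA _ (mul_mem ((Subgroup.normalCore_normal H.NA).conj_mem x hx z') (inv_mem hx)) hcA
  refine hA x hx (H.cent_M_z x.2 ?_)
  have e := congrArg Subtype.val (mul_inv_eq_one.mp hcomm)
  exact (mul_inv_eq_iff_eq_mul.mp e).symm

theorem M_alternating : Nonempty (↥H.M ≃* alternatingGroup (Fin 5)) :=
  Tools.mulEquiv_alternating H.NA H.index_NA H.core_NA (by rw [H.card_M_eq]; rfl)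

theorem center_M {x : G} (hx : x ∈ H.M) (h : ∀ m ∈ H.M, Commute x m) : x = 1 :=
  H.kk_fix (H.cent_M_z hx (h _ H.zM))
    (by rw [kk_apply, (h _ H.kM).symm.eq, mul_inv_cancel_right])

/-- An element centralising `A` and `k` and normalising `M` centralises `M`. -/
theorem cent_M_of {g : G} (hA : ∀ a ∈ H.A, Commute g a) (hk : Commute g H.k)
    (hn : ∀ m ∈ H.M, g * m * g⁻¹ ∈ H.M) {m : G} (hm : m ∈ H.M) : Commute g m := by
  let α : ↥H.M → ↥H.M := fun x => ⟨g * x * g⁻¹, hn x x.2⟩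
  have hα : ∀ x y, α (x * y) = α x * α y := fun x y => Subtype.ext (by
    show g * ((x : G) * y) * g⁻¹ = (g * x * g⁻¹) * (g * y * g⁻¹); group)
  have hfixA : ∀ a : ↥H.M, (a : G) ∈ H.A → α a = a := fun a ha => Subtype.ext (by
    show g * (a : G) * g⁻¹ = a
    rw [(hA _ ha).eq, mul_inv_cancel_right])
  have hfixk : α ⟨H.k, H.kM⟩ = ⟨H.k, H.kM⟩ := Subtype.ext (by
    show g * H.k * g⁻¹ = H.k
    rw [hk.eq, mul_inv_cancel_right])
  have hfix : ∀ n ∈ H.NA, α n = n := by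
    intro n hn'
    rcases H.mem_NA.mp hn' with h | h | h
    · exact hfixA n h
    · set a : ↥H.M := ⟨_, H.A_le_M h⟩ with ha
      have e : n = ⟨H.k, H.kM⟩ * a := Subtype.ext (by simp [ha])
      rw [e, hα, hfixk, hfixA a h]
    · set a : ↥H.M := ⟨_, H.A_le_M h⟩ with ha
      have e : n = ⟨H.k, H.kM⟩ * ⟨H.k, H.kM⟩ * a := Subtype.ext (by simp [ha, mul_assoc])
      rw [e, hα, hα, hfixk, hfixA a h]
  -- `A` is regular on the other four cosets
  have hfree : ∀ x : ↥H.M, x ∉ H.NA → ∀ a : ↥H.M, (a : G) ∈ H.A → x⁻¹ * a * x ∈ H.NA → a = 1 := by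
    intro x hx a ha hmem
    by_contra hne
    have ha2 : a * a = 1 := Subtype.ext (H.A_sq ha)
    have hxA := H.inv_NA hmem (by
      rw [show x⁻¹ * a * x * (x⁻¹ * a * x) = x⁻¹ * (a * a) * x by group, ha2]; group)
    have hao : orderOf (a : G) = 2 :=
      orderOf_eq_prime (by rw [pow_two]; exact H.A_sq ha) fun h => hne (Subtype.ext h)
    have hcz : Commute ((x : G) * H.z * (x : G)⁻¹) (a : G) := by
      have h1 := ((H.mem_T.mp (H.A_le_T hxA)).1.symm)
      have h2 := (Commute.conj_iff (x : G)).mpr h1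
      simpa [mul_assoc] using h2
    have hzc := (H.cent_M_inv a.2 hao (mul_mem (mul_mem x.2 H.zM) (inv_mem x.2)) H.zM hcz
      (H.mem_T.mp (H.A_le_T ha)).1.symm).1
    have hxz : (x : G) * H.z * (x : G)⁻¹ ∈ H.A :=
      H.cent_M_z (mul_mem (mul_mem x.2 H.zM) (inv_mem x.2)) hzc
    refine hx (H.mem_NA.mpr ?_)
    have hkM := inv_mem H.kM
    rcases H.A_cases' hxz with e | e | e | e
    · exact absurd (conj_eq_one_iff.mp e) H.z_ne
    · exact Or.inl (H.cent_M_z x.2 (mul_inv_eq_iff_eq_mul.mp e))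
    · refine Or.inr (Or.inl (H.cent_M_z (mul_mem hkM x.2) (mul_inv_eq_iff_eq_mul.mp ?_)))
      rw [show H.k⁻¹ * (x : G) * H.z * (H.k⁻¹ * (x : G))⁻¹ = H.k⁻¹ * ((x : G) * H.z * (x : G)⁻¹) * H.k by
        group, e, kk_apply]
      group
    · refine Or.inr (Or.inr (H.cent_M_z (mul_mem (mul_mem hkM hkM) x.2)
        (mul_inv_eq_iff_eq_mul.mp ?_)))
      rw [show H.k⁻¹ * H.k⁻¹ * (x : G) * H.z * (H.k⁻¹ * H.k⁻¹ * (x : G))⁻¹ =
        H.k⁻¹ * (H.k⁻¹ * ((x : G) * H.z * (x : G)⁻¹) * H.k) * H.k by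
          simp only [mul_inv_rev, inv_inv, mul_assoc], e, kk_apply, kk_apply]
      group
  have htrans : ∀ x y : ↥H.M, x ∉ H.NA → y ∉ H.NA →
      ∃ a : ↥H.M, (a : G) ∈ H.A ∧ (a * x)⁻¹ * y ∈ H.NA := by
    intro x y hx hy
    classical
    let S : Set (↥H.M ⧸ H.NA) := {q | q ≠ ((1 : ↥H.M) : ↥H.M ⧸ H.NA)}
    have hS : S.ncard = 4 := by
      have h5 : Nat.card (↥H.M ⧸ H.NA) = 5 := by rw [← Subgroup.index_eq_card, H.index_NA]
      have : S = Set.univ \ {((1 : ↥H.M) : ↥H.M ⧸ H.NA)} := by ext q; simp [S]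
      rw [this, Set.ncard_sdiff_singleton_of_mem (Set.mem_univ _), Set.ncard_univ, h5]
    have hne : ∀ w : ↥H.M, ((w : ↥H.M ⧸ H.NA) ∈ S ↔ w ∉ H.NA) := fun w => by
      simp only [S, Set.mem_setOf_eq, ne_eq, QuotientGroup.eq, mul_one, inv_mem_iff]
    let F : ↥H.A → ↥H.M ⧸ H.NA :=
      fun a => (((⟨a, H.A_le_M a.2⟩ : ↥H.M) * x : ↥H.M) : ↥H.M ⧸ H.NA)
    have hFS : Set.range F ⊆ S := by
      rintro _ ⟨a, rfl⟩
      exact (hne _).mpr fun h => hx ((Subgroup.mul_mem_cancel_left _ (H.A_NA a.2)).mp h)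
    have hinj : Function.Injective F := by
      intro a b h
      have h' := QuotientGroup.eq.mp h
      refine Subtype.ext (inv_mul_eq_one.mp ?_)
      have := hfree x hx ⟨(a : G)⁻¹ * b, H.A_le_M (mul_mem (inv_mem a.2) b.2)⟩
        (mul_mem (inv_mem a.2) b.2) (by
          convert h' using 1
          exact Subtype.ext (by simp [mul_assoc]))
      exact congrArg Subtype.val this
    have heq := Set.eq_of_subset_of_ncard_le hFS (by
      rw [hS, Set.ncard_range_of_injective hinj, H.card_A])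
    obtain ⟨a, ha⟩ := heq.symm ▸ (hne y).mpr hy
    exact ⟨⟨a, H.A_le_M a.2⟩, a.2, QuotientGroup.eq.mp ha⟩
  have hαmem : ∀ w : ↥H.M, α w ∈ H.NA → w ∈ H.NA := by
    intro w hw
    have h := hfix _ hw
    have e : α w = w := by
      refine Subtype.ext ?_
      have h1 : g * (g * (w : G) * g⁻¹) * g⁻¹ = g * (w : G) * g⁻¹ := congrArg Subtype.val h
      exact mul_left_cancel (mul_right_cancel h1)
    rwa [e] at hw
  -- the induced map fixes every coset
  have hall : ∀ x : ↥H.M, x⁻¹ * α x ∈ H.NA := by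
    intro x
    by_cases hx : x ∈ H.NA
    · rw [hfix x hx, inv_mul_cancel]; exact one_mem _
    have hαx : α x ∉ H.NA := fun h => hx (hαmem x h)
    obtain ⟨a, ha, hax⟩ := htrans x (α x) hx hαx
    set k' : ↥H.M := ⟨H.k, H.kM⟩ with hk'
    have hkx : k' * x ∉ H.NA := fun h => hx ((Subgroup.mul_mem_cancel_left _ H.k_NA).mp h)
    obtain ⟨c, hc, hcx⟩ := htrans x (k' * x) hx hkx
    -- `n`, `n'` are the discrepancies
    set n := (a * x)⁻¹ * α x
    set n' := (c * x)⁻¹ * (k' * x)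
    have e1 : α x = a * x * n := (mul_inv_cancel_left _ _).symm
    have e2 : k' * x = c * x * n' := (mul_inv_cancel_left _ _).symm
    have key := congrArg α e2
    rw [hα, hα, hα, hfixk, hfixA c hc, hfix n' hcx, e1] at key
    have hca : a * c = c * a := Subtype.ext (H.T_comm (H.A_le_T ha) (H.A_le_T hc)).eq
    set ka : ↥H.M := ⟨H.kk (a : G), H.A_le_M (H.kk_A ha)⟩ with hka
    have hk'a : k' * a = ka * k' := Subtype.ext (by
      show H.k * (a : G) = H.kk (a : G) * H.k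
      rw [kk_apply]; group)
    have key2 : x⁻¹ * (a⁻¹ * c⁻¹ * ka * c) * x ∈ H.NA := by
      have e : x⁻¹ * (a⁻¹ * c⁻¹ * ka * c) * x = n * n' * n⁻¹ * n'⁻¹ := by
        have h1 : ka * (c * x * n') * n = c * (a * x * n) * n' := by
          rw [← e2, ← mul_assoc ka, ← hk'a]
          simpa [mul_assoc] using key
        calc x⁻¹ * (a⁻¹ * c⁻¹ * ka * c) * x
            = x⁻¹ * (a⁻¹ * c⁻¹) * (ka * (c * x * n') * n) * n⁻¹ * n'⁻¹ := by group
          _ = x⁻¹ * (a⁻¹ * c⁻¹) * (c * (a * x * n) * n') * n⁻¹ * n'⁻¹ := by rw [h1]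
          _ = _ := by group
      rw [e]
      exact mul_mem (mul_mem (mul_mem hax hcx) (inv_mem hax)) (inv_mem hcx)
    have hd := hfree x hx _ (by
      show ((a : G))⁻¹ * (c : G)⁻¹ * H.kk (a : G) * (c : G) ∈ H.A
      exact mul_mem (mul_mem (mul_mem (inv_mem ha) (inv_mem hc)) (H.kk_A ha)) hc) key2
    have hkaa : H.kk (a : G) = (a : G) := by
      have h1 : (a : G)⁻¹ * (c : G)⁻¹ * H.kk (a : G) * (c : G) = 1 := congrArg Subtype.val hd
      rw [mul_assoc, (H.T_comm (H.A_le_T (H.kk_A ha)) (H.A_le_T hc)).eq, ← mul_assoc,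
        inv_mul_cancel_right] at h1
      exact (inv_mul_eq_one.mp h1).symm
    have ha1 : a = 1 := Subtype.ext (H.kk_fix ha hkaa)
    simp only [n, ha1, one_mul] at hax
    exact hax
  have hcore : (⟨m, hm⟩ : ↥H.M)⁻¹ * α ⟨m, hm⟩ ∈ H.NA.normalCore := by
    set y : ↥H.M := ⟨m, hm⟩
    intro w
    have h1 := hall (y * w⁻¹)
    have h2 := hall w⁻¹
    rw [hα] at h1
    have := mul_mem h1 (inv_mem h2)
    simpa [mul_assoc] using this
  rw [H.core_NA, Subgroup.mem_bot, inv_mul_eq_one] at hcore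
  exact mul_inv_eq_iff_eq_mul.mp (congrArg Subtype.val hcore).symm

end Cfsg.Agent.Lib.JankoTwoType.Hyp
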