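import Cfsg.Agent.Lib.JankoTwoType.Five

/-!
Groups of Hall–Janko type: two classes of subgroups of order 5.
-/

set_option autoImplicit false
set_option linter.unusedSectionVars false
set_option linter.style.haveILetI false

namespace Cfsg.Agent.Lib.JankoTwoType.Hyp

open scoped Pointwise

variable {G : Type*} [Group G] [Finite G] (H : Hyp G)

/-- Conjugate subgroup. -/
noncomputable def cj (g : G) (W : Subgroup G) : Subgroup G := W.map (MulAut.conj g).toMonoidHom

omit [Finite G] H in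
theorem cj_cj (g g' : G) (W : Subgroup G) : cj g (cj g' W) = cj (g * g') W := by
  rw [cj, cj, cj, Subgroup.map_map]
  refine congrArg (W.map ·) ?_
  ext x; simp [mul_assoc]

omit [Finite G] H in
theorem cj_one (W : Subgroup G) : cj 1 W = W := by
  rw [cj, show (MulAut.conj (1 : G)).toMonoidHom = MonoidHom.id G by ext x; simp, Subgroup.map_id]

omit H in
theorem mem_normalizer_iff_cj {g : G} {W : Subgroup G} :
    g ∈ Subgroup.normalizer (W : Set G) ↔ cj g W = W := by
  constructor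
  · intro h
    ext x
    rw [cj, Subgroup.mem_map_equiv, MulAut.conj_symm_apply, Subgroup.mem_normalizer_iff.mp h]
    group
  · intro h
    refine Tools.mem_normalizer_of_conj fun x hx => ?_
    rw [← h]
    exact ⟨x, hx, rfl⟩

omit H in
theorem cj_eq_iff {a b : G} {W : Subgroup G} :
    cj a W = cj b W ↔ a⁻¹ * b ∈ Subgroup.normalizer (W : Set G) := by
  rw [mem_normalizer_iff_cj, ← cj_cj]
  constructor
  · intro h; rw [← h, cj_cj, inv_mul_cancel, cj_one]
  · intro h
    have := congrArg (cj a) h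
    rw [cj_cj, mul_inv_cancel, cj_one] at this
    exact this.symm

omit [Finite G] H in
theorem card_cj (g : G) (W : Subgroup G) : Nat.card (cj g W) = Nat.card W :=
  Subgroup.card_map_of_injective (MulAut.conj g).injective

variable {m : G} (hm : m ∈ H.M) (h5 : orderOf m = 5) (P : Sylow 5 G) (hmP : m ∈ (P : Subgroup G))
include hm h5 hmP

theorem ncard_lines :
    {W : Subgroup G | W ≤ (P : Subgroup G) ∧ Nat.card W = 5}.ncard = 6 := by
  classical
  haveI : Fact (Nat.Prime 5) := ⟨by norm_num⟩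
  let _ := Fintype.ofFinite G
  set Lines := {W : Subgroup G | W ≤ (P : Subgroup G) ∧ Nat.card W = 5}
  set S := ((P : Subgroup G) : Set G) \ {1}
  have e : ↥S ≃ Σ W : ↥Lines, ↥((W.1 : Set G) \ {1}) :=
    { toFun := fun x => ⟨⟨Subgroup.zpowers x.1, Subgroup.zpowers_le.mpr x.2.1, by
          rw [Nat.card_zpowers, orderOf_eq_prime (H.P_exp hm h5 P hmP x.2.1) x.2.2]⟩,
        ⟨x.1, Subgroup.mem_zpowers _, x.2.2⟩⟩
      invFun := fun y => ⟨y.2.1, y.1.2.1 y.2.2.1, y.2.2.2⟩
      left_inv := fun x => rfl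
      right_inv := by
        rintro ⟨⟨W, hWP, hW⟩, ⟨x, hx, hx1⟩⟩
        have hz : Subgroup.zpowers x = W := by
          refine Subgroup.eq_of_le_of_card_ge (Subgroup.zpowers_le.mpr hx) ?_
          rw [hW, Nat.card_zpowers, orderOf_eq_prime (H.P_exp hm h5 P hmP (hWP hx)) hx1]
        subst hz
        rfl }
  have hf : ∀ W : ↥Lines, Nat.card ↥((W.1 : Set G) \ {1}) = 4 := fun W => by
    rw [Nat.card_coe_set_eq, Set.ncard_sdiff_singleton_of_mem (one_mem W.1), ← Nat.card_coe_set_eq]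
    show Nat.card W.1 - 1 = 4
    rw [W.2.2]
  have h := Nat.card_congr e
  rw [Nat.card_sigma, Finset.sum_congr rfl (fun W _ => hf W), Finset.sum_const, Finset.card_univ,
    ← Nat.card_eq_fintype_card, smul_eq_mul, Nat.card_coe_set_eq, Nat.card_coe_set_eq,
    Set.ncard_sdiff_singleton_of_mem (one_mem (P : Subgroup G)), ← Nat.card_coe_set_eq] at h
  change Nat.card (P : Subgroup G) - 1 = _ at h
  rw [H.card_sylow_five P] at h
  omega

/-- The orbit of a line under `N(P)`. -/
theorem line_orbit {W : Subgroup G} (hWP : W ≤ (P : Subgroup G)) (hW : Nat.card W = 5) :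
    3 ∣ (Set.range fun n : ↥(Subgroup.normalizer ((P : Subgroup G) : Set G)) =>
      cj (n : G) W).ncard ∧
    (Set.range fun n : ↥(Subgroup.normalizer ((P : Subgroup G) : Set G)) => cj (n : G) W) ⊆
      {V : Subgroup G | V ≤ (P : Subgroup G) ∧ Nat.card V = 5} ∧
    (Set.range fun n : ↥(Subgroup.normalizer ((P : Subgroup G) : Set G)) => cj (n : G) W).ncard *
      Nat.card ↥(Subgroup.normalizer ((P : Subgroup G) : Set G) ⊓
        Subgroup.normalizer (W : Set G)) = 300 := by
  classical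
  haveI : Fact (Nat.Prime 3) := ⟨by norm_num⟩
  haveI : Fact (Nat.Prime 5) := ⟨by norm_num⟩
  set N := Subgroup.normalizer ((P : Subgroup G) : Set G)
  have hmul : (Set.range fun n : ↥N => cj (n : G) W).ncard *
      Nat.card ↥(N ⊓ Subgroup.normalizer (W : Set G)) = 300 := by
    rw [← H.card_normalizer hm h5 P hmP, ← Tools.ncard_range_mul_card (fun n : ↥N => cj (n : G) W)
      ((Subgroup.normalizer (W : Set G)).subgroupOf N) fun a b => cj_eq_iff,
      ← Subgroup.card_map_of_injective (f := N.subtype) N.subtype_injective,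
      Subgroup.subgroupOf_map_subtype, inf_comm]
  refine ⟨?_, ?_, hmul⟩
  · set J := N ⊓ Subgroup.normalizer (W : Set G) with hJ
    have h3 : ¬ 3 ∣ Nat.card ↥J := by
      intro h3
      obtain ⟨⟨w, hwJ⟩, hw⟩ := exists_prime_orderOf_dvd_card' (G := ↥J) 3 h3
      rw [Subgroup.orderOf_mk] at hw
      obtain ⟨hwN, hwW⟩ := Subgroup.mem_inf.mp hwJ
      have hw3 : w ^ 3 = 1 := hw ▸ pow_orderOf_eq_one w
      -- `w` centralises `W`
      have hfix : ∀ V : Subgroup G, V ≤ (P : Subgroup G) → (∀ x ∈ V, w * x * w⁻¹ ∈ V) →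
          Nat.card ↥(V ⊓ Subgroup.centralizer ({w} : Set G)) % 3 = Nat.card V % 3 := by
        intro V _ hV
        have h := Tools.modEq_conj_fixed 3 hw3 (V : Set G) hV
        rw [show {x | x ∈ (V : Set G) ∧ Commute w x} =
          ((V ⊓ Subgroup.centralizer ({w} : Set G) : Subgroup G) : Set G) from Set.ext fun x =>
            ⟨fun hx => ⟨hx.1, Subgroup.mem_centralizer_singleton_iff.mpr hx.2.eq.symm⟩,
             fun hx => ⟨hx.1, (Subgroup.mem_centralizer_singleton_iff.mp hx.2).symm⟩⟩,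
          ← Nat.card_coe_set_eq, ← Nat.card_coe_set_eq] at h
        exact h.symm
      have hP := hfix (P : Subgroup G) le_rfl
        (fun x hx => ((Subgroup.mem_normalizer_iff.mp hwN) x).mp hx)
      have hW' := hfix W hWP (fun x hx => ((Subgroup.mem_normalizer_iff.mp hwW) x).mp hx)
      have hd5 : Nat.card ↥(W ⊓ Subgroup.centralizer ({w} : Set G)) ∣ 5 :=
        hW ▸ Subgroup.card_dvd_of_le inf_le_left
      have hW5 : Nat.card ↥(W ⊓ Subgroup.centralizer ({w} : Set G)) = 5 := by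
        rcases (Nat.dvd_prime (by norm_num : Nat.Prime 5)).mp hd5 with e | e
        · rw [e, hW] at hW'; norm_num at hW'
        · exact e
      have hdP : Nat.card ↥((P : Subgroup G) ⊓ Subgroup.centralizer ({w} : Set G)) ∣ 5 ^ 2 := by
        rw [show 5 ^ 2 = Nat.card (P : Subgroup G) by rw [H.card_sylow_five P]; rfl]
        exact Subgroup.card_dvd_of_le inf_le_left
      obtain ⟨i, hi2, hi⟩ := (Nat.dvd_prime_pow (by norm_num : Nat.Prime 5)).mp hdP
      have h5le : 5 ≤ Nat.card ↥((P : Subgroup G) ⊓ Subgroup.centralizer ({w} : Set G)) :=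
        hW5.ge.trans (Subgroup.card_le_of_le (inf_le_inf_right _ hWP))
      have hi' : i = 2 := by
        rw [hi, H.card_sylow_five P] at hP
        rw [hi] at h5le
        interval_cases i <;> simp_all
      have heq := Subgroup.eq_of_le_of_card_ge
        (inf_le_left : (P : Subgroup G) ⊓ Subgroup.centralizer ({w} : Set G) ≤ P)
        (by rw [hi, hi', H.card_sylow_five P]; norm_num)
      have hwC : w ∈ Subgroup.centralizer ((P : Subgroup G) : Set G) :=
        Subgroup.mem_centralizer_iff.mpr fun x hx =>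
          (Subgroup.mem_centralizer_singleton_iff.mp
            (Subgroup.mem_inf.mp (by rw [heq]; exact hx : x ∈ (P : Subgroup G) ⊓
              Subgroup.centralizer ({w} : Set G))).2)
      rw [H.centralizer_P hm h5 P hmP] at hwC
      have h35 := orderOf_dvd_of_pow_eq_one (H.P_exp hm h5 P hmP hwC)
      rw [hw] at h35
      norm_num at h35
    have h300 : 3 ∣ (Set.range fun n : ↥N => cj (n : G) W).ncard * Nat.card ↥J := by
      rw [hmul]; norm_num
    exact ((Nat.Prime.dvd_mul Nat.prime_three).mp h300).resolve_right h3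
  · rintro _ ⟨n, rfl⟩
    refine ⟨?_, by rw [card_cj, hW]⟩
    rintro _ ⟨x, hx, rfl⟩
    exact ((Subgroup.mem_normalizer_iff.mp n.2) x).mp (hWP hx)

theorem cj_into_P {W : Subgroup G} (hW : Nat.card W = 5) : ∃ g : G, cj g W ≤ (P : Subgroup G) := by
  haveI : Fact (Nat.Prime 5) := ⟨by norm_num⟩
  obtain ⟨R, hR⟩ : ∃ R : Sylow 5 G, W ≤ (R : Subgroup G) :=
    IsPGroup.exists_le_sylow (IsPGroup.of_card (n := 1) (by rw [hW, pow_one]))
  obtain ⟨g, hg⟩ := MulAction.exists_smul_eq G R P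
  refine ⟨g, ?_⟩
  rw [← hg, Sylow.coe_subgroup_smul]
  exact Subgroup.map_mono hR

theorem two_classes : ∀ W : Subgroup G, Nat.card W = 5 → ∀ Y : Subgroup G, Nat.card Y = 5 →
    (∀ g, cj g (Subgroup.zpowers m) ≠ Y) →
    ∃ g : G, cj g W = Subgroup.zpowers m ∨ cj g W = Y := by
  classical
  intro W hW Y hY hXY
  set N := Subgroup.normalizer ((P : Subgroup G) : Set G)
  obtain ⟨a, ha⟩ := H.cj_into_P hm h5 P hmP hW
  obtain ⟨b, hb⟩ := H.cj_into_P hm h5 P hmP hY
  have hX : Nat.card (Subgroup.zpowers m) = 5 := by rw [Nat.card_zpowers, h5]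
  have hXP : Subgroup.zpowers m ≤ (P : Subgroup G) := Subgroup.zpowers_le.mpr hmP
  obtain ⟨h3X, hsX, hmulX⟩ := H.line_orbit hm h5 P hmP hXP hX
  set O := Set.range fun n : ↥N => cj (n : G) (Subgroup.zpowers m)
  have hO : O.ncard ≤ 3 := by
    have h100 := H.hundred_dvd hm h5 P hmP
    have hpos : 0 < Nat.card ↥(N ⊓ Subgroup.normalizer (Subgroup.zpowers m : Set G)) := Nat.card_pos
    have h : 100 ≤ Nat.card ↥(N ⊓ Subgroup.normalizer (Subgroup.zpowers m : Set G)) :=
      Nat.le_of_dvd hpos h100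
    by_contra hlt
    have : 4 * 100 ≤ 300 := hmulX ▸ Nat.mul_le_mul (show 4 ≤ O.ncard by omega) h
    omega
  by_cases hWO : cj a W ∈ O
  · obtain ⟨n, hn⟩ := hWO
    refine ⟨(n : G)⁻¹ * a, Or.inl ?_⟩
    rw [← cj_cj, ← hn, cj_cj, inv_mul_cancel, cj_one]
  obtain ⟨h3W, hsW, -⟩ := H.line_orbit hm h5 P hmP ha (by rw [card_cj, hW])
  set OW := Set.range fun n : ↥N => cj (n : G) (cj a W) with hOW
  have hdisj : ∀ (V : Subgroup G), V ∉ O →
      Disjoint O (Set.range fun n : ↥N => cj (n : G) V) := by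
    intro V hV
    rw [Set.disjoint_left]
    rintro _ ⟨c, rfl⟩ ⟨d, e⟩
    refine hV ⟨d⁻¹ * c, ?_⟩
    show cj ((d⁻¹ * c : ↥N) : G) (Subgroup.zpowers m) = V
    rw [Subgroup.coe_mul, ← cj_cj, ← show _ = cj (c : G) (Subgroup.zpowers m) from e, cj_cj,
      Subgroup.coe_inv, inv_mul_cancel, cj_one]
  -- the orbit of `X` has length exactly 3
  have hO3 : O.ncard = 3 := by
    have : 0 < O.ncard := (Set.ncard_pos (Set.toFinite _)).mpr ⟨_, 1, rfl⟩
    omega
  have hYO : cj b Y ∉ O := by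
    rintro ⟨n, hn⟩
    refine hXY (b⁻¹ * n) ?_
    rw [← cj_cj, show cj (n : G) (Subgroup.zpowers m) = cj b Y from hn, cj_cj, inv_mul_cancel, cj_one]
  obtain ⟨h3Y, hsY, -⟩ := H.line_orbit hm h5 P hmP hb (by rw [card_cj, hY])
  set OY := Set.range fun n : ↥N => cj (n : G) (cj b Y)
  have hdiff : ∀ V : Subgroup G, (Set.range fun n : ↥N => cj (n : G) V) ⊆
      {V : Subgroup G | V ≤ (P : Subgroup G) ∧ Nat.card V = 5} →
      3 ∣ (Set.range fun n : ↥N => cj (n : G) V).ncard → V ∉ O →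
      (Set.range fun n : ↥N => cj (n : G) V) =
        {V : Subgroup G | V ≤ (P : Subgroup G) ∧ Nat.card V = 5} \ O := by
    intro V hs h3 hV
    have hpos : 0 < (Set.range fun n : ↥N => cj (n : G) V).ncard :=
      (Set.ncard_pos (Set.toFinite _)).mpr ⟨_, 1, rfl⟩
    refine Set.eq_of_subset_of_ncard_le (Set.subset_sdiff.mpr ⟨hs, (hdisj V hV).symm⟩) ?_
    rw [Set.ncard_sdiff hsX (Set.toFinite _), H.ncard_lines hm h5 P hmP, hO3]
    have := Nat.le_of_dvd hpos h3
    omega
  have hmem : cj b Y ∈ OW := by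
    rw [hOW, hdiff _ hsW h3W hWO, ← hdiff _ hsY h3Y hYO]
    exact ⟨1, cj_one _⟩
  obtain ⟨n, hn⟩ := hmem
  refine ⟨b⁻¹ * (n : G) * a, Or.inr ?_⟩
  rw [← cj_cj, ← cj_cj, show cj (n : G) (cj a W) = cj b Y from hn, cj_cj, inv_mul_cancel, cj_one]

omit hm h5 hmP in
theorem f_not_conj (hm : m ∈ H.M) (h5 : orderOf m = 5) (g : G) :
    cj g (Subgroup.zpowers m) ≠ Subgroup.zpowers H.f := by
  intro h
  have hf : H.f ∈ cj g (Subgroup.zpowers m) := h ▸ Subgroup.mem_zpowers _
  obtain ⟨x, hx, e⟩ := hf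
  have he : g * x * g⁻¹ = H.f := e
  have hzx : Commute (g⁻¹ * H.z * g) x := by
    refine (Commute.conj_iff g).mp ?_
    rw [he, show g * (g⁻¹ * H.z * g) * g⁻¹ = H.z by group]
    exact H.hfz.symm
  have hx1 : x ≠ 1 := fun h1 => by
    have := H.hf
    rw [← he, h1, mul_one, mul_inv_cancel, orderOf_one] at this
    omega
  have hxz : Subgroup.zpowers x = Subgroup.zpowers m := by
    refine Subgroup.eq_of_le_of_card_ge (Subgroup.zpowers_le.mpr hx) ?_
    have hxo : orderOf x ∣ 5 := by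
      obtain ⟨i, rfl⟩ := hx
      exact orderOf_dvd_of_pow_eq_one (by
        rw [← zpow_natCast, ← zpow_mul, mul_comm, zpow_mul, zpow_natCast,
          show m ^ 5 = 1 from h5 ▸ pow_orderOf_eq_one m, one_zpow])
    rcases (Nat.dvd_prime (by norm_num : Nat.Prime 5)).mp hxo with e1 | e1
    · exact absurd (orderOf_eq_one_iff.mp e1) hx1
    · rw [Nat.card_zpowers, Nat.card_zpowers, h5, e1]
  obtain ⟨i, hi⟩ : m ∈ Subgroup.zpowers x := hxz ▸ Subgroup.mem_zpowers m
  have hzm : Commute (g⁻¹ * H.z * g) m := hi ▸ hzx.zpow_right i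
  have hc : IsConj H.z (g⁻¹ * H.z * g) := isConj_iff.mpr ⟨g⁻¹, by group⟩
  exact H.t_nzc (hc.trans (H.tc_cent_m hm h5 hzm (H.zc_order hc)).symm)

omit hm h5 hmP in
include H in
/-- The Sylow 5-structure of a group of Hall–Janko type. -/
theorem five_structure (P : Sylow 5 G) :
    Subgroup.centralizer ((P : Subgroup G) : Set G) = P ∧ Nat.card (P : Subgroup G) = 25 ∧
      Nat.card (Subgroup.normalizer ((P : Subgroup G) : Set G)) = 300 ∧
      ∃ X Y : Subgroup G, Nat.card X = 5 ∧ Nat.card Y = 5 ∧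
        (∀ g : G, X.map (MulAut.conj g).toMonoidHom ≠ Y) ∧
        ∀ W : Subgroup G, Nat.card W = 5 → ∃ g : G, W.map (MulAut.conj g).toMonoidHom = X ∨
          W.map (MulAut.conj g).toMonoidHom = Y := by
  haveI : Fact (Nat.Prime 5) := ⟨by norm_num⟩
  obtain ⟨m, hm, h5⟩ := H.exists_m
  obtain ⟨P0, hP0⟩ : ∃ P0 : Sylow 5 G, Subgroup.zpowers m ≤ (P0 : Subgroup G) :=
    IsPGroup.exists_le_sylow (IsPGroup.of_card (n := 1) (by rw [Nat.card_zpowers, h5, pow_one]))
  have hmP0 := hP0 (Subgroup.mem_zpowers m)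
  refine ⟨?_, H.card_sylow_five P, ?_, Subgroup.zpowers m, Subgroup.zpowers H.f,
    by rw [Nat.card_zpowers, h5], by rw [Nat.card_zpowers, H.hf], H.f_not_conj hm h5,
    fun W hW => H.two_classes hm h5 P0 hmP0 W hW _ (by rw [Nat.card_zpowers, H.hf])
      (H.f_not_conj hm h5)⟩
  · obtain ⟨g, rfl⟩ := MulAction.exists_smul_eq G P0 P
    refine le_antisymm (fun y hy => ?_) fun y hy => Subgroup.mem_centralizer_iff.mpr fun x hx =>
      (H.sylow_five_comm (g • P0) hx hy).eq
    have hy0 : g⁻¹ * y * g ∈ Subgroup.centralizer ((P0 : Subgroup G) : Set G) := by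
      refine Subgroup.mem_centralizer_iff.mpr fun x hx => ?_
      have h := Subgroup.mem_centralizer_iff.mp hy (g * x * g⁻¹) (by
        rw [Sylow.coe_subgroup_smul]; exact ⟨x, hx, rfl⟩)
      calc x * (g⁻¹ * y * g) = g⁻¹ * (g * x * g⁻¹ * y) * g := by group
        _ = g⁻¹ * (y * (g * x * g⁻¹)) * g := by rw [h]
        _ = _ := by group
    rw [H.centralizer_P hm h5 P0 hmP0] at hy0
    rw [Sylow.coe_subgroup_smul]
    refine ⟨_, hy0, ?_⟩
    show g * (g⁻¹ * y * g) * g⁻¹ = y
    group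
  · have h0 := H.card_normalizer hm h5 P0 hmP0
    have hi := (Subgroup.normalizer ((P : Subgroup G) : Set G)).card_mul_index
    have hi0 := (Subgroup.normalizer ((P0 : Subgroup G) : Set G)).card_mul_index
    rw [show (Subgroup.normalizer ((P : Subgroup G) : Set G)).index = Nat.card (Sylow 5 G) from
      P.card_eq_index_normalizer.symm] at hi
    rw [show (Subgroup.normalizer ((P0 : Subgroup G) : Set G)).index = Nat.card (Sylow 5 G) from
      P0.card_eq_index_normalizer.symm, ← hi, h0] at hi0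
    exact (Nat.eq_of_mul_eq_mul_right Nat.card_pos hi0).symm

end Cfsg.Agent.Lib.JankoTwoType.Hyp
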