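import Cfsg.Agent.Lib.JankoTwoType.Extraspecial

/-!
Involutions of `C(z)` outside `Q` when `C(z)/Q` is the alternating group of degree 5.
-/

set_option autoImplicit false
set_option linter.unusedSectionVars false
set_option linter.unusedSimpArgs false
set_option linter.style.haveILetI false

namespace Cfsg.Agent.Lib.JankoTwoType

open Equiv in
/-- The standard double transposition. -/
def s0 : Perm (Fin 5) := swap 0 1 * swap 2 3

open Equiv in
/-- Another double transposition fixing the same point. -/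
def s1 : Perm (Fin 5) := swap 0 2 * swap 1 3

set_option maxRecDepth 4000 in
theorem exists_conj_s0 : ∀ σ : Equiv.Perm (Fin 5), σ * σ = 1 → σ ≠ 1 → Equiv.Perm.sign σ = 1 →
    ∃ ρ : Equiv.Perm (Fin 5), Equiv.Perm.sign ρ = 1 ∧ ρ * σ * ρ⁻¹ = s0 := by decide +kernel

set_option maxRecDepth 4000 in
theorem exists_conj_s0_fix : ∀ σ : Equiv.Perm (Fin 5), σ * σ = 1 → σ ≠ 1 → Equiv.Perm.sign σ = 1 →
    σ 4 = 4 → ∃ ρ : Equiv.Perm (Fin 5), Equiv.Perm.sign ρ = 1 ∧ ρ 4 = 4 ∧ ρ * σ * ρ⁻¹ = s0 := by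
  decide +kernel

set_option maxRecDepth 4000 in
theorem comm_s0 : ∀ σ : Equiv.Perm (Fin 5), σ * s0 = s0 * σ → Equiv.Perm.sign σ = 1 →
    σ 4 = 4 ∧ σ * σ = 1 ∧ (σ = 1 ∨ σ = s0 ∨ σ = s1 ∨ σ = s0 * s1) := by decide +kernel

set_option maxRecDepth 4000 in
theorem card_comm_s0 :
    Nat.card {σ : Equiv.Perm (Fin 5) // σ * s0 = s0 * σ ∧ Equiv.Perm.sign σ = 1} = 4 := by
  rw [Nat.card_eq_fintype_card]; decide +kernel


namespace Pre

variable {G : Type*} [Group G] [Finite G] (P : Pre G)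

section Image

variable (hC : Nat.card P.Cz = 1920)
include hC

theorem range_eq : P.perm.range = alternatingGroup (Fin 5) := by
  refine Equiv.Perm.eq_alternatingGroup_of_index_eq_two ?_
  have h1 := P.card_Cz
  rw [hC] at h1
  have h2 := P.perm.range.card_mul_index
  rw [show Nat.card P.perm.range = 60 by omega, Nat.card_perm, Nat.card_fin] at h2
  norm_num [Nat.factorial] at h2
  omega

theorem sign_perm (c : ↥P.Cz) : Equiv.Perm.sign (P.perm c) = 1 := by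
  have : P.perm c ∈ P.perm.range := ⟨c, rfl⟩
  rwa [(P.range_eq hC), Equiv.Perm.mem_alternatingGroup] at this

theorem exists_lift {σ : Equiv.Perm (Fin 5)} (h : Equiv.Perm.sign σ = 1) :
    ∃ c, ∃ hc : c ∈ P.Cz, P.perm ⟨c, hc⟩ = σ := by
  have : σ ∈ P.perm.range := by rw [(P.range_eq hC)]; exact Equiv.Perm.mem_alternatingGroup.mpr h
  obtain ⟨⟨c, hc⟩, hσ⟩ := this
  exact ⟨c, hc, hσ⟩

theorem perm_sq {c : G} (hc : c ∈ P.Cz) (h : c * c = 1) :
    P.perm ⟨c, hc⟩ * P.perm ⟨c, hc⟩ = 1 := by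
  rw [← map_mul]
  exact (congrArg P.perm (Subtype.ext h : (⟨c, hc⟩ * ⟨c, hc⟩ : ↥P.Cz) = 1)).trans (map_one _)

omit hC in
theorem perm_conj {c y : G} (hc : c ∈ P.Cz) (hy : y ∈ P.Cz) (h : c * y * c⁻¹ ∈ P.Cz) :
    P.perm ⟨c * y * c⁻¹, h⟩ = P.perm ⟨c, hc⟩ * P.perm ⟨y, hy⟩ * (P.perm ⟨c, hc⟩)⁻¹ := by
  rw [← map_inv, ← map_mul, ← map_mul]
  rfl

/-- An involution of `C(z)` outside `Q` can be moved over the standard double transposition. -/
theorem exists_over_s0 {y : G} (hy : y ∈ P.Cz) (h2 : y * y = 1) (hQ : y ∉ P.Q) :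
    ∃ c, ∃ _ : c ∈ P.Cz, ∃ h : c * y * c⁻¹ ∈ P.Cz, P.perm ⟨c * y * c⁻¹, h⟩ = s0 := by
  obtain ⟨ρ, hρ, hρy⟩ := exists_conj_s0 _ (P.perm_sq hC hy h2)
    (fun h => hQ (P.mem_Q_of_perm hy h)) (P.sign_perm hC _)
  obtain ⟨c, hc, rfl⟩ := P.exists_lift hC hρ
  have h := mul_mem (mul_mem hc hy) (inv_mem hc)
  exact ⟨c, hc, h, (P.perm_conj hc hy h).trans hρy⟩


end Image

section Over

variable {t : G} (tC : t ∈ P.Cz) (tt : t * t = 1) (hp0 : P.perm ⟨t, tC⟩ = s0)
include tC tt hp0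

theorem conj_mul (x y : G) : t * (x * y) * t = (t * x * t) * (t * y * t) := by
  rw [show (t * x * t) * (t * y * t) = t * x * (t * t) * y * t by group, tt]
  group

theorem t_u (i : Fin 5) : ∃ b, t * P.u i * t = P.u (s0 i) * P.zb b ∧
    t * P.u (s0 i) * t = P.u i * P.zb b := by
  obtain ⟨b, hb⟩ := P.perm_spec ⟨t, tC⟩ i
  rw [hp0] at hb
  simp only [(inv_eq_of_mul_eq_one_right tt)] at hb
  refine ⟨b, hb, ?_⟩
  have h : P.u i = t * P.u (s0 i) * t * P.zb b := by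
    calc P.u i = t * (t * P.u i * t) * t := by
          rw [show t * (t * P.u i * t) * t = (t * t) * P.u i * (t * t) by group,
            tt, one_mul, mul_one]
      _ = t * (P.u (s0 i) * P.zb b) * t := by rw [hb]
      _ = _ := by
          rw [mul_assoc _ t (P.zb b), (P.zb_comm (P.mem_Cz.mp tC) b).eq]; group
  rw [h, mul_assoc _ (P.zb b), P.zb_mul, Bool.xor_self, P.zb_false, mul_one]

theorem t_pair (i : Fin 5) :
    t * (P.u i * P.u (s0 i)) * t = P.u (s0 i) * P.u i := by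
  obtain ⟨b, h1, h2⟩ := P.t_u tC tt hp0 i
  rw [P.conj_mul tC tt hp0, h1, h2, mul_assoc (P.u (s0 i)), ← mul_assoc (P.zb b), P.zQ (P.uQ i),
    mul_assoc (P.u i), P.zb_mul, Bool.xor_self, P.zb_false, mul_one]

theorem tv : Commute t (P.u 4) := by
  set p := (P.u 0 * P.u 1) * (P.u 2 * P.u 3) with hp
  have hpQ : p ∈ P.Q := mul_mem (mul_mem (P.uQ _) (P.uQ _)) (mul_mem (P.uQ _) (P.uQ _))
  obtain ⟨b, hb⟩ := P.eq_of_sig hpQ (P.uQ 4) (by
    rw [hp, P.sig_mul (mul_mem (P.uQ _) (P.uQ _)) (mul_mem (P.uQ _) (P.uQ _)),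
      P.sig_mul (P.uQ _) (P.uQ _), P.sig_mul (P.uQ _) (P.uQ _), P.sig_u, P.sig_u, P.sig_u,
      P.sig_u, P.sig_u]
    decide)
  have hfix : t * p * t = p := by
    rw [hp, P.conj_mul tC tt hp0, show (1 : Fin 5) = s0 0 by decide, show (3 : Fin 5) = s0 2 by decide,
      P.t_pair tC tt hp0, P.t_pair tC tt hp0]
    have e : ∀ i j : Fin 5, i ≠ j → P.u j * P.u i = P.u i * P.u j * P.z := by
      intro i j hij
      have hnc : Pre.nc (P.u j) (P.u i) = true := by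
        rw [← Bool.not_eq_false, Pre.nc_false_iff]; exact P.u_not_commute (Ne.symm hij)
      rw [P.mul_eq_nc (P.uQ j) (P.uQ i), hnc]; rfl
    rw [e 0 (s0 0) (by decide), e 2 (s0 2) (by decide), mul_assoc (P.u 0 * P.u (s0 0)),
      ← mul_assoc P.z, show P.z * (P.u 2 * P.u (s0 2)) = (P.u 2 * P.u (s0 2)) * P.z from
        (P.le _ (mul_mem (P.uQ _) (P.uQ _))).eq.symm, mul_assoc _ P.z P.z, P.zz, mul_one]
  have hfix' : Commute t p := by
    show t * p = p * t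
    conv_rhs => rw [← hfix, mul_assoc, tt, mul_one]
  have hv : (P.u 4) = p * P.zb b := by rw [hb, mul_assoc, P.zb_mul, Bool.xor_self, P.zb_false, mul_one]
  rw [hv]
  exact hfix'.mul_right (P.zb_comm (P.mem_Cz.mp tC) b)

omit P tC tt hp0 in
/-- A pattern fixed by `s0`. -/
theorem fixed_cases : ∀ w : Fin 5 → Bool,
    xor (xor (xor (xor (w 0) (w 1)) (w 2)) (w 3)) (w 4) = false → (∀ i, w (s0 i) = w i) →
    w = (fun _ => false) ∨ w = (fun j => decide ((4 : Fin 5) ≠ j)) ∨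
    w = (fun j => xor (decide ((0 : Fin 5) ≠ j)) (decide ((1 : Fin 5) ≠ j))) ∨
    w = (fun j => xor (decide ((2 : Fin 5) ≠ j)) (decide ((3 : Fin 5) ≠ j))) := by decide

theorem t_inverts {q : G} (hq : q ∈ P.Q) (hfix : ∀ i, P.sig q (s0 i) = P.sig q i) :
    t * q * t = q⁻¹ := by
  have hrep : ∀ g ∈ P.Q, t * g * t = g⁻¹ → P.sig q = P.sig g → t * q * t = q⁻¹ := by
    intro g hg hgt hs
    obtain ⟨b, rfl⟩ := P.eq_of_sig hq hg hs
    rw [P.conj_mul tC tt hp0, hgt, mul_inv_rev, P.zb_inv, show t * P.zb b * t = P.zb b by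
      rw [(P.zb_comm (P.mem_Cz.mp tC) b).eq, mul_assoc, tt, mul_one], P.zQ (inv_mem hg)]
  have hu : ∀ i, P.u i * P.u i = 1 := fun i => (P.u_mem i).2.1
  rcases fixed_cases _ (P.sig_parity hq) hfix with h | h | h | h
  · exact hrep 1 (one_mem _) (by simp [tt]) (h.trans (P.sig_zb false).symm)
  · exact hrep (P.u 4) (P.uQ 4) (by
      rw [(P.tv tC tt hp0).eq, mul_assoc, tt, mul_one, inv_eq_of_mul_eq_one_right (P.u_mem 4).2.1])
      (h.trans (P.sig_u 4).symm)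
  · refine hrep (P.u 0 * P.u (s0 0)) (mul_mem (P.uQ _) (P.uQ _)) ?_ ?_
    · rw [P.t_pair tC tt hp0, mul_inv_rev, inv_eq_of_mul_eq_one_right (hu 0),
        inv_eq_of_mul_eq_one_right (hu _)]
    · rw [h, P.sig_mul (P.uQ _) (P.uQ _), P.sig_u, P.sig_u]; rfl
  · refine hrep (P.u 2 * P.u (s0 2)) (mul_mem (P.uQ _) (P.uQ _)) ?_ ?_
    · rw [P.t_pair tC tt hp0, mul_inv_rev, inv_eq_of_mul_eq_one_right (hu 2),
        inv_eq_of_mul_eq_one_right (hu _)]
    · rw [h, P.sig_mul (P.uQ _) (P.uQ _), P.sig_u, P.sig_u]; rfl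

theorem sig_t_conj {q : G} (hq : q ∈ P.Q) (i : Fin 5) :
    P.sig (t * q * t) (s0 i) = P.sig q i := by
  have := P.sig_conj tC hq i
  rwa [(inv_eq_of_mul_eq_one_right tt), hp0] at this

theorem tQt {q : G} (hq : q ∈ P.Q) : t * q * t ∈ P.Q := by
  have := P.norm t (P.mem_Cz.mp tC) q hq
  rwa [(inv_eq_of_mul_eq_one_right tt)] at this

omit tC tt hp0 in
theorem sig_inv {q : G} (hq : q ∈ P.Q) : P.sig q⁻¹ = P.sig q := by
  obtain ⟨b, hb⟩ : ∃ b, q⁻¹ = q * P.zb b := ⟨Pre.sqb q, by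
    refine inv_eq_of_mul_eq_one_right ?_
    rw [← mul_assoc, P.sq_eq hq, P.zb_mul, Bool.xor_self, P.zb_false]⟩
  rw [hb, P.sig_mul_zb hq]

theorem fixed_of_commute {q : G} (hq : q ∈ P.Q) (h : t * q * t = q ∨ t * q * t = q⁻¹)
    (i : Fin 5) : P.sig q (s0 i) = P.sig q i := by
  rcases h with h | h
  · conv_lhs => rw [← h]
    exact P.sig_t_conj tC tt hp0 hq i
  · have := P.sig_t_conj tC tt hp0 hq i
    rwa [h, P.sig_inv hq] at this

/-- The involutions over the standard double transposition form one `Q`-class. -/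
theorem exists_Q_conj {c : G} (hc : c ∈ P.Cz) (hp : P.perm ⟨c, hc⟩ = s0) (h2 : c * c = 1) :
    ∃ q ∈ P.Q, q * t * q⁻¹ = c := by
  set d := c * t with hd
  have hdQ : d ∈ P.Q := by
    refine P.mem_Q_of_perm (mul_mem hc tC) ?_
    rw [show (⟨d, mul_mem hc tC⟩ : ↥P.Cz) = ⟨c, hc⟩ * ⟨t, tC⟩ from rfl, map_mul, hp,
      hp0]
    decide
  have hdfix : ∀ i, P.sig d (s0 i) = P.sig d i := P.fixed_of_commute tC tt hp0 hdQ (Or.inr (by
    rw [hd, mul_inv_rev, inv_eq_of_mul_eq_one_right h2, (inv_eq_of_mul_eq_one_right tt), mul_assoc, mul_assoc, tt,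
      mul_one]))
  obtain ⟨w, hw, hwd⟩ : ∃ w : Fin 5 → Bool,
      xor (xor (xor (xor (w 0) (w 1)) (w 2)) (w 3)) (w 4) = false ∧
        ∀ i, P.sig d i = xor (w i) (w (s0 i)) := by
    have hp := P.sig_parity hdQ
    revert hp hdfix
    generalize P.sig d = e
    revert e
    decide
  obtain ⟨q, hq, hqs⟩ := P.exists_sig w hw
  set e := q * (t * q⁻¹ * t) with he
  have hs : P.sig e = P.sig d := by
    funext i
    rw [he, P.sig_mul hq (P.tQt tC tt hp0 (inv_mem hq)), hqs, hwd]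
    have hi : s0 (s0 i) = i := by revert i; decide
    have := P.sig_t_conj tC tt hp0 (inv_mem hq) (s0 i)
    rw [hi, P.sig_inv hq, hqs] at this
    simp only [this]
  obtain ⟨b, hb⟩ := P.eq_of_sig hdQ (mul_mem hq (P.tQt tC tt hp0 (inv_mem hq))) hs.symm
  have hqt : q * t * q⁻¹ = e * t := by
    rw [he, show q * (t * q⁻¹ * t) * t = q * t * q⁻¹ * (t * t) by group, tt, mul_one]
  have hc' : c = e * P.zb b * t := by rw [← hb, hd, mul_assoc, tt, mul_one]
  cases b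
  · exact ⟨q, hq, by rw [hqt, hc']; simp⟩
  · set y := P.u 0 * P.u (s0 0) with hy
    have hu : ∀ i, P.u i * P.u i = 1 := fun i => (P.u_mem i).2.1
    refine ⟨q * y, mul_mem hq (mul_mem (P.uQ _) (P.uQ _)), ?_⟩
    have hyt : y * t * y⁻¹ = P.z * t := by
      have h1 : t * y⁻¹ = y * t := by
        have h3 : t * y⁻¹ * t = y := by
          rw [hy, mul_inv_rev, inv_eq_of_mul_eq_one_right (hu 0),
            inv_eq_of_mul_eq_one_right (hu _)]
          have h4 := P.t_pair tC tt hp0 (s0 0)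
          rwa [show s0 (s0 0) = (0 : Fin 5) by decide] at h4
        calc t * y⁻¹ = t * y⁻¹ * t * t := by rw [mul_assoc _ t, tt, mul_one]
          _ = _ := by rw [h3]
      have hy2 : y * y = P.z := by
        have hQy : y ∈ P.Q := mul_mem (P.uQ _) (P.uQ _)
        rcases P.sq y hQy with h | h
        · exfalso
          rw [← Pre.sqb_false_iff, hy, P.sqb_mul (P.uQ _) (P.uQ _), Pre.sqb_false_iff.mpr (hu 0),
            Pre.sqb_false_iff.mpr (hu _)] at h
          simp only [Bool.false_bne, Bool.bne_false, Bool.xor_false, Bool.false_xor] at h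
          exact P.u_not_commute (show s0 0 ≠ (0 : Fin 5) by decide) (Pre.nc_false_iff.mp h)
        · exact h
      rw [mul_assoc, h1, ← mul_assoc, hy2]
    rw [mul_inv_rev, show q * y * t * (y⁻¹ * q⁻¹) = q * (y * t * y⁻¹) * q⁻¹ by group, hyt,
      show q * (P.z * t) * q⁻¹ = (q * P.z * q⁻¹) * (q * t * q⁻¹) by group,
      (P.le q hq).eq, mul_inv_cancel_right, hqt, hc', Pre.zb_true,
      show e * P.z = P.z * e from P.le e (mul_mem hq (P.tQt tC tt hp0 (inv_mem hq)))]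
    group


end Over

end Pre

end Cfsg.Agent.Lib.JankoTwoType
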