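import Cfsg.Agent.Lib.JankoTwoType.Classes

/-!
Groups of Hall–Janko type: the intersection `A` of `Q` with `C(t)`, the abelian group
`T = C(z) ∩ C(t)` of order 16 and an element of order 3 in `C(t)` permuting the involutions of `A`.
-/

set_option autoImplicit false
set_option linter.unusedSectionVars false
set_option linter.style.haveILetI false

namespace Cfsg.Agent.Lib.JankoTwoType.Hyp

variable {G : Type*} [Group G] [Finite G] (H : Hyp G)

/-- `Q ∩ C(t)`. -/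
def A : Subgroup G := H.Q ⊓ Subgroup.centralizer {H.t}

theorem mem_A {a : G} : a ∈ H.A ↔ a ∈ H.Q ∧ Commute a H.t := by
  rw [A, Subgroup.mem_inf, Subgroup.mem_centralizer_singleton_iff]; rfl

theorem zA : H.z ∈ H.A := H.mem_A.mpr ⟨H.hzQ, H.tz.symm⟩

theorem vA : H.v ∈ H.A := H.mem_A.mpr ⟨H.vQ, H.tv.symm⟩

theorem v_ne : H.v ≠ 1 := (H.u_mem 4).2.2.1

theorem v_ne_z : H.v ≠ H.z := (H.u_mem 4).2.2.2

theorem vz_ne : H.v * H.z ≠ 1 := fun h => H.v_ne_z (by rw [eq_inv_of_mul_eq_one_left h, H.z_inv])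

theorem vz_ne_z : H.v * H.z ≠ H.z := fun h => H.v_ne (mul_eq_right.mp h)

theorem vz_ne_v : H.v * H.z ≠ H.v := fun h => H.z_ne (mul_eq_left.mp h)

theorem A_cases {a : G} (ha : a ∈ H.A) : a = 1 ∨ a = H.z ∨ a = H.v ∨ a = H.v * H.z := by
  obtain ⟨e, b, rfl⟩ := (H.commute_t_iff (H.mem_A.mp ha).1).mp (H.mem_A.mp ha).2.symm
  cases e <;> cases b <;> simp

theorem A_eq : (H.A : Set G) = {1, H.z, H.v, H.v * H.z} := by
  ext a
  refine ⟨fun h => H.A_cases h, ?_⟩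
  rintro (rfl | rfl | rfl | rfl)
  · exact one_mem _
  · exact H.zA
  · exact H.vA
  · exact mul_mem H.vA H.zA

theorem card_A : Nat.card H.A = 4 := by
  show Nat.card (H.A : Set G) = 4
  rw [Nat.card_coe_set_eq, H.A_eq, Set.ncard_insert_of_notMem, Set.ncard_insert_of_notMem,
    Set.ncard_insert_of_notMem, Set.ncard_singleton]
  · simp [H.vz_ne_v.symm]
  · simp [H.v_ne_z.symm, H.vz_ne_z.symm]
  · simp [H.z_ne.symm, H.v_ne.symm, H.vz_ne.symm]

theorem A_sq {a : G} (ha : a ∈ H.A) : a * a = 1 := by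
  rcases H.A_cases ha with rfl | rfl | rfl | rfl
  · exact one_mul 1
  · exact H.zz
  · exact H.vv
  · rw [← mul_assoc, mul_assoc H.v, ← H.vz.eq, ← mul_assoc, H.vv, one_mul, H.zz]

/-- `C(z) ∩ C(t)`. -/
def T : Subgroup G := H.Cz ⊓ Subgroup.centralizer {H.t}

theorem mem_T {x : G} : x ∈ H.T ↔ Commute x H.z ∧ Commute x H.t := by
  rw [T, Subgroup.mem_inf, Subgroup.mem_centralizer_singleton_iff,
    Subgroup.mem_centralizer_singleton_iff]; rfl

theorem T_Cz {x : G} (hx : x ∈ H.T) : x ∈ H.Cz := hx.1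

theorem tT : H.t ∈ H.T := H.mem_T.mpr ⟨H.tz, Commute.refl _⟩

theorem A_le_T : H.A ≤ H.T := fun a ha =>
  H.mem_T.mpr ⟨H.le a (H.mem_A.mp ha).1, (H.mem_A.mp ha).2⟩

theorem perm_T {x : G} (hx : x ∈ H.T) :
    H.perm ⟨x, hx.1⟩ * s0 = s0 * H.perm ⟨x, hx.1⟩ := by
  rw [← H.perm_t, ← map_mul, ← map_mul]
  exact congrArg H.perm (Subtype.ext (H.mem_T.mp hx).2.eq)

theorem mem_A_of_perm {x : G} (hx : x ∈ H.T) (h : H.perm ⟨x, hx.1⟩ = 1) : x ∈ H.A :=
  H.mem_A.mpr ⟨H.mem_Q_of_perm hx.1 h, (H.mem_T.mp hx).2⟩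

theorem perm_A {x : G} (hx : x ∈ H.A) : H.perm ⟨x, (H.A_le_T hx).1⟩ = 1 :=
  H.perm_Q (H.mem_A.mp hx).1

theorem perm_mul {x y : G} (hx : x ∈ H.Cz) (hy : y ∈ H.Cz) :
    H.perm ⟨x * y, mul_mem hx hy⟩ = H.perm ⟨x, hx⟩ * H.perm ⟨y, hy⟩ :=
  map_mul H.perm ⟨x, hx⟩ ⟨y, hy⟩

theorem exists_lift_T {σ : Equiv.Perm (Fin 5)} (hs : σ * s0 = s0 * σ)
    (h1 : Equiv.Perm.sign σ = 1) : ∃ x, ∃ hx : x ∈ H.T, H.perm ⟨x, hx.1⟩ = σ := by
  obtain ⟨c, hc, rfl⟩ := H.exists_lift h1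
  have hmem : c * H.t * c⁻¹ ∈ H.Cz := mul_mem (mul_mem hc H.tC) (inv_mem hc)
  obtain ⟨q, hq, hqt⟩ := H.exists_Q_conj hmem
    (by rw [H.perm_conj hc H.tC hmem, H.perm_t, hs, mul_inv_cancel_right])
    (by rw [show c * H.t * c⁻¹ * (c * H.t * c⁻¹) = c * (H.t * H.t) * c⁻¹ by group, H.tt]; group)
  have hqC : q⁻¹ ∈ H.Cz := H.mem_Cz.mpr (H.le _ (inv_mem hq))
  refine ⟨q⁻¹ * c, H.mem_T.mpr ⟨H.mem_Cz.mp (mul_mem hqC hc), ?_⟩, ?_⟩
  · show q⁻¹ * c * H.t = H.t * (q⁻¹ * c)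
    calc q⁻¹ * c * H.t = q⁻¹ * (c * H.t * c⁻¹) * c := by group
      _ = q⁻¹ * (q * H.t * q⁻¹) * c := by rw [hqt]
      _ = _ := by group
  · rw [H.perm_mul hqC hc, H.perm_Q (inv_mem hq), one_mul]

theorem pattern_v : ∀ e : Fin 5 → Bool,
    xor (xor (xor (xor (e 0) (e 1)) (e 2)) (e 3)) (e 4) = false →
    xor (e (s0 0)) (e 0) = xor (e (s0 2)) (e 2) → e 4 = false := by decide

theorem pattern_pair : ∀ τ : Equiv.Perm (Fin 5), τ = s1 ∨ τ = s0 * s1 → ∀ w : Fin 5 → Bool,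
    (∀ i, w (s0 i) = w i) → (∀ i, w (τ i) = w i) → w 0 = w 2 := by
  rintro τ (rfl | rfl) <;> decide

theorem T_v {x : G} (hx : x ∈ H.T) : Commute x H.v := by
  rcases (comm_s0 _ (H.perm_T hx) (H.sign_perm _)).2.2 with h | h | h
  · obtain h' | h' | h' | h' := H.A_cases (H.mem_A_of_perm hx h) <;> rw [h']
    · exact Commute.one_left _
    · exact H.vz.symm
    · exact (Commute.refl _).mul_left H.vz.symm
  · have hxt : x * H.t ∈ H.A := by
      refine H.mem_A_of_perm (mul_mem hx H.tT) ?_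
      rw [H.perm_mul hx.1 H.tC, h, H.perm_t]; decide
    have hc : Commute (x * H.t) H.v := by
      obtain h' | h' | h' | h' := H.A_cases hxt <;> rw [h']
      · exact Commute.one_left _
      · exact H.vz.symm
      · exact (Commute.refl _).mul_left H.vz.symm
    have := hc.mul_left H.tv
    rwa [mul_assoc, H.tt, mul_one] at this
  · set τ := H.perm ⟨x, hx.1⟩ with hτ
    have hτ2 : τ * τ = 1 ∧ τ ≠ 1 ∧ τ 4 = 4 ∧ Equiv.Perm.sign τ = 1 ∧
        (τ = s1 ∨ τ = s0 * s1) := by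
      refine ⟨(comm_s0 _ (H.perm_T hx) (H.sign_perm _)).2.1, ?_,
        (comm_s0 _ (H.perm_T hx) (H.sign_perm _)).1, H.sign_perm _, h⟩
      rcases h with h | h <;> rw [h] <;> decide
    obtain ⟨ρ, hρ, hρ4, hρτ⟩ := exists_conj_s0_fix τ hτ2.1 hτ2.2.1 hτ2.2.2.2.1 hτ2.2.2.1
    obtain ⟨r, hr, hrp⟩ := H.exists_lift (σ := ρ⁻¹) (by rw [map_inv, hρ, inv_one])
    set c' := r * H.t * r⁻¹ with hc'
    have hc'C : c' ∈ H.Cz := mul_mem (mul_mem hr H.tC) (inv_mem hr)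
    have hc'p : H.perm ⟨c', hc'C⟩ = τ := by
      rw [H.perm_conj hr H.tC hc'C, hrp, H.perm_t, ← hρτ]; group
    have hc'2 : c' * c' = 1 := by
      rw [hc', show r * H.t * r⁻¹ * (r * H.t * r⁻¹) = r * (H.t * H.t) * r⁻¹ by group, H.tt]
      group
    have hc'inv : c'⁻¹ = c' := inv_eq_of_mul_eq_one_right hc'2
    have hc'v : Commute c' H.v := by
      obtain ⟨b, hb⟩ := H.perm_spec ⟨r, hr⟩ 4
      have h4 : ρ⁻¹ 4 = 4 := by
        conv_lhs => rw [← hρ4]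
        exact ρ.symm_apply_apply 4
      rw [hrp, h4] at hb
      have h1 : Commute c' (r * H.v * r⁻¹) := (Commute.conj_iff r).mpr H.tv
      rw [show r * H.v * r⁻¹ = H.v * H.zb b from hb] at h1
      have h2 := h1.mul_right (H.zb_comm (H.mem_Cz.mp hc'C) b)
      rwa [mul_assoc, H.zb_mul, Bool.xor_self, H.zb_false, mul_one] at h2
    set q := x * c' with hq
    have hqQ : q ∈ H.Q := by
      refine H.mem_Q_of_perm (mul_mem hx.1 hc'C) ?_
      rw [H.perm_mul hx.1 hc'C, hc'p]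
      exact hτ2.1
    set w := H.t * c' * H.t * c' with hw
    have hwQ : w ∈ H.Q := by
      have hm := mul_mem (mul_mem (mul_mem H.tC hc'C) H.tC) hc'C
      refine H.mem_Q_of_perm hm ?_
      rw [show (⟨w, hm⟩ : ↥H.Cz) = ⟨H.t, H.tC⟩ * ⟨c', hc'C⟩ * ⟨H.t, H.tC⟩ * ⟨c', hc'C⟩ from rfl,
        map_mul, map_mul, map_mul, H.perm_t, hc'p, mul_assoc s0, mul_assoc s0, mul_assoc τ,
        ← mul_assoc τ s0, show τ * s0 = s0 * τ from H.perm_T hx, mul_assoc s0 τ, hτ2.1, mul_one]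
      decide
    have hwinv : w⁻¹ = c' * H.t * c' * H.t := by
      rw [hw]; simp only [mul_inv_rev, H.t_inv, hc'inv, mul_assoc]
    have hwt : ∀ i, H.sig w (s0 i) = H.sig w i := H.fixed_of_commute hwQ (Or.inr (by
      rw [hwinv, hw, show H.t * (H.t * c' * H.t * c') * H.t = (H.t * H.t) * c' * H.t * c' * H.t by
        group, H.tt, one_mul]))
    have hwτ : ∀ i, H.sig w (τ i) = H.sig w i := by
      intro i
      have h1 := H.sig_conj hc'C hwQ i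
      rw [hc'p, show c' * w * c'⁻¹ = w⁻¹ by
        rw [hwinv, hw, show c' * (H.t * c' * H.t * c') * c'⁻¹ = c' * H.t * c' * H.t by group],
        H.sig_inv hwQ] at h1
      exact h1
    have e : (H.t * q * H.t)⁻¹ * q = w := by
      have hcomm : H.t * x * H.t = x := by
        rw [← (H.mem_T.mp hx).2.eq, mul_assoc, H.tt, mul_one]
      calc (H.t * q * H.t)⁻¹ * q = H.t⁻¹ * c'⁻¹ * x⁻¹ * (H.t⁻¹ * x) * c' := by rw [hq]; group
        _ = H.t * c' * x⁻¹ * (H.t * x * H.t) * H.t * c' := by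
            rw [H.t_inv, hc'inv, ← mul_assoc (H.t * c' * x⁻¹) (H.t * x) H.t,
              mul_assoc _ H.t H.t, H.tt, mul_one]
        _ = w := by rw [hcomm, hw]; group
    have hsig : ∀ i, xor (H.sig q (s0 i)) (H.sig q i) = H.sig w i := by
      intro i
      rw [← e, H.sig_mul (inv_mem (H.tQt hqQ)) hqQ, H.sig_inv (H.tQt hqQ)]
      have h1 := H.sig_t_conj hqQ (s0 i)
      rw [show s0 (s0 i) = i by clear h1; revert i; decide] at h1
      show _ = xor (H.sig (H.t * q * H.t) i) (H.sig q i)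
      rw [h1]
    have h4 : H.sig q 4 = false := pattern_v _ (H.sig_parity hqQ)
      (by rw [hsig, hsig]; exact pattern_pair τ hτ2.2.2.2.2 _ hwt hwτ)
    have := (Pre.nc_false_iff.mp h4).mul_left hc'v
    rwa [hq, mul_assoc, hc'2, mul_one] at this

theorem A_central {a x : G} (ha : a ∈ H.A) (hx : x ∈ H.T) : Commute x a := by
  rcases H.A_cases ha with rfl | rfl | rfl | rfl
  · exact Commute.one_right _
  · exact (H.mem_T.mp hx).1
  · exact H.T_v hx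
  · exact (H.T_v hx).mul_right (H.mem_T.mp hx).1

theorem exists_j : ∃ x, ∃ hx : x ∈ H.T, H.perm ⟨x, hx.1⟩ = s1 :=
  H.exists_lift_T (by decide) (by decide)

/-- An element of `T` over the second double transposition. -/
noncomputable def j : G := H.exists_j.choose

theorem jT : H.j ∈ H.T := H.exists_j.choose_spec.choose

theorem perm_j : H.perm ⟨H.j, H.jT.1⟩ = s1 := H.exists_j.choose_spec.choose_spec

theorem T_cases {x : G} (hx : x ∈ H.T) :
    ∃ a ∈ H.A, x = a ∨ x = a * H.t ∨ x = a * H.j ∨ x = a * (H.t * H.j) := by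
  have key : ∀ y (hy : y ∈ H.T), H.perm ⟨x, hx.1⟩ = H.perm ⟨y, hy.1⟩ →
      ∃ a ∈ H.A, x = a * y := by
    intro y hy h
    refine ⟨x * y⁻¹, H.mem_A_of_perm (mul_mem hx (inv_mem hy)) ?_, by group⟩
    rw [H.perm_mul hx.1 (inv_mem hy.1), h, show (⟨y⁻¹, inv_mem hy.1⟩ : ↥H.Cz) = ⟨y, hy.1⟩⁻¹ from
      rfl, map_inv, mul_inv_cancel]
  rcases (comm_s0 _ (H.perm_T hx) (H.sign_perm _)).2.2 with h | h | h | h
  · exact ⟨x, H.mem_A_of_perm hx h, Or.inl rfl⟩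
  · obtain ⟨a, ha, e⟩ := key H.t H.tT (by rw [h, H.perm_t])
    exact ⟨a, ha, Or.inr (Or.inl e)⟩
  · obtain ⟨a, ha, e⟩ := key H.j H.jT (by rw [h, H.perm_j])
    exact ⟨a, ha, Or.inr (Or.inr (Or.inl e))⟩
  · obtain ⟨a, ha, e⟩ := key (H.t * H.j) (mul_mem H.tT H.jT)
      (by rw [h, H.perm_mul H.tC H.jT.1, H.perm_t, H.perm_j])
    exact ⟨a, ha, Or.inr (Or.inr (Or.inr e))⟩

theorem T_comm {x y : G} (hx : x ∈ H.T) (hy : y ∈ H.T) : Commute x y := by
  have hj : ∀ w ∈ H.T, Commute w H.j := by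
    intro w hw
    obtain ⟨a, ha, rfl | rfl | rfl | rfl⟩ := H.T_cases hw
    · exact (H.A_central ha H.jT).symm
    · exact (H.A_central ha H.jT).symm.mul_left (H.mem_T.mp H.jT).2.symm
    · exact (H.A_central ha H.jT).symm.mul_left (Commute.refl _)
    · exact (H.A_central ha H.jT).symm.mul_left
        ((H.mem_T.mp H.jT).2.symm.mul_left (Commute.refl _))
  obtain ⟨a, ha, rfl | rfl | rfl | rfl⟩ := H.T_cases hy
  · exact H.A_central ha hx
  · exact (H.A_central ha hx).mul_right (H.mem_T.mp hx).2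
  · exact (H.A_central ha hx).mul_right (hj x hx)
  · exact (H.A_central ha hx).mul_right ((H.mem_T.mp hx).2.mul_right (hj x hx))

theorem card_T : Nat.card H.T = 16 := by
  set f : ↥H.T →* Equiv.Perm (Fin 5) :=
    H.perm.comp (Subgroup.inclusion (show H.T ≤ H.Cz from fun x hx => hx.1)) with hf
  have hker : f.ker = H.A.subgroupOf H.T := by
    ext ⟨x, hx⟩
    rw [MonoidHom.mem_ker, Subgroup.mem_subgroupOf]
    exact ⟨H.mem_A_of_perm hx, H.perm_A⟩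
  have hrange : Nat.card f.range = 4 := by
    rw [← card_comm_s0]
    refine Nat.card_congr (Equiv.subtypeEquivRight fun σ => ⟨?_, ?_⟩)
    · rintro ⟨⟨x, hx⟩, rfl⟩
      exact ⟨H.perm_T hx, H.sign_perm _⟩
    · rintro ⟨h1, h2⟩
      obtain ⟨x, hx, h⟩ := H.exists_lift_T h1 h2
      exact ⟨⟨x, hx⟩, h⟩
  rw [← Subgroup.card_mul_index f.ker, Subgroup.index_ker, hrange, hker,
    Nat.card_congr (Subgroup.subgroupOfEquivOfLe H.A_le_T).toEquiv, H.card_A]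

/-- An element of `C(t)` interchanging `z` and `v z^b` modulo `z`. -/
theorem exists_kappa (b : Bool) : ∃ κ, Commute κ H.t ∧
    κ * (H.v * H.zb b) * κ⁻¹ = H.z ∧ ∃ b', κ * H.z * κ⁻¹ = H.v * H.zb b' := by
  set w := H.v * H.zb b with hw
  obtain ⟨g, hg⟩ := isConj_iff.mp (H.zc_u 4 b)
  change g * H.z * g⁻¹ = w at hg
  have hwz : Commute w H.z := H.le _ (mul_mem H.vQ (H.zb_mem b))
  have hwne : w ≠ H.z := by
    intro e
    cases b
    · exact H.v_ne_z (by simpa [hw] using e)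
    · exact H.vz_ne_z (by simpa [hw] using e)
  obtain ⟨c, hcz, hcw⟩ : ∃ c, Commute c H.z ∧ g * c * w * (g * c)⁻¹ = H.z := by
    set z' := g⁻¹ * H.z * g with hz'
    have hz'c : IsConj H.z z' := isConj_iff.mpr ⟨g⁻¹, by rw [hz']; group⟩
    have hz'z : Commute z' H.z := by
      refine (Commute.conj_iff g).mp ?_
      rw [hg, hz', show g * (g⁻¹ * H.z * g) * g⁻¹ = H.z by group]
      exact hwz.symm
    rcases H.zc_cases hz'c hz'z with h | ⟨i, b', h⟩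
    · exfalso
      refine hwne ?_
      rw [hz'] at h
      calc w = g * H.z * g⁻¹ := hg.symm
        _ = g * (g⁻¹ * H.z * g) * g⁻¹ := by rw [h]
        _ = H.z := by group
    obtain ⟨σ, hσ, hσi⟩ : ∃ σ : Equiv.Perm (Fin 5), Equiv.Perm.sign σ = 1 ∧ σ 4 = i := by
      clear h; revert i; decide +kernel
    obtain ⟨r, hr, hrp⟩ := H.exists_lift hσ
    obtain ⟨b'', hb''⟩ := H.perm_spec ⟨r, hr⟩ 4
    rw [hrp, hσi] at hb''
    -- adjust the sign by an element of `Q`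
    obtain ⟨s, hs, hsi⟩ : ∃ s ∈ H.Q, s * H.u i * s⁻¹ = H.u i * H.zb (xor (xor b'' b) b') := by
      by_cases he : xor (xor b'' b) b' = false
      · exact ⟨1, one_mem _, by rw [he]; simp⟩
      · refine ⟨H.u (i + 1), H.uQ _, ?_⟩
        rw [Bool.not_eq_false] at he
        have hnc : Pre.nc (H.u (i + 1)) (H.u i) = true := by
          rw [← Bool.not_eq_false, Pre.nc_false_iff]; exact H.u_not_commute (by simp)
        rw [he, H.mul_eq_nc (H.uQ _) (H.uQ _), hnc, mul_assoc (H.u i * _),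
          H.zQ (inv_mem (H.uQ _))]
        group
    refine ⟨s * r, (H.le _ hs).mul_left (H.mem_Cz.mp hr), ?_⟩
    have hrw : r * w * r⁻¹ = H.u i * H.zb (xor b'' b) := by
      rw [hw, show r * (H.v * H.zb b) * r⁻¹ = (r * H.v * r⁻¹) * (r * H.zb b * r⁻¹) by group,
        (H.zb_comm (H.mem_Cz.mp hr) b).eq, mul_inv_cancel_right,
        show r * H.v * r⁻¹ = _ from hb'', mul_assoc, H.zb_mul]
    calc g * (s * r) * w * (g * (s * r))⁻¹
        = g * ((s * H.u i * s⁻¹) * (s * H.zb (xor b'' b) * s⁻¹)) * g⁻¹ := by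
          rw [show g * (s * r) * w * (g * (s * r))⁻¹ = g * (s * (r * w * r⁻¹) * s⁻¹) * g⁻¹ by
            group, hrw]
          group
      _ = g * z' * g⁻¹ := by
          rw [hsi, (H.zb_comm (H.le _ hs) _).eq, mul_inv_cancel_right, mul_assoc (H.u i),
            H.zb_mul, h]
          congr 4
          cases b'' <;> cases b <;> cases b' <;> rfl
      _ = H.z := by rw [hz']; group
  set g1 := g * c with hg1
  have hgz : g1 * H.z * g1⁻¹ = w := by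
    rw [hg1, show g * c * H.z * (g * c)⁻¹ = g * (c * H.z * c⁻¹) * g⁻¹ by group, hcz.eq,
      mul_inv_cancel_right, hg]
  set y := g1 * H.t * g1⁻¹ with hy
  have hyw : Commute y w := hgz ▸ (Commute.conj_iff g1).mpr H.tz
  have hyz : Commute y H.z := hcw ▸ (Commute.conj_iff g1).mpr (H.tv.mul_right (H.zb_comm H.tz b))
  have hyv : Commute y H.v := by
    have := hyw.mul_right (H.zb_comm hyz b)
    rwa [hw, mul_assoc, H.zb_mul, Bool.xor_self, H.zb_false, mul_one] at this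
  have hy2 : y * y = 1 := by
    rw [hy, show g1 * H.t * g1⁻¹ * (g1 * H.t * g1⁻¹) = g1 * (H.t * H.t) * g1⁻¹ by group, H.tt]
    group
  have hyQ : y ∉ H.Q := by
    intro hmem
    refine H.t_nzc ((H.zc_of_mem hmem ?_).trans (isConj_iff.mpr ⟨g1⁻¹, by rw [hy]; group⟩))
    rw [hy, ← H.ht]
    exact orderOf_injective (MulAut.conj g1).toMonoidHom (MulAut.conj g1).injective _
  have hyC : y ∈ H.Cz := H.mem_Cz.mpr hyz
  have hy4 : H.perm ⟨y, hyC⟩ 4 = 4 := by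
    refine H.perm_eq (b := false) ?_
    show y * H.v * y⁻¹ = H.v * H.zb false
    rw [hyv.eq, mul_inv_cancel_right, H.zb_false, mul_one]
  obtain ⟨ρ, hρ, hρ4, hρy⟩ := exists_conj_s0_fix _ (H.perm_sq hyC hy2)
    (fun h => hyQ (H.mem_Q_of_perm hyC h)) (H.sign_perm _) hy4
  obtain ⟨r, hr, rfl⟩ := H.exists_lift hρ
  have hm : r * y * r⁻¹ ∈ H.Cz := mul_mem (mul_mem hr hyC) (inv_mem hr)
  obtain ⟨q, hq, hqt⟩ := H.exists_Q_conj hm ((H.perm_conj hr hyC hm).trans hρy)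
    (by rw [show r * y * r⁻¹ * (r * y * r⁻¹) = r * (y * y) * r⁻¹ by group, hy2]; group)
  have hdC : q⁻¹ * r ∈ H.Cz := mul_mem (H.mem_Cz.mpr (H.le _ (inv_mem hq))) hr
  have hdz := H.mem_Cz.mp hdC
  obtain ⟨bd, hbd⟩ := H.perm_spec ⟨q⁻¹ * r, hdC⟩ 4
  rw [H.perm_mul (H.mem_Cz.mpr (H.le _ (inv_mem hq))) hr, H.perm_Q (inv_mem hq), one_mul,
    hρ4] at hbd
  refine ⟨q⁻¹ * r * g1, ?_, ?_, xor bd b, ?_⟩
  · show q⁻¹ * r * g1 * H.t = H.t * (q⁻¹ * r * g1)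
    calc q⁻¹ * r * g1 * H.t = q⁻¹ * (r * (g1 * H.t * g1⁻¹) * r⁻¹) * r * g1 := by group
      _ = q⁻¹ * (q * H.t * q⁻¹) * r * g1 := by rw [← hy, hqt]
      _ = _ := by group
  · rw [show q⁻¹ * r * g1 * w * (q⁻¹ * r * g1)⁻¹ = (q⁻¹ * r) * (g1 * w * g1⁻¹) * (q⁻¹ * r)⁻¹ by
      group, hcw, hdz.eq, mul_inv_cancel_right]
  · rw [show q⁻¹ * r * g1 * H.z * (q⁻¹ * r * g1)⁻¹ = (q⁻¹ * r) * (g1 * H.z * g1⁻¹) * (q⁻¹ * r)⁻¹ by
      group, hgz, hw, show (q⁻¹ * r) * (H.v * H.zb b) * (q⁻¹ * r)⁻¹ =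
        ((q⁻¹ * r) * H.v * (q⁻¹ * r)⁻¹) * ((q⁻¹ * r) * H.zb b * (q⁻¹ * r)⁻¹) by group,
      (H.zb_comm hdz b).eq, mul_inv_cancel_right,
      show (q⁻¹ * r) * H.v * (q⁻¹ * r)⁻¹ = _ from hbd, mul_assoc, H.zb_mul]
    rfl

/-- An element of order 3 of `C(t)` cycling the involutions of `A`. -/
theorem exists_k : ∃ k, Commute k H.t ∧ k ^ 3 = 1 ∧ ∃ b,
    k * H.z * k⁻¹ = H.v * H.zb b ∧ k * (H.v * H.zb b) * k⁻¹ = H.v * H.zb (!b) ∧
      k * (H.v * H.zb (!b)) * k⁻¹ = H.z := by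
  obtain ⟨κ, hκt, b, hb1, hb2, hb3⟩ : ∃ κ, Commute κ H.t ∧ ∃ b,
      κ * H.z * κ⁻¹ = H.v * H.zb b ∧ κ * (H.v * H.zb b) * κ⁻¹ = H.v * H.zb (!b) ∧
        κ * (H.v * H.zb (!b)) * κ⁻¹ = H.z := by
    have hprod : ∀ b, H.v * H.zb (!b) = H.v * H.zb b * H.z := fun b => by
      rw [mul_assoc]; congr 1; cases b <;> simp [H.zz]
    -- an element which exchanges `z` and `v z^b` fixes the third one
    have third : ∀ κ b b', κ * (H.v * H.zb b) * κ⁻¹ = H.z → κ * H.z * κ⁻¹ = H.v * H.zb b' →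
        κ * (H.v * H.zb (!b)) * κ⁻¹ = H.v * H.zb (!b') := by
      intro κ b b' h1 h2
      rw [hprod, show κ * (H.v * H.zb b * H.z) * κ⁻¹ =
        (κ * (H.v * H.zb b) * κ⁻¹) * (κ * H.z * κ⁻¹) by group, h1, h2, hprod,
        (H.le _ (mul_mem H.vQ (H.zb_mem b'))).eq]
    obtain ⟨κ0, ht0, h01, b0, h02⟩ := H.exists_kappa false
    obtain ⟨κ1, ht1, h11, b1, h12⟩ := H.exists_kappa true
    cases b0
    · cases b1
      · exact ⟨κ1, ht1, false, h12, by have := third κ1 true false h11 h12; simpa using this,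
          by simpa using h11⟩
      · refine ⟨κ1 * κ0, ht1.mul_left ht0, false, ?_, ?_, ?_⟩
        · rw [show κ1 * κ0 * H.z * (κ1 * κ0)⁻¹ = κ1 * (κ0 * H.z * κ0⁻¹) * κ1⁻¹ by group, h02]
          simpa using third κ1 true true h11 h12
        · rw [show κ1 * κ0 * (H.v * H.zb false) * (κ1 * κ0)⁻¹ =
            κ1 * (κ0 * (H.v * H.zb false) * κ0⁻¹) * κ1⁻¹ by group, h01]
          simpa using h12
        · rw [show κ1 * κ0 * (H.v * H.zb (!false)) * (κ1 * κ0)⁻¹ =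
            κ1 * (κ0 * (H.v * H.zb (!false)) * κ0⁻¹) * κ1⁻¹ by group, third κ0 false false h01 h02]
          simpa using h11
    · exact ⟨κ0, ht0, true, h02, by have := third κ0 false true h01 h02; simpa using this,
        by simpa using h01⟩
  have h3 : Commute (κ ^ 3) H.z := by
    show κ ^ 3 * H.z = H.z * κ ^ 3
    calc κ ^ 3 * H.z = κ * (κ * (κ * H.z * κ⁻¹) * κ⁻¹) * κ⁻¹ * κ ^ 3 := by
          simp only [pow_succ, pow_zero, one_mul]; group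
      _ = _ := by rw [hb1, hb2, hb3]
  have h3T : κ ^ 3 ∈ H.T := H.mem_T.mpr ⟨h3, hκt.pow_left 3⟩
  have h16 : (κ ^ 3) ^ 16 = 1 := by
    have h : (⟨κ ^ 3, h3T⟩ : ↥H.T) ^ Nat.card H.T = 1 := pow_card_eq_one'
    rw [H.card_T] at h
    simpa using congrArg Subtype.val h
  refine ⟨κ ^ 16, hκt.pow_left _, by rw [← pow_mul, ← h16, ← pow_mul], b, ?_⟩
  have hfix : ∀ a ∈ H.A, κ ^ 16 * a * (κ ^ 16)⁻¹ = κ * a * κ⁻¹ := by
    intro a ha
    rw [show κ ^ 16 = κ * (κ ^ 3) ^ 5 by group,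
      show κ * (κ ^ 3) ^ 5 * a * (κ * (κ ^ 3) ^ 5)⁻¹ =
        κ * ((κ ^ 3) ^ 5 * a * ((κ ^ 3) ^ 5)⁻¹) * κ⁻¹ by group,
      ((H.A_central ha h3T).pow_left 5).eq, mul_inv_cancel_right]
  have hm : ∀ c, H.v * H.zb c ∈ H.A := fun c => mul_mem H.vA (by
    cases c
    · simp
    · simpa using H.zA)
  exact ⟨(hfix _ H.zA).trans hb1, (hfix _ (hm b)).trans hb2, (hfix _ (hm _)).trans hb3⟩

end Cfsg.Agent.Lib.JankoTwoType.Hyp
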