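import Cfsg.Agent.Lib.JankoTwoType.Centralizer
import Cfsg.Agent.Lib.Involution.Basic

/-!
Groups of Hall–Janko type: the subgroup `M` of index 4 in `C(t)`.
-/

set_option autoImplicit false
set_option linter.unusedSectionVars false
set_option linter.style.haveILetI false

namespace Cfsg.Agent.Lib.JankoTwoType.Hyp

variable {G : Type*} [Group G] [Finite G] (H : Hyp G)

/-- The transfer to `B0`. -/
noncomputable def phi : ↥H.Ct →* ↥H.B0 := H.exists_transfer.choose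

theorem phi_T {x : G} (hx : x ∈ H.T) : (H.phi ⟨x, H.T_le_Ct hx⟩ : G) = H.pr x :=
  H.exists_transfer.choose_spec x hx

/-- The kernel of the transfer. -/
noncomputable def M : Subgroup G := H.phi.ker.map H.Ct.subtype

theorem mem_M {x : G} : x ∈ H.M ↔ ∃ h : x ∈ H.Ct, H.phi ⟨x, h⟩ = 1 := by
  constructor
  · rintro ⟨⟨y, hy⟩, h, rfl⟩; exact ⟨hy, h⟩
  · rintro ⟨h, h'⟩; exact ⟨⟨x, h⟩, h', rfl⟩

theorem M_le_Ct : H.M ≤ H.Ct := fun _ hx => (H.mem_M.mp hx).1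

theorem M_conj {c x : G} (hc : c ∈ H.Ct) (hx : x ∈ H.M) : c * x * c⁻¹ ∈ H.M := by
  obtain ⟨h, h'⟩ := H.mem_M.mp hx
  refine H.mem_M.mpr ⟨mul_mem (mul_mem hc h) (inv_mem hc), ?_⟩
  rw [show (⟨c * x * c⁻¹, mul_mem (mul_mem hc h) (inv_mem hc)⟩ : ↥H.Ct) =
    ⟨c, hc⟩ * ⟨x, h⟩ * ⟨c, hc⟩⁻¹ from rfl, map_mul, map_mul, h', mul_one, map_inv, mul_inv_cancel]

theorem mem_M_T {x : G} (hx : x ∈ H.T) : x ∈ H.M ↔ x ∈ H.A := by
  rw [H.mem_M, ← H.pr_eq_one hx, ← H.phi_T hx]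
  exact ⟨fun ⟨_, h⟩ => by rw [h]; rfl, fun h => ⟨H.T_le_Ct hx, Subtype.ext h⟩⟩

theorem A_le_M : H.A ≤ H.M := fun _ ha => (H.mem_M_T (H.A_le_T ha)).mpr ha

theorem kM : H.k ∈ H.M := by
  refine H.mem_M.mpr ⟨H.mem_Ct.mpr H.kt, Subtype.ext ?_⟩
  set b := H.phi ⟨H.k, H.mem_Ct.mpr H.kt⟩ with hb
  have h3 : b ^ 3 = 1 := by
    rw [hb, ← map_pow, show (⟨H.k, H.mem_Ct.mpr H.kt⟩ : ↥H.Ct) ^ 3 = 1 from Subtype.ext H.k3,
      map_one]
  have h3' : (b : G) ^ 3 = 1 := by simpa using congrArg Subtype.val h3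
  rw [pow_succ, pow_two, H.T_sq (H.B0_le_T b.2), one_mul] at h3'
  simpa using h3'

theorem B0_le_Ct : H.B0 ≤ H.Ct := fun _ hx => H.T_le_Ct (H.B0_le_T hx)

theorem phi_B0 {b : G} (hb : b ∈ H.B0) : H.phi ⟨b, H.B0_le_Ct hb⟩ = ⟨b, hb⟩ :=
  Subtype.ext ((H.phi_T (H.B0_le_T hb)).trans (H.pr_B0 hb))

theorem exists_decomp {c : G} (hc : c ∈ H.Ct) :
    c * (H.phi ⟨c, hc⟩ : G)⁻¹ ∈ H.M := by
  set b := H.phi ⟨c, hc⟩ with hb
  have hbC : (b : G) ∈ H.Ct := H.B0_le_Ct b.2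
  refine H.mem_M.mpr ⟨mul_mem hc (inv_mem hbC), ?_⟩
  rw [show (⟨c * (b : G)⁻¹, mul_mem hc (inv_mem hbC)⟩ : ↥H.Ct) = ⟨c, hc⟩ * ⟨b, hbC⟩⁻¹ from rfl,
    map_mul, map_inv, H.phi_B0 b.2, ← hb, Subtype.coe_eta, mul_inv_cancel]

theorem card_Ct : Nat.card H.Ct = 4 * Nat.card H.M := by
  have hsurj : H.phi.range = ⊤ := MonoidHom.range_eq_top.mpr fun b =>
    ⟨⟨b, H.B0_le_Ct b.2⟩, H.phi_B0 b.2⟩
  rw [← Subgroup.card_mul_index H.phi.ker, Subgroup.index_ker, hsurj, Subgroup.card_top, H.card_B0,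
    mul_comm, M, Subgroup.card_map_of_injective H.Ct.subtype_injective]

theorem conj_into_T {x : G} (hx : x ∈ H.Ct) (h2 : x * x = 1) : ∃ c ∈ H.Ct, c * x * c⁻¹ ∈ H.T := by
  haveI : Fact (Nat.Prime 2) := ⟨Nat.prime_two⟩
  obtain ⟨S, hS⟩ := H.exists_sylow_T
  obtain ⟨S1, hS1⟩ : ∃ S1 : Sylow 2 ↥H.Ct,
      Subgroup.zpowers (⟨x, hx⟩ : ↥H.Ct) ≤ (S1 : Subgroup ↥H.Ct) := by
    refine IsPGroup.exists_le_sylow fun ⟨y, hy⟩ => ⟨1, Subtype.ext ?_⟩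
    obtain ⟨i, rfl⟩ := hy
    show ((⟨x, hx⟩ : ↥H.Ct) ^ i) ^ 2 ^ 1 = 1
    rw [pow_one, ← zpow_natCast, ← zpow_mul, mul_comm, zpow_mul, zpow_natCast,
      show (⟨x, hx⟩ : ↥H.Ct) ^ 2 = 1 from Subtype.ext (by simpa [pow_two] using h2), one_zpow]
  obtain ⟨g, hg⟩ := MulAction.exists_smul_eq ↥H.Ct S1 S
  refine ⟨g, g.2, ?_⟩
  have : g * ⟨x, hx⟩ * g⁻¹ ∈ (S : Subgroup ↥H.Ct) := by
    rw [← hg, Sylow.coe_subgroup_smul]
    exact ⟨_, hS1 (Subgroup.mem_zpowers _), rfl⟩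
  rw [hS] at this
  exact this

theorem zM : H.z ∈ H.M := H.A_le_M H.zA

/-- The conjugates of `z` in `C(t)` are those of `z` under `M`. -/
theorem zc_M {x : G} (hc : IsConj H.z x) (hx : Commute x H.t) :
    ∃ m ∈ H.M, m * H.z * m⁻¹ = x := by
  have hxC := H.mem_Ct.mpr hx
  obtain ⟨c, hcC, hcT⟩ := H.conj_into_T hxC
    (by rw [← pow_two, ← H.zc_order hc, pow_orderOf_eq_one])
  have hc' : IsConj H.z (c * x * c⁻¹) := hc.trans (isConj_iff.mpr ⟨c, rfl⟩)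
  obtain ⟨hTz, hTt⟩ := H.mem_T.mp hcT
  have hA : c * x * c⁻¹ ∈ H.A := H.mem_A.mpr ⟨H.mem_Q_of_zc hc' hTz, hTt⟩
  obtain ⟨i, hi⟩ : ∃ i ∈ H.Ct, i * H.z * i⁻¹ = c * x * c⁻¹ := by
    have hk := H.mem_Ct.mpr H.kt
    rcases H.A_cases' hA with e | e | e | e
    · exact absurd (H.zc_order hc') (by rw [e, orderOf_one]; norm_num)
    · exact ⟨1, one_mem _, by rw [e]; simp⟩
    · exact ⟨H.k, hk, by rw [e, kk_apply]⟩
    · exact ⟨H.k * H.k, mul_mem hk hk, by rw [e, kk_apply, kk_apply]; group⟩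
  set d := c⁻¹ * i with hd
  have hdC : d ∈ H.Ct := mul_mem (inv_mem hcC) hi.1
  refine ⟨_, H.exists_decomp hdC, ?_⟩
  have hb := (H.mem_T.mp (H.B0_le_T (H.phi ⟨d, hdC⟩).2)).1.inv_left
  rw [mul_inv_rev, inv_inv, show d * (H.phi ⟨d, hdC⟩ : G)⁻¹ * H.z * ((H.phi ⟨d, hdC⟩ : G) * d⁻¹) =
    d * ((H.phi ⟨d, hdC⟩ : G)⁻¹ * H.z * (H.phi ⟨d, hdC⟩ : G)) * d⁻¹ by group, hb.eq,
    inv_mul_cancel_right, hd,
    show c⁻¹ * i * H.z * (c⁻¹ * i)⁻¹ = c⁻¹ * (i * H.z * i⁻¹) * c by group, hi.2]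
  group

theorem zc_mem_M {x : G} (hc : IsConj H.z x) (hx : Commute x H.t) : x ∈ H.M := by
  obtain ⟨m, hm, rfl⟩ := H.zc_M hc hx
  exact mul_mem (mul_mem hm H.zM) (inv_mem hm)

theorem inv_M {x : G} (hx : x ∈ H.M) (h2 : orderOf x = 2) : IsConj H.z x := by
  obtain ⟨c, hcC, hcT⟩ := H.conj_into_T (H.M_le_Ct hx)
    (by rw [← pow_two, ← h2, pow_orderOf_eq_one])
  have hA := (H.mem_M_T hcT).mp (H.M_conj hcC hx)
  have ho : orderOf (c * x * c⁻¹) = 2 := by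
    rw [← h2]; exact orderOf_injective (MulAut.conj c).toMonoidHom (MulAut.conj c).injective x
  exact (H.zc_of_mem (H.mem_A.mp hA).1 ho).trans (isConj_iff.mpr ⟨c⁻¹, by group⟩)

theorem cent_M_z {x : G} (hx : x ∈ H.M) (h : Commute x H.z) : x ∈ H.A :=
  (H.mem_M_T (H.mem_T.mpr ⟨h, H.mem_Ct.mp (H.M_le_Ct hx)⟩)).mp hx

/-- The centralisers of involutions of `M` are elementary abelian. -/
theorem cent_M_inv {w x y : G} (hw : w ∈ H.M) (hw2 : orderOf w = 2) (hx : x ∈ H.M) (hy : y ∈ H.M)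
    (hxw : Commute x w) (hyw : Commute y w) : Commute x y ∧ x * x = 1 := by
  obtain ⟨m, hm, rfl⟩ := H.zc_M (H.inv_M hw hw2) (H.mem_Ct.mp (H.M_le_Ct hw))
  have key : ∀ v ∈ H.M, Commute v (m * H.z * m⁻¹) → m⁻¹ * v * m ∈ H.A := by
    intro v hv hvw
    refine H.cent_M_z (mul_mem (mul_mem (inv_mem hm) hv) hm) ((Commute.conj_iff m).mp ?_)
    rwa [show m * (m⁻¹ * v * m) * m⁻¹ = v by group]
  have ha := key x hx hxw
  have hb := key y hy hyw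
  constructor
  · have := (Commute.conj_iff m).mpr (H.T_comm (H.A_le_T ha) (H.A_le_T hb))
    rwa [show m * (m⁻¹ * x * m) * m⁻¹ = x by group, show m * (m⁻¹ * y * m) * m⁻¹ = y by group]
      at this
  · have := H.A_sq ha
    calc x * x = m * ((m⁻¹ * x * m) * (m⁻¹ * x * m)) * m⁻¹ := by group
      _ = 1 := by rw [this]; group

/-- The conjugates of `z` in `C(t)`. -/
def I : Set G := {x | IsConj H.z x ∧ Commute x H.t}

theorem card_M : Nat.card H.M = 4 * H.I.ncard := by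
  set z' : ↥H.M := ⟨H.z, H.zM⟩ with hz'
  have h := Cfsg.Agent.Lib.Involution.card_isConj_mul_card_centralizer z'
  have hc : Nat.card (Subgroup.centralizer ({z'} : Set ↥H.M)) = 4 := by
    rw [← H.card_A]
    refine Nat.card_congr
      { toFun := fun x => ⟨(x.1 : G), H.cent_M_z x.1.2
          (congrArg Subtype.val (Subgroup.mem_centralizer_singleton_iff.mp x.2))⟩
        invFun := fun x => ⟨⟨x, H.A_le_M x.2⟩, Subgroup.mem_centralizer_singleton_iff.mpr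
          (Subtype.ext (H.mem_T.mp (H.A_le_T x.2)).1.eq)⟩
        left_inv := fun x => rfl
        right_inv := fun x => rfl }
  have hI : Nat.card {y : ↥H.M // IsConj z' y} = H.I.ncard := by
    rw [← Nat.card_coe_set_eq]
    refine Nat.card_congr
      { toFun := fun x => ⟨(x.1 : G), MonoidHom.map_isConj H.M.subtype x.2,
          H.mem_Ct.mp (H.M_le_Ct x.1.2)⟩
        invFun := fun x => ⟨⟨x, H.zc_mem_M x.2.1 x.2.2⟩, ?_⟩
        left_inv := fun x => rfl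
        right_inv := fun x => rfl }
    obtain ⟨m, hm, e⟩ := H.zc_M x.2.1 x.2.2
    exact isConj_iff.mpr ⟨⟨m, hm⟩, Subtype.ext e⟩
  rw [hc, hI] at h
  omega

theorem kk_zA : H.kk H.z ∈ H.A := H.kk_A H.zA

theorem A_zc {a : G} (ha : a ∈ H.A) (h1 : a ≠ 1) : a ∈ H.I := by
  have hk : ∀ x, IsConj H.z x → IsConj H.z (H.kk x) := fun x h =>
    h.trans (isConj_iff.mpr ⟨H.k, (H.kk_apply x).symm⟩)
  refine ⟨?_, (H.mem_A.mp ha).2⟩
  rcases H.A_cases' ha with rfl | rfl | rfl | rfl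
  · exact absurd rfl h1
  · exact IsConj.refl _
  · exact hk _ (IsConj.refl _)
  · exact hk _ (hk _ (IsConj.refl _))

theorem I_commute_z {x : G} (hx : x ∈ H.I) (h : Commute x H.z) : x ∈ H.A :=
  H.cent_M_z (H.zc_mem_M hx.1 hx.2) h

theorem I_ne_one {x : G} (hx : x ∈ H.I) : x ≠ 1 := fun h => by
  have := H.zc_order hx.1
  rw [h, orderOf_one] at this; omega

/-- The involutions of `M` commuting with a given one. -/
theorem ncard_commute_I {x : G} (hx : x ∈ H.I) :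
    {y | y ∈ H.I ∧ Commute y x ∧ y ≠ x}.ncard = 2 := by
  obtain ⟨m, hm, rfl⟩ := H.zc_M hx.1 hx.2
  have hmt := H.mem_Ct.mp (H.M_le_Ct hm)
  have himg : {y | y ∈ H.I ∧ Commute y (m * H.z * m⁻¹) ∧ y ≠ m * H.z * m⁻¹} =
      (fun a => m * a * m⁻¹) '' {H.kk H.z, H.kk (H.kk H.z)} := by
    ext y
    constructor
    · rintro ⟨hy, hyc, hne⟩
      refine ⟨m⁻¹ * y * m, ?_, by group⟩
      have hyI : m⁻¹ * y * m ∈ H.I := by
        refine ⟨hy.1.trans (isConj_iff.mpr ⟨m⁻¹, by group⟩), ?_⟩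
        exact (hmt.inv_left.mul_left hy.2).mul_left hmt
      have hA := H.I_commute_z hyI ((Commute.conj_iff m).mp (by
        rwa [show m * (m⁻¹ * y * m) * m⁻¹ = y by group]))
      rcases H.A_cases' hA with e | e | e | e
      · exact absurd e (H.I_ne_one hyI)
      · exact absurd (show y = m * H.z * m⁻¹ by rw [← e]; group) hne
      · exact Or.inl e
      · exact Or.inr e
    · rintro ⟨a, ha, rfl⟩
      have haA : a ∈ H.A ∧ a ≠ 1 ∧ a ≠ H.z := by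
        rcases ha with rfl | rfl
        · exact ⟨H.kk_zA, fun h => H.z_ne (H.kk.injective (by rw [h, map_one])), H.kk_z_ne.1⟩
        · exact ⟨H.kk_A H.kk_zA, fun h => H.z_ne (H.kk.injective (H.kk.injective
            (by rw [h, map_one, map_one]))), H.kk_z_ne.2⟩
      have haI := H.A_zc haA.1 haA.2.1
      refine ⟨⟨haI.1.trans (isConj_iff.mpr ⟨m, rfl⟩), (hmt.mul_left haI.2).mul_left hmt.inv_left⟩,
        (Commute.conj_iff m).mpr (H.mem_T.mp (H.A_le_T haA.1)).1, fun e => haA.2.2 ?_⟩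
      exact mul_left_cancel (mul_right_cancel e)
  rw [himg, Set.ncard_image_of_injective _ (fun a b e => mul_left_cancel (mul_right_cancel e)), Set.ncard_pair]
  exact fun e => H.kk_z_ne.1 (H.kk.injective e).symm

end Cfsg.Agent.Lib.JankoTwoType.Hyp
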