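import Cfsg.Agent.Lib.JankoTwoType.NormT
import Cfsg.Agent.Lib.PSolvable.Core

/-!
Groups of Hall–Janko type: `C(t) ≅ 2² × A₅` and the normaliser of `O₂(C(t))` is `A₄ × A₅`.
-/

set_option autoImplicit false
set_option linter.unusedSectionVars false
set_option linter.style.haveILetI false

namespace Cfsg.Agent.Lib.JankoTwoType.Hyp

open scoped Pointwise

variable {G : Type*} [Group G] [Finite G] (H : Hyp G)

theorem isSimple_M : IsSimpleGroup ↥H.M := by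
  obtain ⟨e⟩ := H.M_alternating
  haveI : IsSimpleGroup ↥(alternatingGroup (Fin 5)) := alternatingGroup.isSimpleGroup (by simp)
  exact MulEquiv.isSimpleGroup e

theorem B0_comm_M {b m : G} (hb : b ∈ H.B0) (hm : m ∈ H.M) : Commute b m := by
  have hbT := H.B0_le_T hb
  refine H.cent_M_of (fun a ha => H.A_central ha hbT) ?_ (fun x hx => H.M_conj (H.B0_le_Ct hb) hx) hm
  have := (H.mem_B0.mp hb).2
  rw [kk_apply] at this
  exact (mul_inv_eq_iff_eq_mul.mp this).symm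

theorem Ct_decomp {c : G} (hc : c ∈ H.Ct) : ∃ b ∈ H.B0, ∃ m ∈ H.M, c = b * m := by
  set b : G := (H.phi ⟨c, hc⟩ : G) with hb
  have hbB : b ∈ H.B0 := (H.phi ⟨c, hc⟩).2
  refine ⟨b, hbB, c * b⁻¹, H.exists_decomp hc, ?_⟩
  rw [(H.B0_comm_M hbB (H.exists_decomp hc)).eq, inv_mul_cancel_right]

theorem Ct_comm_B0 {c b : G} (hc : c ∈ H.Ct) (hb : b ∈ H.B0) : Commute c b := by
  obtain ⟨b', hb', m, hm, rfl⟩ := H.Ct_decomp hc
  exact (H.B0_comm hb' hb).mul_left (H.B0_comm_M hb hm).symm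

theorem B0_M {x : G} (hb : x ∈ H.B0) (hm : x ∈ H.M) : x = 1 :=
  H.B0_A hb ((H.mem_M_T (H.B0_le_T hb)).mp hm)

theorem B0_klein : Nonempty (↥H.B0 ≃* Multiplicative (ZMod 2) × Multiplicative (ZMod 2)) := by
  haveI : IsKleinFour ↥H.B0 :=
    { card_four := H.card_B0
      exponent_two := by
        have : Nontrivial ↥H.B0 := Finite.one_lt_card_iff_nontrivial.mp (by rw [H.card_B0]; norm_num)
        refine Nat.dvd_antisymm ?_ ?_
        · exact Monoid.exponent_dvd_of_forall_pow_eq_one fun x =>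
            Subtype.ext (by rw [SubmonoidClass.coe_pow, pow_two]; exact H.T_sq (H.B0_le_T x.2))
        · obtain ⟨x, hx⟩ := exists_ne (1 : ↥H.B0)
          have h2 : orderOf x = 2 := orderOf_eq_prime
            (Subtype.ext (by rw [SubmonoidClass.coe_pow, pow_two]; exact H.T_sq (H.B0_le_T x.2))) hx
          rw [← h2]; exact Monoid.order_dvd_exponent x }
  haveI : IsKleinFour (Multiplicative (ZMod 2) × Multiplicative (ZMod 2)) :=
    { card_four := by simp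
      exponent_two := by
        simp [Monoid.exponent_prod, Monoid.exponent_multiplicative, ZMod.exponent] }
  exact IsKleinFour.nonempty_mulEquiv

theorem Ct_prod : Nonempty (↥H.Ct ≃* ↥H.B0 × ↥H.M) :=
  Tools.mulEquiv_prod H.B0_le_Ct H.M_le_Ct (fun _ hx _ hy => H.B0_comm_M hx hy) (fun _ => H.B0_M)
    fun _ hx => H.Ct_decomp hx

theorem pCore_Ct : Cfsg.pCore 2 ↥H.Ct = H.B0.subgroupOf H.Ct := by
  haveI : Fact (Nat.Prime 2) := ⟨Nat.prime_two⟩
  haveI : (H.B0.subgroupOf H.Ct).Normal := ⟨fun x hx c => by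
    rw [Subgroup.mem_subgroupOf] at hx ⊢
    show (c : G) * x * (c : G)⁻¹ ∈ H.B0
    rwa [(H.Ct_comm_B0 c.2 hx).eq, mul_inv_cancel_right]⟩
  refine le_antisymm ?_ (Cfsg.Agent.Lib.PSolvable.le_pCore (IsPGroup.of_card (n := 2) (by
    rw [Nat.card_congr (Subgroup.subgroupOfEquivOfLe H.B0_le_Ct).toEquiv, H.card_B0]; norm_num)))
  have hp : IsPGroup 2 ↥(Cfsg.pCore 2 ↥H.Ct) := Cfsg.Agent.Lib.PSolvable.pCore_isPGroup
  haveI hn : (Cfsg.pCore 2 ↥H.Ct).Normal := inferInstance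
  set N := Cfsg.pCore 2 ↥H.Ct
  set i : ↥H.M →* ↥H.Ct := Subgroup.inclusion H.M_le_Ct
  haveI := H.isSimple_M
  have hbot : N.comap i = ⊥ := by
    rcases (hn.comap i).eq_bot_or_eq_top with h | h
    · exact h
    exfalso
    have hp' : IsPGroup 2 ↥H.M := fun x => by
      obtain ⟨j, hj⟩ := hp ⟨i x, show x ∈ N.comap i by rw [h]; trivial⟩
      exact ⟨j, Subtype.ext (by simpa [i] using congrArg (fun y : ↥N => ((y : ↥H.Ct) : G)) hj)⟩
    obtain ⟨j, hj⟩ := hp'.exists_card_eq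
    rw [H.card_M_eq] at hj
    have h5 : 5 ∣ 2 ^ j := by rw [← hj]; norm_num
    have := (Nat.Prime.dvd_of_dvd_pow (by norm_num : Nat.Prime 5) h5)
    omega
  intro x hx
  obtain ⟨b, hb, m, hm, e⟩ := H.Ct_decomp x.2
  rw [Subgroup.mem_subgroupOf, e]
  suffices hm1 : m = 1 by rwa [hm1, mul_one]
  refine H.center_M hm fun y hy => ?_
  have hcomm : Commute (x : G) y := by
    set w : ↥H.Ct := x * ⟨y, H.M_le_Ct hy⟩ * x⁻¹ * (⟨y, H.M_le_Ct hy⟩ : ↥H.Ct)⁻¹
    have hwN : w ∈ N := by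
      have := mul_mem hx (hn.conj_mem _ (inv_mem hx) ⟨y, H.M_le_Ct hy⟩)
      simpa [w, mul_assoc] using this
    have hwM : (w : G) ∈ H.M := mul_mem (H.M_conj x.2 hy) (inv_mem hy)
    have : (⟨w, hwM⟩ : ↥H.M) ∈ N.comap i := hwN
    rw [hbot, Subgroup.mem_bot] at this
    have e1 : (x : G) * y * (x : G)⁻¹ * y⁻¹ = 1 := congrArg Subtype.val this
    exact mul_inv_eq_iff_eq_mul.mp (mul_inv_eq_one.mp e1)
  have := (H.B0_comm_M hb hy).inv_left.mul_left hcomm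
  rwa [e, inv_mul_cancel_left] at this

/-- An element of order 3 centralising `A` and `k`. -/
noncomputable def h : G := H.exists_h.choose

theorem hE : H.h ∈ H.E := H.exists_h.choose_spec.1

theorem h3 : H.h ^ 3 = 1 := H.exists_h.choose_spec.2.1

theorem h_ne : H.h ≠ 1 := H.exists_h.choose_spec.2.2.1

theorem hk : Commute H.k H.h := H.exists_h.choose_spec.2.2.2

theorem h_order : orderOf H.h = 3 := by
  haveI : Fact (Nat.Prime 3) := ⟨by norm_num⟩
  exact orderOf_eq_prime H.h3 H.h_ne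

theorem h_B0 {b : G} (hb : b ∈ H.B0) : H.h * b * H.h⁻¹ ∈ H.B0 := by
  obtain ⟨hT, hf⟩ := H.mem_B0.mp hb
  refine H.mem_B0.mpr ⟨H.E_norm_T H.hE hT, ?_⟩
  rw [map_mul, map_mul, map_inv, hf, show H.kk H.h = H.h by rw [kk_apply, H.hk.eq, mul_inv_cancel_right]]

theorem h_not_Ct : H.h ∉ H.Ct := fun h => H.h_ne (by
  have hT : H.h ∈ H.T := H.mem_T.mpr ⟨(H.mem_E.mp H.hE).1, H.mem_Ct.mp h⟩
  have h2 := H.T_sq hT
  have h3 := H.h3
  rwa [pow_succ, pow_two, h2, one_mul] at h3)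

theorem h_Ct {c : G} (hc : c ∈ H.Ct) : H.h * c * H.h⁻¹ ∈ H.Ct := by
  have htB : H.t ∈ H.B0 := H.mem_B0.mpr ⟨H.tT, H.kk_t⟩
  have hb : H.h * (H.h * H.t * H.h⁻¹) * H.h⁻¹ ∈ H.B0 := H.h_B0 (H.h_B0 htB)
  refine H.mem_Ct.mpr ?_
  have := (Commute.conj_iff H.h).mpr (H.Ct_comm_B0 hc hb)
  rwa [show H.h * (H.h * (H.h * H.t * H.h⁻¹) * H.h⁻¹) * H.h⁻¹ = H.h ^ 3 * H.t * (H.h ^ 3)⁻¹ by
    simp only [pow_succ, pow_zero, one_mul]; group, H.h3, one_mul, inv_one, mul_one] at this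

theorem h_M {m : G} (hm : m ∈ H.M) : H.h * m * H.h⁻¹ ∈ H.M := by
  let P : Subgroup ↥H.M := (H.M.comap (MulAut.conj H.h).toMonoidHom).subgroupOf H.M
  haveI := H.isSimple_M
  set z' : ↥H.M := ⟨H.z, H.zM⟩
  have hle : Subgroup.normalClosure {z'} ≤ P := by
    refine (Subgroup.closure_le _).mpr fun x hx => ?_
    obtain ⟨y, hy, hxy⟩ := Group.mem_conjugatesOfSet_iff.mp hx
    rw [Set.mem_singleton_iff] at hy
    subst hy
    have hc : IsConj H.z (x : G) := MonoidHom.map_isConj H.M.subtype hxy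
    show H.h * (x : G) * H.h⁻¹ ∈ H.M
    exact H.zc_mem_M (hc.trans (isConj_iff.mpr ⟨H.h, rfl⟩))
      (H.mem_Ct.mp (H.h_Ct (H.M_le_Ct x.2)))
  have htop : Subgroup.normalClosure {z'} = ⊤ :=
    Subgroup.normalClosure_normal.eq_bot_or_eq_top.resolve_left fun hb => H.z_ne (by
      have h : z' ∈ Subgroup.normalClosure {z'} := Subgroup.subset_normalClosure rfl
      rw [hb, Subgroup.mem_bot] at h
      exact congrArg Subtype.val h)
  exact hle (show (⟨m, hm⟩ : ↥H.M) ∈ Subgroup.normalClosure {z'} by rw [htop]; trivial)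

theorem h_comm_M {m : G} (hm : m ∈ H.M) : Commute H.h m :=
  H.cent_M_of (fun _ ha => H.E_A H.hE ha) H.hk.symm (fun _ hx => H.h_M hx) hm

/-- `B0 ⟨h⟩`. -/
noncomputable def L : Subgroup G := H.B0 ⊔ Subgroup.zpowers H.h

theorem L_decomp {x : G} (hx : x ∈ H.L) :
    ∃ b ∈ H.B0, ∃ c ∈ Subgroup.zpowers H.h, x = b * c := by
  have hn : H.h ∈ Subgroup.normalizer (H.B0 : Set G) :=
    Tools.mem_normalizer_of_conj fun _ hb => H.h_B0 hb
  have : x ∈ ((H.B0 : Set G) * (Subgroup.zpowers H.h : Set G)) := by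
    rw [← Subgroup.coe_mul_of_right_le_normalizer_left _ _ (Subgroup.zpowers_le.mpr hn)]
    exact hx
  obtain ⟨b, hb, c, hc, rfl⟩ := this
  exact ⟨b, hb, c, hc, rfl⟩

theorem zpowers_h_T {c : G} (hc : c ∈ Subgroup.zpowers H.h) (hT : c ∈ H.T) : c = 1 := by
  have h3 : orderOf c ∣ 3 := by
    rw [← H.h_order]
    obtain ⟨i, rfl⟩ := hc
    exact orderOf_dvd_of_pow_eq_one (by
      rw [← zpow_natCast, ← zpow_mul, mul_comm, zpow_mul, zpow_natCast, pow_orderOf_eq_one, one_zpow])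
  have h2 : orderOf c ∣ 2 := orderOf_dvd_of_pow_eq_one (by rw [pow_two]; exact H.T_sq hT)
  exact orderOf_eq_one_iff.mp (Nat.eq_one_of_dvd_coprimes (by norm_num : Nat.Coprime 3 2) h3 h2)

theorem L_comm_M {x m : G} (hx : x ∈ H.L) (hm : m ∈ H.M) : Commute x m := by
  obtain ⟨b, hb, c, hc, rfl⟩ := H.L_decomp hx
  obtain ⟨i, rfl⟩ := hc
  exact (H.B0_comm_M hb hm).mul_left ((H.h_comm_M hm).zpow_left i)

theorem card_L : Nat.card H.L = 12 := by
  rw [show 12 = Nat.card H.B0 * Nat.card (Subgroup.zpowers H.h) by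
    rw [H.card_B0, Nat.card_zpowers, H.h_order], ← Nat.card_prod]
  refine (Nat.card_eq_of_bijective (fun p : ↥H.B0 × ↥(Subgroup.zpowers H.h) =>
    (⟨p.1 * p.2, mul_mem ((le_sup_left : H.B0 ≤ H.L) p.1.2)
      ((le_sup_right : Subgroup.zpowers H.h ≤ H.L) p.2.2)⟩ : ↥H.L)) ⟨?_, ?_⟩).symm
  · rintro ⟨b, c⟩ ⟨b', c'⟩ e
    have e' : (b : G) * c = b' * c' := congrArg Subtype.val e
    have e2 : (b' : G)⁻¹ * b = c' * (c : G)⁻¹ := by
      calc (b' : G)⁻¹ * b = (b' : G)⁻¹ * ((b : G) * c) * (c : G)⁻¹ := by group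
        _ = _ := by rw [e']; group
    have h1 := H.zpowers_h_T (mul_mem c'.2 (inv_mem c.2))
      (e2 ▸ mul_mem (inv_mem (H.B0_le_T b'.2)) (H.B0_le_T b.2))
    have hb : b = b' := Subtype.ext (inv_mul_eq_one.mp (e2.trans h1)).symm
    exact Prod.ext hb (Subtype.ext (mul_inv_eq_one.mp h1).symm)
  · rintro ⟨x, hx⟩
    obtain ⟨b, hb, c, hc, rfl⟩ := H.L_decomp hx
    exact ⟨(⟨b, hb⟩, ⟨c, hc⟩), rfl⟩

theorem L_alternating : Nonempty (↥H.L ≃* alternatingGroup (Fin 4)) := by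
  set K := (Subgroup.zpowers H.h).subgroupOf H.L with hK
  have hle : Subgroup.zpowers H.h ≤ H.L := le_sup_right
  refine Tools.mulEquiv_alternating K ?_ ?_ (by rw [H.card_L]; rfl)
  · have := K.card_mul_index
    rw [H.card_L, Nat.card_congr (Subgroup.subgroupOfEquivOfLe hle).toEquiv, Nat.card_zpowers,
      H.h_order] at this
    omega
  · rw [Subgroup.eq_bot_iff_forall]
    intro x hx
    have hxh : (x : G) ∈ Subgroup.zpowers H.h := Subgroup.normalCore_le K hx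
    have htB : H.t ∈ H.B0 := H.mem_B0.mpr ⟨H.tT, H.kk_t⟩
    set t' : ↥H.L := ⟨H.t, (le_sup_left : H.B0 ≤ H.L) htB⟩
    have h1 : H.t * (x : G) * H.t⁻¹ ∈ Subgroup.zpowers H.h :=
      Subgroup.normalCore_le K ((Subgroup.normalCore_normal K).conj_mem x hx t')
    have hn : (x : G) ∈ Subgroup.normalizer (H.B0 : Set G) := by
      obtain ⟨i, hi⟩ := hxh
      rw [← hi]
      exact zpow_mem (Tools.mem_normalizer_of_conj fun _ hb => H.h_B0 hb) i
    have hcB : H.t * (x : G) * H.t⁻¹ * (x : G)⁻¹ ∈ H.B0 := by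
      rw [show H.t * (x : G) * H.t⁻¹ * (x : G)⁻¹ = H.t * ((x : G) * H.t⁻¹ * (x : G)⁻¹) by group]
      exact mul_mem htB ((Subgroup.mem_normalizer_iff.mp hn _).mp (inv_mem htB))
    have h2 := H.zpowers_h_T (mul_mem h1 (inv_mem hxh)) (H.B0_le_T hcB)
    have hxC : (x : G) ∈ H.Ct := H.mem_Ct.mpr (mul_inv_eq_iff_eq_mul.mp (mul_inv_eq_one.mp h2)).symm
    have hxT : (x : G) ∈ H.T := by
      refine H.mem_T.mpr ⟨?_, H.mem_Ct.mp hxC⟩
      obtain ⟨i, hi⟩ := hxh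
      rw [← hi]; exact (H.mem_E.mp H.hE).1.zpow_left i
    exact Subtype.ext (H.zpowers_h_T hxh hxT)

theorem norm_B0_decomp {n : G} (hn : n ∈ Subgroup.normalizer (H.B0 : Set G)) :
    ∃ a ∈ H.L, ∃ b ∈ H.M, n = a * b := by
  classical
  have htB : H.t ∈ H.B0 := H.mem_B0.mpr ⟨H.tT, H.kk_t⟩
  have ht1 : H.t ≠ 1 := fun h => by have := H.ht; rw [h, orderOf_one] at this; omega
  set s1' := H.h * H.t * H.h⁻¹
  set s2' := H.h * s1' * H.h⁻¹
  have hs1 : s1' ≠ H.t := fun e => H.h_not_Ct (H.mem_Ct.mpr (mul_inv_eq_iff_eq_mul.mp e))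
  have h33 : H.h * s2' * H.h⁻¹ = H.t := by
    rw [show H.h * s2' * H.h⁻¹ = H.h ^ 3 * H.t * (H.h ^ 3)⁻¹ by
      simp only [s2', s1', pow_succ, pow_zero, one_mul]; group, H.h3]
    group
  have hinj : ∀ {a b : G}, H.h * a * H.h⁻¹ = H.h * b * H.h⁻¹ → a = b := fun e =>
    mul_left_cancel (mul_right_cancel e)
  have hs2 : s2' ≠ H.t := fun e => hs1 (by rw [e] at h33; exact h33)
  have hs12 : s2' ≠ s1' := fun e => hs1 (hinj e)
  have hcover : (H.B0 : Set G) \ {1} = {H.t, s1', s2'} := by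
    refine (Set.eq_of_subset_of_ncard_le ?_ ?_).symm
    · rintro x (rfl | rfl | rfl)
      · exact ⟨htB, ht1⟩
      · exact ⟨H.h_B0 htB, fun e => ht1 (conj_eq_one_iff.mp e)⟩
      · exact ⟨H.h_B0 (H.h_B0 htB), fun e => ht1 (conj_eq_one_iff.mp (conj_eq_one_iff.mp e))⟩
    · rw [Set.ncard_sdiff_singleton_of_mem (one_mem H.B0), ← Nat.card_coe_set_eq,
        Set.ncard_insert_of_notMem (by simp [hs1.symm, hs2.symm]), Set.ncard_pair hs12.symm]
      show Nat.card H.B0 - 1 ≤ 3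
      rw [H.card_B0]
  have hm : n * H.t * n⁻¹ ∈ (H.B0 : Set G) \ {1} :=
    ⟨(Subgroup.mem_normalizer_iff.mp hn _).mp htB, fun e => ht1 (conj_eq_one_iff.mp e)⟩
  rw [hcover] at hm
  obtain ⟨i, hi⟩ : ∃ i : ℕ, H.h ^ i * H.t * (H.h ^ i)⁻¹ = n * H.t * n⁻¹ := by
    rcases hm with e | e | e
    · exact ⟨0, by rw [e]; simp⟩
    · exact ⟨1, by rw [e, pow_one]⟩
    · exact ⟨2, by rw [e, pow_two]; simp only [s2', s1', mul_inv_rev, mul_assoc]⟩
  have hc : (H.h ^ i)⁻¹ * n ∈ H.Ct := by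
    refine H.mem_Ct.mpr ?_
    show (H.h ^ i)⁻¹ * n * H.t = H.t * ((H.h ^ i)⁻¹ * n)
    calc (H.h ^ i)⁻¹ * n * H.t = (H.h ^ i)⁻¹ * (n * H.t * n⁻¹) * n := by group
      _ = _ := by rw [← hi]; group
  obtain ⟨b, hb, m, hm', e⟩ := H.Ct_decomp hc
  refine ⟨H.h ^ i * b, mul_mem (pow_mem ((le_sup_right : Subgroup.zpowers H.h ≤ H.L)
    (Subgroup.mem_zpowers _)) i) ((le_sup_left : H.B0 ≤ H.L) hb), m, hm', ?_⟩
  rw [mul_assoc, ← e, mul_inv_cancel_left]

theorem norm_prod : Nonempty (↥(Subgroup.normalizer (H.B0 : Set G)) ≃* ↥H.L × ↥H.M) := by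
  have hM : H.M ≤ Subgroup.normalizer (H.B0 : Set G) := fun m hm =>
    Tools.mem_normalizer_of_conj fun b hb => by
      rwa [(H.B0_comm_M hb hm).symm.eq, mul_inv_cancel_right]
  refine Tools.mulEquiv_prod (sup_le Subgroup.le_normalizer (Subgroup.zpowers_le.mpr
    (Tools.mem_normalizer_of_conj fun _ hb => H.h_B0 hb))) hM (fun _ hx _ hy => H.L_comm_M hx hy)
    (fun x hx hxM => H.center_M hxM fun m hm => H.L_comm_M hx hm) fun n hn => H.norm_B0_decomp hn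

/-- The structure of `C(t)` and of the normaliser of its 2-core, for every involution `t` outside
the class of `z`. -/
theorem centralizer_structure {t : G} (ht : IsConj H.t t) :
    Nonempty (↥(Subgroup.centralizer ({t} : Set G)) ≃*
      (Multiplicative (ZMod 2) × Multiplicative (ZMod 2)) × alternatingGroup (Fin 5)) ∧
    Nonempty (↥(Subgroup.normalizer (((Cfsg.pCore 2 ↥(Subgroup.centralizer ({t} : Set G))).map
      (Subgroup.subtype (Subgroup.centralizer ({t} : Set G))) : Subgroup G) : Set G)) ≃*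
        alternatingGroup (Fin 4) × alternatingGroup (Fin 5)) := by
  obtain ⟨g, hg⟩ := isConj_iff.mp ht
  set φ := MulAut.conj g with hφ
  have hmap : H.Ct.map φ.toMonoidHom = Subgroup.centralizer ({t} : Set G) := by
    ext x
    rw [Subgroup.mem_map_equiv, hφ, MulAut.conj_symm_apply, H.mem_Ct,
      Subgroup.mem_centralizer_singleton_iff, ← hg, ← Commute.conj_iff g]
    simp [Commute, SemiconjBy, mul_assoc]
  obtain ⟨eCt⟩ := H.Ct_prod
  obtain ⟨eB⟩ := H.B0_klein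
  obtain ⟨eM⟩ := H.M_alternating
  obtain ⟨eL⟩ := H.L_alternating
  obtain ⟨eN⟩ := H.norm_prod
  let e : ↥H.Ct ≃* ↥(Subgroup.centralizer ({t} : Set G)) :=
    (φ.subgroupMap H.Ct).trans (MulEquiv.subgroupCongr hmap)
  refine ⟨⟨e.symm.trans (eCt.trans (MulEquiv.prodCongr eB eM))⟩, ?_⟩
  have hcore : (Cfsg.pCore 2 ↥(Subgroup.centralizer ({t} : Set G))).map
      (Subgroup.subtype (Subgroup.centralizer ({t} : Set G))) = H.B0.map φ.toMonoidHom := by
    haveI : Fact (Nat.Prime 2) := ⟨Nat.prime_two⟩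
    rw [← Cfsg.Agent.Lib.PSolvable.map_pCore_equiv e, H.pCore_Ct, Subgroup.map_map,
      show (Subgroup.centralizer ({t} : Set G)).subtype.comp e.toMonoidHom =
        φ.toMonoidHom.comp H.Ct.subtype from MonoidHom.ext fun x => rfl, ← Subgroup.map_map,
      Subgroup.map_subgroupOf_eq_of_le H.B0_le_Ct]
  rw [hcore, ← Subgroup.map_equiv_normalizer_eq]
  exact ⟨(φ.subgroupMap (Subgroup.normalizer (H.B0 : Set G))).symm.trans
    (eN.trans (MulEquiv.prodCongr eL eM))⟩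

end Cfsg.Agent.Lib.JankoTwoType.Hyp
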