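import Cfsg.Agent.Lib.JankoTwoType.Five5
import Mathlib.Algebra.Group.Pointwise.Set.Basic

/-!
Groups of Hall–Janko type: `C(A)` normalises `T`; an element of order 3 centralising `A` and `k`.
-/

set_option autoImplicit false
set_option linter.unusedSectionVars false
set_option linter.style.haveILetI false

namespace Cfsg.Agent.Lib.JankoTwoType

open Equiv in
/-- A 3-cycle fixing the point of `s0`. -/
def c3 : Perm (Fin 5) := swap 0 1 * swap 1 2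

set_option maxRecDepth 4000 in
set_option synthInstance.maxSize 2000 in
theorem A4_cases : ∀ σ : Equiv.Perm (Fin 5), Equiv.Perm.sign σ = 1 → σ 4 = 4 →
    ((σ * σ = 1 → (σ = 1 ∨ σ = s0 ∨ σ = s1 ∨ σ = s0 * s1)) ∧
      (σ ^ 8 = 1 → σ * σ = 1) ∧
      (σ * σ = 1 ∨ (c3⁻¹ * σ) * (c3⁻¹ * σ) = 1 ∨ (c3 * σ) * (c3 * σ) = 1)) := by decide +kernel

theorem pattern_fixed : ∀ τ : Equiv.Perm (Fin 5), τ = 1 ∨ τ = s0 ∨ τ = s1 ∨ τ = s0 * s1 →
    ∀ e : Fin 5 → Bool, xor (xor (xor (xor (e 0) (e 1)) (e 2)) (e 3)) (e 4) = false → e 4 = false →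
      (fun i => xor (e i) (e (τ i))) = (fun _ => false) ∨
      (fun i => xor (e i) (e (τ i))) = (fun i => decide ((4 : Fin 5) ≠ i)) := by
  rintro τ (rfl | rfl | rfl | rfl) <;> decide

set_option maxRecDepth 4000 in
set_option synthInstance.maxSize 2000 in
theorem c3_combine : ∀ b c : Equiv.Perm (Fin 5), Equiv.Perm.sign b = 1 → Equiv.Perm.sign c = 1 →
    b 4 = 4 → c 4 = 4 → (c3 * b) * (c3 * b) = 1 → (b * c) * (b * c) = 1 →
    (c * c3) * (c * c3) = 1 → c3 * c3 = 1 := by decide +kernel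

theorem c3_facts : Equiv.Perm.sign c3 = 1 ∧ c3 4 = 4 ∧ c3 ^ 3 = 1 ∧ c3 * c3 ≠ 1 := by decide +kernel

namespace Hyp

open scoped Pointwise

variable {G : Type*} [Group G] [Finite G] (H : Hyp G)

/-- `C(A)`. -/
def E : Subgroup G := H.Cz ⊓ Subgroup.centralizer {H.v}

theorem mem_E {x : G} : x ∈ H.E ↔ Commute x H.z ∧ Commute x H.v := by
  rw [E, Subgroup.mem_inf, Subgroup.mem_centralizer_singleton_iff,
    Subgroup.mem_centralizer_singleton_iff]; rfl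

theorem E_A {x : G} (hx : x ∈ H.E) {a : G} (ha : a ∈ H.A) : Commute x a := by
  obtain ⟨hz, hv⟩ := H.mem_E.mp hx
  rcases H.A_cases ha with rfl | rfl | rfl | rfl
  · exact Commute.one_right _
  · exact hz
  · exact hv
  · exact hv.mul_right hz

theorem E_of {x : G} (h : ∀ a ∈ H.A, Commute x a) : x ∈ H.E :=
  H.mem_E.mpr ⟨h _ H.zA, h _ H.vA⟩

theorem T_le_E : H.T ≤ H.E := fun _ hx => H.mem_E.mpr ⟨(H.mem_T.mp hx).1, H.T_v hx⟩

theorem E_Cz {x : G} (hx : x ∈ H.E) : x ∈ H.Cz := hx.1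

theorem perm4 {x : G} (hx : x ∈ H.E) : H.perm ⟨x, hx.1⟩ 4 = 4 := by
  refine H.perm_eq (b := false) ?_
  show x * H.v * x⁻¹ = H.v * H.zb false
  rw [(H.mem_E.mp hx).2.eq, mul_inv_cancel_right, H.zb_false, mul_one]

/-- The 2-elements of `C(A)`. -/
def InS (x : G) : Prop := ∃ h : x ∈ H.E, H.perm ⟨x, h.1⟩ * H.perm ⟨x, h.1⟩ = 1

theorem perm_InS {x : G} (hx : x ∈ H.E) (h : H.InS x) :
    H.perm ⟨x, hx.1⟩ = 1 ∨ H.perm ⟨x, hx.1⟩ = s0 ∨ H.perm ⟨x, hx.1⟩ = s1 ∨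
      H.perm ⟨x, hx.1⟩ = s0 * s1 :=
  (A4_cases _ (H.sign_perm _) (H.perm4 hx)).1 h.2

theorem InS_iff {x : G} (hx : x ∈ H.E) : H.InS x ↔ x ^ 8 = 1 := by
  constructor
  · rintro ⟨_, h⟩
    have h2 : x * x ∈ H.Q := H.mem_Q_of_perm (mul_mem hx.1 hx.1) (by rw [H.perm_mul hx.1 hx.1]; exact h)
    have h4 : (x * x) * (x * x) = 1 ∨ (x * x) * (x * x) = H.z := H.sq _ h2
    rw [show x ^ 8 = ((x * x) * (x * x)) * ((x * x) * (x * x)) by
      simp only [pow_succ, pow_zero, one_mul, mul_assoc]]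
    rcases h4 with e | e <;> rw [e]
    · exact one_mul 1
    · exact H.zz
  · intro h
    refine ⟨hx, (A4_cases _ (H.sign_perm _) (H.perm4 hx)).2.1 ?_⟩
    rw [← map_pow, show (⟨x, hx.1⟩ : ↥H.Cz) ^ 8 = 1 from Subtype.ext h, map_one]

theorem exists_over {x : G} (hx : x ∈ H.E) (h : H.InS x) :
    ∃ τ, τ ∈ H.T ∧ x * τ⁻¹ ∈ H.Q ∧ Commute (x * τ⁻¹) H.v := by
  obtain ⟨τ, hτ, hp⟩ := H.exists_lift_T (σ := H.perm ⟨x, hx.1⟩)
    (by rcases H.perm_InS hx h with e | e | e | e <;> rw [e] <;> decide) (H.sign_perm _)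
  refine ⟨τ, hτ, H.mem_Q_of_perm (mul_mem hx.1 (inv_mem hτ.1)) ?_,
    (H.mem_E.mp hx).2.mul_left (H.T_v hτ).inv_left⟩
  rw [H.perm_mul hx.1 (inv_mem hτ.1), show (⟨τ⁻¹, inv_mem hτ.1⟩ : ↥H.Cz) = ⟨τ, hτ.1⟩⁻¹ from rfl,
    map_inv, hp, mul_inv_cancel]

theorem A_of_sig {d : G} (hd : d ∈ H.Q)
    (h : H.sig d = (fun _ => false) ∨ H.sig d = fun i => decide ((4 : Fin 5) ≠ i)) : d ∈ H.A := by
  have hzb : ∀ b, H.zb b ∈ H.A := fun b => by cases b <;> simp [H.zA]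
  rcases h with h | h
  · obtain ⟨b, rfl⟩ := H.sig_structure.2 d hd h
    exact hzb b
  · obtain ⟨b, rfl⟩ := H.eq_of_sig hd H.vQ (h.trans (H.sig_u 4).symm)
    exact mul_mem H.vA (hzb b)

/-- Elements of `C_Q(v)` normalise `T` modulo `A`. -/
theorem Q_comm_T {q τ : G} (hq : q ∈ H.Q) (hqv : Commute q H.v) (hτ : τ ∈ H.T) :
    q * τ * q⁻¹ * τ⁻¹ ∈ H.A := by
  have hτC := hτ.1
  have hQ : τ * q⁻¹ * τ⁻¹ ∈ H.Q := H.norm τ (H.mem_T.mp hτ).1 _ (inv_mem hq)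
  have e : q * τ * q⁻¹ * τ⁻¹ = q * (τ * q⁻¹ * τ⁻¹) := by group
  rw [e]
  refine H.A_of_sig (mul_mem hq hQ) ?_
  have hs : H.sig (q * (τ * q⁻¹ * τ⁻¹)) =
      fun i => xor (H.sig q i) (H.sig q (H.perm ⟨τ, hτC⟩ i)) := by
    rw [H.sig_mul hq hQ]
    funext i
    have hp : H.perm ⟨τ, hτC⟩ (H.perm ⟨τ, hτC⟩ i) = i := by
      have := congrArg (fun σ : Equiv.Perm (Fin 5) => σ i)
        (comm_s0 _ (H.perm_T hτ) (H.sign_perm _)).2.1
      simpa using this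
    have h1 := H.sig_conj hτC (inv_mem hq) (H.perm ⟨τ, hτC⟩ i)
    rw [hp, H.sig_inv hq] at h1
    rw [h1]
  rw [hs]
  exact pattern_fixed _ (comm_s0 _ (H.perm_T hτ) (H.sign_perm _)).2.2 _ (H.sig_parity hq)
    (Pre.nc_false_iff.mpr hqv)

theorem InS_norm {x τ : G} (hx : x ∈ H.E) (h : H.InS x) (hτ : τ ∈ H.T) :
    x * τ * x⁻¹ * τ⁻¹ ∈ H.A := by
  obtain ⟨σ, hσ, hq, hqv⟩ := H.exists_over hx h
  have := H.Q_comm_T hq hqv hτ
  rwa [show x * σ⁻¹ * τ * (x * σ⁻¹)⁻¹ * τ⁻¹ = x * (σ⁻¹ * τ * σ) * x⁻¹ * τ⁻¹ by group,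
    (H.T_comm hσ hτ).inv_left.eq, inv_mul_cancel_right] at this

theorem kk_E {x : G} (hx : x ∈ H.E) : H.kk x ∈ H.E :=
  H.E_of fun a ha => by
    rw [← H.kk3 a]; exact (H.E_A hx (H.kk_A (H.kk_A ha))).map H.kk

theorem kk_InS {x : G} (hx : x ∈ H.E) (h : H.InS x) : H.InS (H.kk x) :=
  (H.InS_iff (H.kk_E hx)).mpr (by rw [← map_pow, (H.InS_iff hx).mp h, map_one])

/-- The elements of `S` fixed by `k` modulo `A` lie in `T`. -/
theorem mem_T_of_fixed {x : G} (hx : x ∈ H.E) (h : H.InS x) (hf : x⁻¹ * H.kk x ∈ H.A) :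
    x ∈ H.T := by
  obtain ⟨τ, hτ, hq, hqv⟩ := H.exists_over hx h
  obtain ⟨a0, ha0, hk⟩ := H.kk_mul_A hτ
  set q := x * τ⁻¹ with hqdef
  have hqE : q ∈ H.E := mul_mem hx (inv_mem (H.T_le_E hτ))
  have hfq : q⁻¹ * H.kk q ∈ H.A := by
    have e : q⁻¹ * H.kk q = τ * (x⁻¹ * H.kk x * a0⁻¹) * τ⁻¹ := by
      rw [hqdef, map_mul, map_inv, hk]; group
    rw [e, (H.A_central (mul_mem hf (inv_mem ha0)) hτ).eq, mul_inv_cancel_right]
    exact mul_mem hf (inv_mem ha0)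
  -- average out
  set a := q⁻¹ * H.kk q with ha
  set b := H.kk a with hbdef
  have hbA : b ∈ H.A := H.kk_A hfq
  have hfix : H.kk (q * b) = q * b := by
    have h1 : H.pr a = 1 := H.pr_A hfq
    simp only [pr] at h1
    have h2 : a * H.kk (H.kk a) = H.kk a := by
      rw [(H.T_comm (H.A_le_T hfq) (H.A_le_T (H.kk_A hfq))).eq, mul_assoc] at h1
      rw [eq_inv_of_mul_eq_one_right h1, H.T_inv (H.A_le_T (H.kk_A hfq))]
    rw [map_mul, show H.kk q = q * a by rw [ha]; group, mul_assoc, h2]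
  have hbQ := (H.mem_A.mp hbA).1
  have hqbQ : q * b ∈ H.Q := mul_mem hq hbQ
  have hqbv : Commute (q * b) H.v := hqv.mul_left (H.T_v (H.A_le_T hbA))
  have hqb : q * b ∈ H.A := by
    have h2 : (q * b) * (q * b) = 1 := by
      refine (H.sq _ hqbQ).resolve_right fun e => H.kk_z_ne.1 ?_
      rw [← e, map_mul, hfix]
    by_cases h1 : q * b = 1
    · rw [h1]; exact one_mem _
    by_cases hz : q * b = H.z
    · rw [hz]; exact H.zA
    obtain ⟨i, c, hu⟩ := H.exists_u ⟨hqbQ, h2, h1, hz⟩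
    have hi : i = 4 := by
      by_contra hne
      refine H.u_not_commute hne ?_
      have h3 := hqbv.mul_left (H.zb_comm H.vz c).symm
      rw [hu, mul_assoc, H.zb_mul, Bool.xor_self, H.zb_false, mul_one] at h3
      exact h3
    subst hi
    rw [hu]
    refine mul_mem H.vA ?_
    cases c <;> simp [H.zA]
  have hqA : q ∈ H.A := by simpa using mul_mem hqb (inv_mem hbA)
  have := mul_mem (H.A_le_T hqA) hτ
  rwa [hqdef, inv_mul_cancel_right] at this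

/-- An element of order 3 of `C(A)`. -/
theorem exists_g : ∃ g, ∃ hg : g ∈ H.E, H.perm ⟨g, hg.1⟩ = c3 ∧ g ^ 3 = 1 := by
  obtain ⟨c, hc, hp⟩ := H.exists_lift c3_facts.1
  have h3 : c ^ 3 ∈ H.Q := H.mem_Q_of_perm (pow_mem hc 3) (by
    rw [show (⟨c ^ 3, pow_mem hc 3⟩ : ↥H.Cz) = ⟨c, hc⟩ ^ 3 from rfl, map_pow, hp, c3_facts.2.2.1])
  have h12 : (c ^ 4) ^ 3 = 1 := by
    rw [← pow_mul, show 4 * 3 = 3 * 2 * 2 from rfl, pow_mul, pow_mul, pow_two, pow_two]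
    rcases H.sq _ h3 with e | e <;> rw [e]
    · exact one_mul 1
    · exact H.zz
  have hgC : c ^ 4 ∈ H.Cz := pow_mem hc 4
  have hgp : H.perm ⟨c ^ 4, hgC⟩ = c3 := by
    rw [show (⟨c ^ 4, hgC⟩ : ↥H.Cz) = ⟨c, hc⟩ ^ 4 from rfl, map_pow, hp, pow_succ, c3_facts.2.2.1,
      one_mul]
  refine ⟨c ^ 4, H.mem_E.mpr ⟨H.mem_Cz.mp hgC, ?_⟩, hgp, h12⟩
  obtain ⟨b, hb⟩ := H.perm_spec ⟨c ^ 4, hgC⟩ 4
  rw [hgp, c3_facts.2.1] at hb
  change c ^ 4 * H.v * (c ^ 4)⁻¹ = H.v * H.zb b at hb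
  refine mul_inv_eq_iff_eq_mul.mp ?_
  cases b
  · simpa using hb
  exfalso
  set g := c ^ 4
  have hgz : g * H.z * g⁻¹ = H.z := by rw [(H.mem_Cz.mp hgC).eq, mul_inv_cancel_right]
  have h2 : g * (g * H.v * g⁻¹) * g⁻¹ = H.v := by
    rw [hb, H.zb_true, show g * (H.v * H.z) * g⁻¹ = (g * H.v * g⁻¹) * (g * H.z * g⁻¹) by group, hb,
      hgz, H.zb_true, mul_assoc, H.zz, mul_one]
  have h3' : g * (g * (g * H.v * g⁻¹) * g⁻¹) * g⁻¹ = g ^ 3 * H.v * (g ^ 3)⁻¹ := by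
    simp only [pow_succ, pow_zero, one_mul]; group
  rw [h2, hb, h12, one_mul, inv_one, mul_one, H.zb_true] at h3'
  exact H.vz_ne_v h3'

/-- `C(A)` normalises `T`. -/
theorem E_norm_T {x τ : G} (hx : x ∈ H.E) (hτ : τ ∈ H.T) : x * τ * x⁻¹ ∈ H.T := by
  have hS_norm : ∀ {y σ : G}, y ∈ H.E → H.InS y → σ ∈ H.T → y * σ * y⁻¹ ∈ H.T := by
    intro y σ hy h hσ
    have := mul_mem (H.A_le_T (H.InS_norm hy h hσ)) hσ
    rwa [inv_mul_cancel_right] at this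
  obtain ⟨g, hg, hgp, hg3⟩ := H.exists_g
  have hgi : ∀ {y}, y ∈ H.E → H.InS y ∨ H.InS (g⁻¹ * y) ∨ H.InS (g * y) := by
    intro y hy
    rcases (A4_cases _ (H.sign_perm ⟨y, hy.1⟩) (H.perm4 hy)).2.2 with e | e | e
    · exact Or.inl ⟨hy, e⟩
    · refine Or.inr (Or.inl ⟨mul_mem (inv_mem hg) hy, ?_⟩)
      rwa [H.perm_mul (inv_mem hg.1) hy.1, show (⟨g⁻¹, inv_mem hg.1⟩ : ↥H.Cz) = ⟨g, hg.1⟩⁻¹ from rfl,
        map_inv, hgp]
    · refine Or.inr (Or.inr ⟨mul_mem hg hy, ?_⟩)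
      rwa [H.perm_mul hg.1 hy.1, hgp]
  -- `k` fixes the coset `g S`
  have hkg : H.InS (g⁻¹ * H.kk g) := by
    have hg2 : ¬ H.InS g := fun h => c3_facts.2.2.2 (by obtain ⟨_, h⟩ := h; rwa [hgp] at h)
    have hmul : ∀ {a b : G}, a ∈ H.E → b ∈ H.E → H.InS a → H.InS b → H.InS (a * b) := by
      intro a b ha hb h1 h2
      refine ⟨mul_mem ha hb, ?_⟩
      rw [H.perm_mul ha.1 hb.1]
      rcases H.perm_InS ha h1 with e | e | e | e <;>
        rcases H.perm_InS hb h2 with e' | e' | e' | e' <;> rw [e, e'] <;> decide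
    have hkE := H.kk_E hg
    rcases hgi hkE with h | h | h
    · refine absurd ?_ hg2
      rw [← H.kk3 g]
      exact H.kk_InS (H.kk_E hkE) (H.kk_InS hkE h)
    · exact h
    · exfalso
      -- `kk g ∈ g⁻¹ S` gives `g² ∈ S`
      have h1 := H.kk_InS (mul_mem hg hkE) h
      rw [map_mul] at h1
      have h2 := H.kk_InS (mul_mem hkE (H.kk_E hkE)) h1
      rw [map_mul, H.kk3] at h2
      -- combine `g kk g`, `kk g kk² g`, `kk² g g`
      obtain ⟨hA', hA⟩ := h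
      obtain ⟨hB', hB⟩ := h1
      obtain ⟨hC', hC⟩ := h2
      apply c3_facts.2.2.2
      rw [H.perm_mul hg.1 hkE.1, hgp] at hA
      rw [H.perm_mul hkE.1 (H.kk_E hkE).1] at hB
      rw [H.perm_mul (H.kk_E hkE).1 hg.1, hgp] at hC
      have hb1 := H.sign_perm ⟨H.kk g, hkE.1⟩
      have hc1 := H.sign_perm ⟨H.kk (H.kk g), (H.kk_E hkE).1⟩
      exact c3_combine _ _ hb1 hc1 (H.perm4 hkE) (H.perm4 (H.kk_E hkE)) hA hB hC
  -- `g` normalises `T`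
  have hg_norm : ∀ {σ : G}, σ ∈ H.T → g * σ * g⁻¹ ∈ H.T := by
    intro σ hσ
    have hy : g * σ * g⁻¹ ∈ H.E := mul_mem (mul_mem hg (H.T_le_E hσ)) (inv_mem hg)
    have hσS : H.InS σ := ⟨H.T_le_E hσ, (comm_s0 _ (H.perm_T hσ) (H.sign_perm _)).2.1⟩
    have hyS : H.InS (g * σ * g⁻¹) := (H.InS_iff hy).mpr (by
      rw [conj_pow, (H.InS_iff (H.T_le_E hσ)).mp hσS, mul_one, mul_inv_cancel])
    refine H.mem_T_of_fixed hy hyS ?_
    set s := g⁻¹ * H.kk g with hs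
    have hsE : s ∈ H.E := mul_mem (inv_mem hg) (H.kk_E hg)
    obtain ⟨a, ha, hk⟩ := H.kk_mul_A hσ
    have hsn := H.InS_norm hsE hkg hσ
    have e : H.kk (g * σ * g⁻¹) = g * (s * σ * s⁻¹) * (s * a * s⁻¹) * g⁻¹ := by
      rw [map_mul, map_mul, map_inv, hk, hs]; group
    have hd : σ⁻¹ * (s * σ * s⁻¹) ∈ H.A := by
      rw [show σ⁻¹ * (s * σ * s⁻¹) = σ⁻¹ * (s * σ * s⁻¹ * σ⁻¹) * σ by group,
        (H.A_central hsn (inv_mem hσ)).eq, inv_mul_cancel_right]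
      exact hsn
    have e2 : (g * σ * g⁻¹)⁻¹ * H.kk (g * σ * g⁻¹) =
        g * ((σ⁻¹ * (s * σ * s⁻¹)) * a) * g⁻¹ := by
      rw [e, (H.E_A hsE ha).eq, mul_inv_cancel_right]; group
    rw [e2, (H.E_A hg (mul_mem hd ha)).eq, mul_inv_cancel_right]
    exact mul_mem hd ha
  rcases hgi hx with h | h | h
  · exact hS_norm hx h hτ
  · have := hg_norm (hS_norm (mul_mem (inv_mem hg) hx) h hτ)
    rwa [show g * (g⁻¹ * x * τ * (g⁻¹ * x)⁻¹) * g⁻¹ = x * τ * x⁻¹ by group] at this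
  · have := hg_norm (hg_norm (hS_norm (mul_mem hg hx) h hτ))
    rwa [show g * (g * (g * x * τ * (g * x)⁻¹) * g⁻¹) * g⁻¹ = g ^ 3 * (x * τ * x⁻¹) * (g ^ 3)⁻¹ by
      simp only [pow_succ, pow_zero, one_mul]; group, hg3, one_mul, inv_one, mul_one] at this

/-- An element of order 3 centralising `A` and `k`. -/
theorem exists_h : ∃ h ∈ H.E, h ^ 3 = 1 ∧ h ≠ 1 ∧ Commute H.k h := by
  haveI : Fact (Nat.Prime 3) := ⟨by norm_num⟩
  set K := H.E ⊔ Subgroup.zpowers H.k with hK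
  have hkn : H.k ∈ Subgroup.normalizer (H.E : Set G) :=
    Tools.mem_normalizer_of_conj fun x hx => H.kk_E hx
  have hdec : ∀ x ∈ K, ∃ e ∈ H.E, ∃ c ∈ Subgroup.zpowers H.k, x = e * c := by
    intro x hx
    have : x ∈ ((H.E : Set G) * (Subgroup.zpowers H.k : Set G)) := by
      rw [← Subgroup.coe_mul_of_right_le_normalizer_left _ _ (Subgroup.zpowers_le.mpr hkn)]
      exact hx
    obtain ⟨e, he, c, hc, rfl⟩ := this
    exact ⟨e, he, c, hc, rfl⟩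
  obtain ⟨R, hR⟩ : ∃ R : Sylow 3 ↥K, (Subgroup.zpowers H.k).subgroupOf K ≤ R :=
    IsPGroup.exists_le_sylow (IsPGroup.of_card (n := 1) (by
      rw [Nat.card_congr (Subgroup.subgroupOfEquivOfLe (le_sup_right : Subgroup.zpowers H.k ≤ K)).toEquiv,
        Nat.card_zpowers, H.k_order, pow_one]))
  set R' : Subgroup G := (R : Subgroup ↥K).map K.subtype with hR'
  have hkR : H.k ∈ R' :=
    ⟨⟨H.k, le_sup_right (a := H.E) (Subgroup.mem_zpowers _)⟩, hR (Subgroup.mem_zpowers H.k), rfl⟩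
  -- `R` meets `E`
  have hne : R' ⊓ H.E ≠ ⊥ := by
    intro hbot
    have hsub : R' ≤ Subgroup.zpowers H.k := by
      intro x hx
      obtain ⟨e, he, c, hc, rfl⟩ := hdec x (Subgroup.map_subtype_le _ hx)
      have hcR : c ∈ R' := (Subgroup.zpowers_le.mpr hkR) hc
      have heR : e ∈ R' := by simpa using mul_mem hx (inv_mem hcR)
      have : e = 1 := Subgroup.mem_bot.mp (hbot ▸ Subgroup.mem_inf.mpr ⟨heR, he⟩)
      rwa [this, one_mul]
    have h3 : Nat.card (R : Subgroup ↥K) ∣ 3 := by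
      rw [← Subgroup.card_map_of_injective (f := K.subtype) K.subtype_injective]
      have := Subgroup.card_dvd_of_le hsub
      rwa [Nat.card_zpowers, H.k_order] at this
    have hEK : H.E ≤ K := le_sup_left
    obtain ⟨g, hg, hgp, hg3⟩ := H.exists_g
    have hg1 : g ≠ 1 := fun h => c3_facts.2.2.2 (by
      rw [← hgp, show (⟨g, hg.1⟩ : ↥H.Cz) = 1 from Subtype.ext h, map_one, one_mul])
    haveI : (H.E.subgroupOf K).Normal := Subgroup.normal_subgroupOf_iff hEK |>.mpr fun x c hx hc => by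
      obtain ⟨e, he, c', hc', rfl⟩ := hdec c hc
      have hn : e * c' ∈ Subgroup.normalizer (H.E : Set G) :=
        mul_mem (Subgroup.le_normalizer he) (Subgroup.zpowers_le.mpr hkn hc')
      exact ((Subgroup.mem_normalizer_iff.mp hn) x).mp hx
    have h9 : 3 * 3 ∣ Nat.card ↥K := by
      rw [← Subgroup.card_mul_index (H.E.subgroupOf K),
        Nat.card_congr (Subgroup.subgroupOfEquivOfLe hEK).toEquiv]
      refine mul_dvd_mul ?_ ?_
      · rw [← orderOf_eq_prime hg3 hg1, ← Subgroup.orderOf_mk g hg]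
        exact orderOf_dvd_natCard _
      · rw [Subgroup.index_eq_card]
        have hkK : H.k ∈ K := le_sup_right (a := H.E) (Subgroup.mem_zpowers _)
        have ho : orderOf ((⟨H.k, hkK⟩ : ↥K) : ↥K ⧸ H.E.subgroupOf K) = 3 := by
          refine orderOf_eq_prime ?_ ?_
          · rw [← QuotientGroup.mk_pow, show (⟨H.k, hkK⟩ : ↥K) ^ 3 = 1 from Subtype.ext H.k3]; rfl
          · rw [Ne, QuotientGroup.eq_one_iff, Subgroup.mem_subgroupOf]
            exact fun h => H.kk_z_ne.1 (by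
              rw [kk_apply, (H.mem_E.mp h).1.eq, mul_inv_cancel_right])
        rw [← ho]; exact orderOf_dvd_natCard _
    have hnine := R.pow_dvd_card_of_pow_dvd_card (n := 2) (by simpa [pow_two] using h9)
    have := Nat.le_of_dvd (by norm_num) (hnine.trans h3)
    norm_num at this
  -- a fixed point of `k`
  have hmod := Tools.modEq_conj_fixed 3 H.k3 ((R' ⊓ H.E : Subgroup G) : Set G) fun x hx =>
    Subgroup.mem_inf.mpr ⟨mul_mem (mul_mem hkR hx.1) (inv_mem hkR), H.kk_E hx.2⟩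
  have hRp : IsPGroup 3 ↥(R' ⊓ H.E) := (R.isPGroup'.map _).to_le inf_le_left
  obtain ⟨n, hn⟩ := hRp.exists_card_eq
  have hn0 : n ≠ 0 := fun h => hne (by
    rw [← Subgroup.card_eq_one, hn, h, pow_zero])
  have hdvd : 3 ∣ ((R' ⊓ H.E : Subgroup G) : Set G).ncard := by
    rw [← Nat.card_coe_set_eq]
    show 3 ∣ Nat.card ↥(R' ⊓ H.E)
    rw [hn]; exact dvd_pow_self 3 hn0
  set F := {x | x ∈ ((R' ⊓ H.E : Subgroup G) : Set G) ∧ Commute H.k x}
  have hF : 3 ∣ F.ncard := (Nat.ModEq.dvd_iff hmod dvd_rfl).mp hdvd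
  have h1F : (1 : G) ∈ F := ⟨one_mem (R' ⊓ H.E), Commute.one_right _⟩
  obtain ⟨y, hy, hy1⟩ := Set.exists_ne_of_one_lt_ncard
    (Nat.lt_of_lt_of_le (by norm_num : 1 < 3)
      (Nat.le_of_dvd ((Set.ncard_pos (Set.toFinite _)).mpr ⟨1, h1F⟩) hF)) 1
  -- a power of order 3
  obtain ⟨i, hi⟩ := hRp ⟨y, hy.1⟩
  have hyo : orderOf y ∣ 3 ^ i := orderOf_dvd_of_pow_eq_one (by simpa using congrArg Subtype.val hi)
  obtain ⟨j, -, hj⟩ := (Nat.dvd_prime_pow Nat.prime_three).mp hyo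
  obtain ⟨j', rfl⟩ : ∃ j', j = j' + 1 := ⟨j - 1, by
    rcases Nat.eq_zero_or_pos j with h | h
    · rw [h, pow_zero] at hj; exact absurd (orderOf_eq_one_iff.mp hj) hy1
    · omega⟩
  refine ⟨y ^ 3 ^ j', pow_mem hy.1.2 _, ?_, ?_, hy.2.pow_right _⟩
  · rw [← pow_mul, ← pow_succ, ← hj, pow_orderOf_eq_one]
  · intro h
    have := Nat.le_of_dvd (by positivity) (orderOf_dvd_of_pow_eq_one h)
    rw [hj, pow_succ] at this
    have hp : 0 < 3 ^ j' := by positivity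
    omega

end Hyp

end Cfsg.Agent.Lib.JankoTwoType
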