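import Cfsg.Agent.Lib.JankoTwoType.FusionSimple
import Cfsg.Agent.Lib.JankoTwoType.Adapter
import Cfsg.Agent.Lib.BrauerSuzukiQ.ZStarFinal

/-!
When `C(z)/Q` is the alternating group of degree 5 and `z` is not isolated, `z` is not weakly
closed in `Q`; a simple group with such a centraliser is of Hall–Janko type.
-/

set_option autoImplicit false
set_option linter.unusedSectionVars false
set_option linter.style.haveILetI false

namespace Cfsg.Agent.Lib.JankoTwoType

universe u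

namespace Pre

variable {G : Type u} [Group G] [Finite G] (P : Pre G) (hC : Nat.card P.Cz = 1920)
include hC

/-- The involutions of `C(z)` outside `Q` are conjugate. -/
theorem isConj_outside {y c : G} (hy : y ∈ P.Cz) (hy2 : y * y = 1) (hyQ : y ∉ P.Q)
    (hc : c ∈ P.Cz) (hc2 : c * c = 1) (hcQ : c ∉ P.Q) : IsConj y c := by
  obtain ⟨a, ha, ha', hap⟩ := P.exists_over_s0 hC hy hy2 hyQ
  obtain ⟨b, hb, hb', hbp⟩ := P.exists_over_s0 hC hc hc2 hcQ
  obtain ⟨q, hq, hqe⟩ := P.exists_Q_conj ha' (by rw [show a * y * a⁻¹ * (a * y * a⁻¹) = a * (y * y) * a⁻¹ by group, hy2]; group) hap hb' hbp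
    (by rw [show b * c * b⁻¹ * (b * c * b⁻¹) = b * (c * c) * b⁻¹ by group, hc2]; group)
  exact (isConj_iff.mpr ⟨a, rfl⟩).trans
    ((isConj_iff.mpr ⟨q, hqe⟩).trans (isConj_iff.mpr ⟨b, rfl⟩).symm)

/-- An involution of `C(z)` outside `Q` centralises a non-central involution of `Q`. -/
theorem exists_commute_u {y : G} (hy : y ∈ P.Cz) (hy2 : y * y = 1) (hyQ : y ∉ P.Q) :
    ∃ v ∈ P.S10, Commute v y := by
  obtain ⟨a, ha, ha', hap⟩ := P.exists_over_s0 hC hy hy2 hyQ
  have h := P.tv ha' (by rw [show a * y * a⁻¹ * (a * y * a⁻¹) = a * (y * y) * a⁻¹ by group, hy2]; group) hap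
  refine ⟨a⁻¹ * P.u 4 * a, ?_, ?_⟩
  · have := P.S10_conj (P.mem_Cz.mp (inv_mem ha)) (P.u_mem 4)
    rwa [inv_inv] at this
  · have h2 := (Commute.conj_iff a⁻¹).mpr h
    rw [inv_inv, show a⁻¹ * (a * y * a⁻¹) * a = y by group] at h2
    exact h2.symm

/-- A non-isolated `z` is not weakly closed in `Q`. -/
theorem exists_conj_in_Q (hiso : ∃ g : G, Commute P.z (g * P.z * g⁻¹) ∧ g * P.z * g⁻¹ ≠ P.z) :
    ∃ w ∈ P.Q, w ≠ P.z ∧ IsConj P.z w := by
  by_contra hno
  push Not at hno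
  obtain ⟨g, hgc, hgne⟩ := hiso
  set y := g * P.z * g⁻¹ with hy
  have hy2 : y * y = 1 := by rw [hy, _root_.conj_mul, P.zz]; group
  have hyC : y ∈ P.Cz := P.mem_Cz.mpr hgc.symm
  have hzy : IsConj P.z y := isConj_iff.mpr ⟨g, rfl⟩
  have hyQ : y ∉ P.Q := fun h => hno y h hgne hzy
  set R := P.mapEquiv (MulAut.conj g) with hR
  have hRz : R.z = y := rfl
  have hRC : Nat.card R.Cz = 1920 := by
    rw [← hC]
    refine (Nat.card_congr (Equiv.subtypeEquiv (MulAut.conj g).toEquiv fun x => ?_)).symm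
    rw [P.mem_Cz, R.mem_Cz]
    exact (Commute.conj_iff g).symm
  have hnoR : ∀ w ∈ R.Q, IsConj y w → w = y := by
    rintro _ ⟨w, hw, rfl⟩ hyw
    by_contra hne
    refine hno w hw ?_ (hzy.trans (hyw.trans (isConj_iff.mpr ⟨g, rfl⟩).symm))
    rintro rfl
    exact hne rfl
  have hzR : P.z ∈ R.Cz := R.mem_Cz.mpr hgc
  have hzRQ : P.z ∉ R.Q := fun h => hgne (hnoR _ h hzy.symm).symm
  obtain ⟨v, hv, hvy⟩ := P.exists_commute_u hC hyC hy2 hyQ
  have hvR : v ∈ R.Q := by
    by_contra hvn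
    exact hno v hv.1 hv.2.2.2 (R.isConj_outside hRC hzR P.zz hzRQ (R.mem_Cz.mpr hvy) hv.2.1 hvn)
  have hyvC : y * v ∈ P.Cz := mul_mem hyC (P.mem_Cz.mpr (P.le v hv.1))
  have hyv2 : y * v * (y * v) = 1 := by
    rw [mul_assoc, ← mul_assoc v, hvy.eq, mul_assoc y v v, hv.2.1, mul_one, hy2]
  have hyvQ : y * v ∉ P.Q := fun h => hyQ (by simpa using mul_mem h (inv_mem hv.1))
  have h := hnoR _ (mul_mem (hRz ▸ R.hzQ) hvR) (P.isConj_outside hC hyC hy2 hyQ hyvC hyv2 hyvQ)
  exact hv.2.2.1 (mul_eq_left.mp h)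

end Pre

/-- The hypotheses on a simple group give a group of Hall–Janko type. -/
theorem exists_hyp_of_simple {G : Type u} [Group G] [Finite G] [IsSimpleGroup G] (t : G)
    (ht : orderOf t = 2) (Q : Subgroup (Subgroup.centralizer ({t} : Set G))) [Q.Normal]
    (hQ : Cfsg.IsExtraspecial 2 Q) (hcard : Nat.card Q = 32)
    (h2c : Subgroup.centralizer (Q : Set (Subgroup.centralizer ({t} : Set G))) ≤ Q)
    (e : (Subgroup.centralizer ({t} : Set G)) ⧸ Q ≃* alternatingGroup (Fin 5))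
    (hcl : ∃ x y : G, orderOf x = 2 ∧ orderOf y = 2 ∧ ¬ IsConj x y) : Nonempty (Hyp G) := by
  haveI : Fact (Nat.Prime 2) := ⟨Nat.prime_two⟩
  have hC : Nat.card (Subgroup.centralizer ({t} : Set G)) = 1920 := by
    rw [Subgroup.card_eq_card_quotient_mul_card_subgroup Q, Nat.card_congr e.toEquiv,
      nat_card_alternatingGroup, Nat.card_fin, hcard]
    norm_num [Nat.factorial]
  have hX := Cfsg.Agent.Lib.ExtraStruct.extraLike_of_isExtraspecial hQ
  obtain ⟨u, hu, hu2⟩ := Cfsg.Agent.Lib.ExtraStruct.hasInvolution_of_card hX (by rw [hcard]; norm_num)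
  have hu1 : u ≠ 1 := fun h => hu (h ▸ one_mem _)
  have huz : ((u : ↥(Subgroup.centralizer ({t} : Set G))) : G) ≠ t := fun h => hu
    (Subgroup.mem_center_iff.mpr fun x => Subtype.ext (Subtype.ext (by
      simp only [Subgroup.coe_mul, h]
      exact (Subgroup.mem_centralizer_singleton_iff.mp (x : ↥(Subgroup.centralizer ({t} : Set G))).2))))
  obtain ⟨P, hPz, -, -⟩ := exists_pre t ht Q h2c hQ hcard (by rw [hC]; norm_num) u.1 u.2 huz
    (by
      have := congrArg (fun a : ↥Q => ((a : ↥(Subgroup.centralizer ({t} : Set G))) : G)) hu2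
      simpa [pow_two] using this)
    (fun h => hu1 (Subtype.ext (Subtype.ext h)))
  subst hPz
  have hiso : ∃ g : G, Commute P.z (g * P.z * g⁻¹) ∧ g * P.z * g⁻¹ ≠ P.z := by
    by_contra hno
    push Not at hno
    have hmem := fun g => Cfsg.Agent.Lib.BrauerSuzukiQ.zstar (z := P.z) ⟨ht, hno⟩ g
    obtain ⟨x, y, hx, hy, hxy⟩ := hcl
    rcases Subgroup.Normal.eq_bot_or_eq_top (H := Cfsg.oddCore G) inferInstance with h | h
    · -- `z` is central
      have hcen : P.z ∈ Subgroup.center G := Subgroup.mem_center_iff.mpr fun g => by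
        have := hmem g
        rw [h, Subgroup.mem_bot, mul_inv_eq_one, mul_inv_eq_iff_eq_mul] at this
        exact this.symm
      have htop : Subgroup.zpowers P.z = ⊤ :=
        (show (Subgroup.zpowers P.z).Normal from ⟨fun a ha g => by
          have hc := Subgroup.mem_center_iff.mp ((Subgroup.zpowers_le.mpr hcen) ha) g
          rw [hc, mul_inv_cancel_right]; exact ha⟩).eq_bot_or_eq_top.resolve_left
          fun h' => P.z_ne (Subgroup.zpowers_eq_bot.mp h')
      have h2 : Nat.card G = 2 := by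
        rw [← Subgroup.card_top, ← htop, Nat.card_zpowers, ht]
      have h1920 := Subgroup.card_subgroup_dvd_card P.Cz
      rw [h2, show Nat.card P.Cz = 1920 from hC] at h1920
      norm_num at h1920
    · have hodd : Odd (Nat.card (Cfsg.oddCore G)) :=
        Nat.coprime_two_right.1 Cfsg.Agent.Lib.PSolvable.pPrimeCore_coprime
      rw [h, Subgroup.card_top] at hodd
      have : 2 ∣ Nat.card G := ht ▸ orderOf_dvd_natCard P.z
      exact (Nat.not_even_iff_odd.mpr hodd) (even_iff_two_dvd.mpr this)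
  obtain ⟨w, hwQ, hwz, hzw⟩ := P.exists_conj_in_Q hC hiso
  have hw2 : w * w = 1 := by
    obtain ⟨g, rfl⟩ := isConj_iff.mp hzw
    rw [conj_mul, P.zz]; group
  have hw1 : w ≠ 1 := fun h => by
    obtain ⟨g, hg⟩ := isConj_iff.mp hzw
    exact P.z_ne (conj_eq_one_iff.mp (hg.trans h))
  exact ⟨{ toPre := { P with u0 := w, hu0 := hwQ, hu0z := hwz, hu0i := hw2, hu01 := hw1 }
           card_C := hC
           hu0c := hzw
           hcl := hcl }⟩

end Cfsg.Agent.Lib.JankoTwoType
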