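import Cfsg.Agent.Lib.JankoTwoType.KernelM
import Cfsg.Agent.S0213
import Cfsg.Agent.Lib.AbelianInvCentralizer.Classify
import Cfsg.Agent.Lib.LinGroup.Order

/-!
Groups of Hall–Janko type: the order is 604800.
-/

set_option autoImplicit false
set_option linter.unusedSectionVars false
set_option linter.style.haveILetI false

namespace Cfsg.Agent.Lib.JankoTwoType.Hyp

variable {G : Type*} [Group G] [Finite G] (H : Hyp G)

omit [Finite G] H in
theorem commute_of_mem_zpowers {u v x : G} (hu : u * u = 1) (hv : v * v = 1) (hx2 : x * x = 1)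
    (hx : x ∈ Subgroup.zpowers (u * v)) : Commute u x ∧ Commute v x := by
  obtain ⟨i, rfl⟩ := hx
  have hu' := inv_eq_of_mul_eq_one_right hu
  have hv' := inv_eq_of_mul_eq_one_right hv
  have hx' : ((u * v) ^ i)⁻¹ = (u * v) ^ i := inv_eq_of_mul_eq_one_right hx2
  constructor <;> refine mul_inv_eq_iff_eq_mul.mp ?_
  · show u * (u * v) ^ i * u⁻¹ = (u * v) ^ i
    rw [← conj_zpow, show u * (u * v) * u⁻¹ = (u * v)⁻¹ by
      rw [← mul_assoc, hu, one_mul, hu', mul_inv_rev, hu', hv'], inv_zpow, hx']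
  · show v * (u * v) ^ i * v⁻¹ = (u * v) ^ i
    rw [← conj_zpow, show v * (u * v) * v⁻¹ = (u * v)⁻¹ by
      rw [← mul_assoc, mul_inv_cancel_right, mul_inv_rev, hu', hv'], inv_zpow, hx']

omit [Finite G] H in
theorem eq_of_mem_zpowers_inv {w x : G} (hw : w * w = 1) (hx : x ∈ Subgroup.zpowers w) :
    x = 1 ∨ x = w := by
  obtain ⟨i, rfl⟩ := hx
  rcases Int.even_or_odd' i with ⟨j, rfl | rfl⟩
  · left; simp [zpow_mul, zpow_ofNat, pow_two, hw]
  · right; simp [zpow_add, zpow_mul, zpow_ofNat, pow_two, hw]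

theorem tc_commute_z {y : G} (hy : IsConj H.t y) (h : Commute y H.z) :
    ∃ c ∈ H.Cz, c * H.t * c⁻¹ = y := by
  have ho : orderOf y = 2 := by
    obtain ⟨g, rfl⟩ := isConj_iff.mp hy
    rw [← H.ht]; exact orderOf_injective (MulAut.conj g).toMonoidHom (MulAut.conj g).injective _
  obtain ⟨c, hc, e⟩ := H.exists_Cz_conj (H.mem_Cz.mpr h) (by rw [← pow_two, ← ho, pow_orderOf_eq_one])
    (fun hQ => H.t_nzc ((H.zc_of_mem hQ ho).trans hy.symm))
  exact ⟨c⁻¹, inv_mem hc, by rw [← e]; group⟩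

theorem ncard_S : Nat.card {y : G // IsConj H.t y ∧ Commute y H.z} = 120 := by
  set t' : ↥H.Cz := ⟨H.t, H.tC⟩ with ht'
  have h := Cfsg.Agent.Lib.Involution.card_isConj_mul_card_centralizer t'
  have hc : Nat.card (Subgroup.centralizer ({t'} : Set ↥H.Cz)) = 16 := by
    rw [← H.card_T]
    refine Nat.card_congr
      { toFun := fun x => ⟨(x.1 : G), x.1.2, Subgroup.mem_centralizer_singleton_iff.mpr
          (congrArg Subtype.val (Subgroup.mem_centralizer_singleton_iff.mp x.2))⟩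
        invFun := fun x => ⟨⟨x, x.2.1⟩, Subgroup.mem_centralizer_singleton_iff.mpr
          (Subtype.ext (Subgroup.mem_centralizer_singleton_iff.mp x.2.2))⟩
        left_inv := fun x => rfl
        right_inv := fun x => rfl }
  have hS : Nat.card {y : ↥H.Cz // IsConj t' y} = Nat.card {y : G // IsConj H.t y ∧ Commute y H.z} := by
    refine Nat.card_congr
      { toFun := fun x => ⟨(x.1 : G), MonoidHom.map_isConj H.Cz.subtype x.2, H.mem_Cz.mp x.1.2⟩
        invFun := fun x => ⟨⟨x, H.mem_Cz.mpr x.2.2⟩, ?_⟩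
        left_inv := fun x => rfl
        right_inv := fun x => rfl }
    obtain ⟨c, hc, e⟩ := H.tc_commute_z x.2.1 x.2.2
    exact isConj_iff.mpr ⟨⟨c, hc⟩, Subtype.ext e⟩
  rw [hc, hS, H.card_C] at h
  omega

theorem zt_inv {u : G} (h : Commute u H.t) (h2 : u * u = 1) : u * H.t * (u * H.t) = 1 := by
  rw [h.symm.mul_mul_mul_comm, h2, H.tt, one_mul]

omit [Finite G] H in
theorem s0_ne : ∀ i : Fin 5, i ≠ 4 → i ≠ s0 i := by decide

theorem ncard_F : Nat.card {u : G // IsConj H.z u ∧ H.z ∈ Subgroup.zpowers (u * H.t)} = 8 := by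
  have hrw : {u : G | IsConj H.z u ∧ H.z ∈ Subgroup.zpowers (u * H.t)} =
      (fun p : Fin 5 × Bool => H.u p.1 * H.zb p.2) '' {p | p.1 ≠ 4} := by
    ext u
    constructor
    · rintro ⟨hu, hz⟩
      have hu2 : u * u = 1 := by rw [← pow_two, ← H.zc_order hu, pow_orderOf_eq_one]
      have hc := (commute_of_mem_zpowers hu2 H.tt H.zz hz).1
      rcases H.zc_cases hu hc with rfl | ⟨i, b, rfl⟩
      · rcases eq_of_mem_zpowers_inv (H.zt_inv H.tz.symm H.zz) hz with e | e
        · exact absurd e H.z_ne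
        · exact absurd (mul_eq_left.mp e.symm) (fun h => by
            have := H.ht; rw [h, orderOf_one] at this; omega)
      · refine ⟨(i, b), fun hi => ?_, rfl⟩
        simp only at hi
        subst hi
        rcases eq_of_mem_zpowers_inv (H.zt_inv ((H.tv.mul_right (H.zb_comm H.tz b)).symm) hu2) hz
          with e | e
        · exact H.z_ne e
        · refine H.t_notQ ?_
          rw [← inv_mul_eq_iff_eq_mul.mpr e]
          exact mul_mem (inv_mem (mul_mem (H.uQ 4) (H.zb_mem b))) H.hzQ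
    · rintro ⟨⟨i, b⟩, hi, rfl⟩
      refine ⟨H.zc_u i b, ?_⟩
      simp only at hi ⊢
      set u := H.u i * H.zb b with hu
      have huQ : u ∈ H.Q := mul_mem (H.uQ i) (H.zb_mem b)
      have hu2 : u * u = 1 := by
        rw [← pow_two, ← H.zc_order (H.zc_u i b), pow_orderOf_eq_one]
      set y := H.t * u * H.t with hy
      have hy2 : y * y = 1 := by
        rw [hy, ← H.conj_mul, hu2, mul_one, H.tt]
      have hw : (u * H.t) ^ 4 = H.z := by
        rw [show (u * H.t) ^ 4 = (u * y) * (u * y) by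
          rw [hy]; simp only [pow_succ, pow_zero, one_mul]; group]
        rcases H.sq _ (mul_mem huQ (H.tQt huQ)) with e | e
        · exfalso
          have hc : Commute u y := by
            show u * y = y * u
            calc u * y = (u * y)⁻¹ := (inv_eq_of_mul_eq_one_right e).symm
              _ = y * u := by
                rw [mul_inv_rev, inv_eq_of_mul_eq_one_right hu2, inv_eq_of_mul_eq_one_right hy2]
          obtain ⟨b', hb', -⟩ := H.t_u i
          have hyu : y = H.u (s0 i) * H.zb (xor b' b) := by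
            rw [hy, hu, H.conj_mul, hb', show H.t * H.zb b * H.t = H.zb b by
              rw [(H.zb_comm H.tz b).eq, mul_assoc, H.tt, mul_one], mul_assoc, H.zb_mul]
          rw [hyu, hu] at hc
          have h1 := hc.mul_left (H.zb_comm (H.le _ (mul_mem (H.uQ (s0 i)) (H.zb_mem _))) b).symm
          rw [mul_assoc, H.zb_mul, Bool.xor_self, H.zb_false, mul_one] at h1
          have h2 := h1.mul_right (H.zb_comm (H.le _ (H.uQ i)) (xor b' b))
          rw [mul_assoc, H.zb_mul, Bool.xor_self, H.zb_false, mul_one] at h2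
          exact H.u_not_commute (s0_ne i hi) h2
        · exact e
      rw [← hw]
      exact pow_mem (Subgroup.mem_zpowers _) _
  show Nat.card {u : G | IsConj H.z u ∧ H.z ∈ Subgroup.zpowers (u * H.t)} = 8
  rw [Nat.card_coe_set_eq, hrw, Set.ncard_image_of_injective]
  · rw [Set.ncard_eq_toFinset_card']; decide
  · rintro ⟨i, a⟩ ⟨j, b⟩ h
    simp only at h
    have h' : H.u i = H.u j * H.zb (xor b a) := by
      rw [← H.zb_mul, ← mul_assoc, ← h, mul_assoc, H.zb_mul, Bool.xor_self, H.zb_false, mul_one]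
    obtain ⟨rfl, hab⟩ := H.u_eq_zb h'
    have : a = b := by revert hab; cases a <;> cases b <;> simp
    rw [this]

theorem n1 : Nat.card {p : G × G // IsConj H.z p.1 ∧ IsConj H.t p.2 ∧
    H.z ∈ Subgroup.zpowers (p.1 * p.2)} = 960 := by
  classical
  have hcom : ∀ p : {p : G × G // IsConj H.z p.1 ∧ IsConj H.t p.2 ∧
      H.z ∈ Subgroup.zpowers (p.1 * p.2)}, Commute p.1.2 H.z := by
    rintro ⟨⟨u, v⟩, hu, hv, hz⟩
    refine (commute_of_mem_zpowers (by rw [← pow_two, ← H.zc_order hu, pow_orderOf_eq_one]) ?_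
      H.zz hz).2
    obtain ⟨g, rfl⟩ := isConj_iff.mp hv
    rw [show g * H.t * g⁻¹ * (g * H.t * g⁻¹) = g * (H.t * H.t) * g⁻¹ by group, H.tt]; group
  have hcj : ∀ y : {y : G // IsConj H.t y ∧ Commute y H.z}, ∃ c ∈ H.Cz, c * H.t * c⁻¹ = y :=
    fun y => H.tc_commute_z y.2.1 y.2.2
  choose c hcC hc using hcj
  have hzc : ∀ y, (c y)⁻¹ * H.z * c y = H.z := fun y => by
    rw [((H.mem_Cz.mp (hcC y)).inv_left).eq, inv_mul_cancel_right]
  have e : {p : G × G // IsConj H.z p.1 ∧ IsConj H.t p.2 ∧ H.z ∈ Subgroup.zpowers (p.1 * p.2)} ≃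
      {y : G // IsConj H.t y ∧ Commute y H.z} ×
        {u : G // IsConj H.z u ∧ H.z ∈ Subgroup.zpowers (u * H.t)} :=
    { toFun := fun p => (⟨p.1.2, p.2.2.1, hcom p⟩,
        ⟨(c ⟨p.1.2, p.2.2.1, hcom p⟩)⁻¹ * p.1.1 * c ⟨p.1.2, p.2.2.1, hcom p⟩,
          p.2.1.trans (isConj_iff.mpr ⟨(c ⟨p.1.2, p.2.2.1, hcom p⟩)⁻¹, by group⟩), by
          set y : {y : G // IsConj H.t y ∧ Commute y H.z} := ⟨p.1.2, p.2.2.1, hcom p⟩ with hy
          obtain ⟨i, hi⟩ := p.2.2.2
          refine ⟨i, ?_⟩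
          simp only at hi ⊢
          have hy2 : c y * H.t * (c y)⁻¹ = p.1.2 := hc y
          have e : (c y)⁻¹ * p.1.1 * c y * H.t = (c y)⁻¹ * (p.1.1 * p.1.2) * ((c y)⁻¹)⁻¹ := by
            rw [← hy2]; group
          rw [e, conj_zpow, hi, inv_inv, hzc]⟩)
      invFun := fun q => ⟨(c q.1 * q.2.1 * (c q.1)⁻¹, q.1.1),
        q.2.2.1.trans (isConj_iff.mpr ⟨_, rfl⟩), q.1.2.1, by
          obtain ⟨i, hi⟩ := q.2.2.2
          refine ⟨i, ?_⟩
          simp only at hi ⊢
          conv_lhs => arg 1; arg 2; rw [← hc q.1]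
          rw [show c q.1 * q.2.1 * (c q.1)⁻¹ * (c q.1 * H.t * (c q.1)⁻¹) =
            c q.1 * (q.2.1 * H.t) * (c q.1)⁻¹ by group, conj_zpow, hi,
            (H.mem_Cz.mp (hcC q.1)).eq, mul_inv_cancel_right]⟩
      left_inv := fun p => by
        refine Subtype.ext (Prod.ext ?_ rfl)
        simp [mul_assoc]
      right_inv := fun q => by
        refine Prod.ext rfl (Subtype.ext ?_)
        simp [mul_assoc] }
  rw [Nat.card_congr e, Nat.card_prod, H.ncard_S, H.ncard_F]

theorem odd_order {u m : G} (hu : u ∈ H.I) (hm : m ∈ H.I) (h : ¬ (Commute m u ∧ m ≠ u)) :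
    Odd (orderOf (u * m)) := by
  have hu2 : u * u = 1 := by rw [← pow_two, ← H.zc_order hu.1, pow_orderOf_eq_one]
  have hm2 : m * m = 1 := by rw [← pow_two, ← H.zc_order hm.1, pow_orderOf_eq_one]
  by_cases he : m = u
  · rw [he, hu2, orderOf_one]; exact odd_one
  rw [← Nat.not_even_iff_odd]
  intro hev
  have hw := Cfsg.Agent.Lib.Involution.orderOf_half_pow hev
  set w := (u * m) ^ (orderOf (u * m) / 2) with hwdef
  have huM := H.zc_mem_M hu.1 hu.2
  have hmM := H.zc_mem_M hm.1 hm.2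
  have hcw := commute_of_mem_zpowers hu2 hm2
    (by rw [← pow_two, ← hw, pow_orderOf_eq_one]) (show w ∈ Subgroup.zpowers (u * m) from
      pow_mem (Subgroup.mem_zpowers _) _)
  exact h ⟨(H.cent_M_inv (pow_mem (mul_mem huM hmM) _) hw hmM huM hcw.2 hcw.1).1, he⟩

theorem tM : H.t ∉ H.M := fun h => H.t_notQ (H.mem_A.mp ((H.mem_M_T H.tT).mp h)).1

theorem n2_equiv : Nat.card {p : G × G // IsConj H.z p.1 ∧ IsConj H.t p.2 ∧
    H.t ∈ Subgroup.zpowers (p.1 * p.2)} =
    Nat.card {p : G × G // p.1 ∈ H.I ∧ p.2 ∈ H.I ∧ ¬ (Commute p.2 p.1 ∧ p.2 ≠ p.1)} := by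
  refine Nat.card_congr (Equiv.subtypeEquiv (Equiv.prodCongr (Equiv.refl G) (Equiv.mulRight H.t))
    fun p => ?_)
  obtain ⟨u, v⟩ := p
  show IsConj H.z u ∧ IsConj H.t v ∧ H.t ∈ Subgroup.zpowers (u * v) ↔
    u ∈ H.I ∧ v * H.t ∈ H.I ∧ ¬ (Commute (v * H.t) u ∧ v * H.t ≠ u)
  constructor
  · rintro ⟨hu, hv, ht⟩
    have hu2 : u * u = 1 := by rw [← pow_two, ← H.zc_order hu, pow_orderOf_eq_one]
    have hv2 : v * v = 1 := by
      obtain ⟨g, rfl⟩ := isConj_iff.mp hv
      rw [show g * H.t * g⁻¹ * (g * H.t * g⁻¹) = g * (H.t * H.t) * g⁻¹ by group, H.tt]; group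
    obtain ⟨hut, hvt⟩ := commute_of_mem_zpowers hu2 hv2 H.tt ht
    have huI : u ∈ H.I := ⟨hu, hut⟩
    have huM := H.zc_mem_M hu hut
    obtain ⟨i, hi : (u * v) ^ i = H.t⟩ := mem_powers_iff_mem_zpowers.mpr ht
    set b := H.phi ⟨v, H.mem_Ct.mpr hvt⟩ with hb
    have hbi : (b : G) ^ i = H.t := by
      have h1 : H.phi (⟨u, H.mem_Ct.mpr hut⟩ * ⟨v, H.mem_Ct.mpr hvt⟩) ^ i =
          H.phi ⟨H.t, H.T_le_Ct H.tT⟩ := by
        rw [← map_pow]; exact congrArg H.phi (Subtype.ext hi)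
      obtain ⟨_, hp⟩ := H.mem_M.mp huM
      rw [map_mul, hp, one_mul] at h1
      have h2 := congrArg Subtype.val h1
      rw [H.phi_T H.tT, show H.pr H.t = H.t from H.pr_B0 (H.mem_B0.mpr ⟨H.tT, H.kk_t⟩)] at h2
      exact h2
    have ht1 : H.t ≠ 1 := fun h => by have := H.ht; rw [h, orderOf_one] at this; omega
    have hbsq : (b : G) ^ 2 = 1 := by rw [pow_two]; exact H.T_sq (H.B0_le_T b.2)
    obtain ⟨j, rfl⟩ : ∃ j, i = 2 * j + 1 := by
      rcases Nat.even_or_odd' i with ⟨j, rfl | rfl⟩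
      · exact absurd (by rw [← hbi, pow_mul, hbsq, one_pow]) ht1
      · exact ⟨j, rfl⟩
    rw [pow_succ, pow_mul, hbsq, one_pow, one_mul] at hbi
    have hmM : v * H.t ∈ H.M := by
      have := H.exists_decomp (H.mem_Ct.mpr hvt)
      rwa [← hb, hbi, H.t_inv] at this
    have hmt : Commute (v * H.t) H.t := hvt.mul_left (Commute.refl _)
    have hum : Commute (u * (v * H.t)) H.t := hut.mul_left hmt
    have hpow : (u * (v * H.t)) ^ (2 * j + 1) = 1 := by
      have e : u * v = (u * (v * H.t)) * H.t := by rw [mul_assoc, mul_assoc, H.tt, mul_one]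
      rw [e, hum.mul_pow, pow_succ H.t, pow_mul H.t, pow_two H.t, H.tt, one_pow, one_mul] at hi
      exact mul_eq_right.mp hi
    have hne : v * H.t ≠ 1 := by
      intro h
      rw [h, mul_one] at hpow
      refine H.I_ne_one huI ?_
      rw [pow_succ, pow_mul, pow_two, hu2, one_pow, one_mul] at hpow
      exact hpow
    have hm2 : orderOf (v * H.t) = 2 :=
      orderOf_eq_prime (by rw [pow_two, hvt.symm.mul_mul_mul_comm, hv2, H.tt, one_mul]) hne
    refine ⟨huI, ⟨H.inv_M hmM hm2, hmt⟩, fun ⟨hc, hne'⟩ => hne' ?_⟩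
    have hsq : (u * (v * H.t)) ^ 2 = 1 := by
      rw [pow_two, hc.mul_mul_mul_comm, hu2, ← pow_two, ← hm2, pow_orderOf_eq_one, one_mul]
    rw [pow_succ, pow_mul, hsq, one_pow, one_mul] at hpow
    rw [eq_inv_of_mul_eq_one_right hpow, inv_eq_of_mul_eq_one_right hu2]
  · rintro ⟨hu, hm, hn⟩
    have hv : Commute v H.t := by
      have := hm.2.mul_left (Commute.refl H.t)
      rwa [mul_assoc, H.tt, mul_one] at this
    have hm2 : v * H.t * (v * H.t) = 1 := by rw [← pow_two, ← H.zc_order hm.1, pow_orderOf_eq_one]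
    have hv2 : v * v = 1 := by
      rwa [hv.symm.mul_mul_mul_comm, H.tt, mul_one] at hm2
    have hne : v ≠ 1 := fun h => H.tM (by
      have := H.zc_mem_M hm.1 hm.2
      rwa [h, one_mul] at this)
    have hvo : orderOf v = 2 := orderOf_eq_prime (by rw [pow_two]; exact hv2) hne
    refine ⟨hu.1, (H.inv_classes hvo).resolve_left fun h => H.tM ?_, ?_⟩
    · have := mul_mem (inv_mem (H.zc_mem_M h hv)) (H.zc_mem_M hm.1 hm.2)
      rwa [inv_mul_cancel_left] at this
    · obtain ⟨j, hj⟩ := H.odd_order hu hm hn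
      refine ⟨((2 * j + 1 : ℕ) : ℤ), ?_⟩
      have hum : Commute (u * (v * H.t)) H.t := hu.2.mul_left hm.2
      show (u * v) ^ ((2 * j + 1 : ℕ) : ℤ) = H.t
      rw [zpow_natCast, show u * v = (u * (v * H.t)) * H.t by rw [mul_assoc, mul_assoc, H.tt, mul_one],
        hum.mul_pow, ← hj, pow_orderOf_eq_one, one_mul, hj, pow_succ, pow_mul, pow_two, H.tt, one_pow,
        one_mul]

theorem n2 : Nat.card {p : G × G // IsConj H.z p.1 ∧ IsConj H.t p.2 ∧
    H.t ∈ Subgroup.zpowers (p.1 * p.2)} + 2 * H.I.ncard = H.I.ncard * H.I.ncard := by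
  classical
  let _ := Fintype.ofFinite G
  rw [H.n2_equiv]
  have e : {p : G × G // p.1 ∈ H.I ∧ p.2 ∈ H.I ∧ ¬ (Commute p.2 p.1 ∧ p.2 ≠ p.1)} ≃
      Σ u : ↥H.I, ↥{m | m ∈ H.I ∧ ¬ (Commute m u.1 ∧ m ≠ u.1)} :=
    { toFun := fun p => ⟨⟨p.1.1, p.2.1⟩, ⟨p.1.2, p.2.2⟩⟩
      invFun := fun q => ⟨(q.1.1, q.2.1), q.1.2, q.2.2⟩
      left_inv := fun p => rfl
      right_inv := fun q => rfl }
  have hfib : ∀ u : ↥H.I, Nat.card ↥{m | m ∈ H.I ∧ ¬ (Commute m u.1 ∧ m ≠ u.1)} + 2 = H.I.ncard := by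
    intro u
    rw [Nat.card_coe_set_eq]
    have h := Set.ncard_inter_add_ncard_diff_eq_ncard H.I {m | Commute m u.1 ∧ m ≠ u.1} (Set.toFinite _)
    have h2 := H.ncard_commute_I u.2
    rw [show H.I ∩ {m | Commute m u.1 ∧ m ≠ u.1} = {m | m ∈ H.I ∧ Commute m u.1 ∧ m ≠ u.1} from rfl,
      h2, show H.I \ {m | Commute m u.1 ∧ m ≠ u.1} =
        {m | m ∈ H.I ∧ ¬ (Commute m u.1 ∧ m ≠ u.1)} from rfl] at h
    omega
  rw [Nat.card_congr e, Nat.card_sigma]
  have hsum := Finset.sum_congr (rfl : (Finset.univ : Finset ↥H.I) = _) (fun u _ => hfib u)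
  rw [Finset.sum_add_distrib, Finset.sum_const, Finset.sum_const, Finset.card_univ,
    ← Nat.card_eq_fintype_card, Nat.card_coe_set_eq, smul_eq_mul, smul_eq_mul] at hsum
  omega

theorem card_G_eq : Nat.card G = Nat.card H.Ct * 960 + 1920 *
    Nat.card {p : G × G // IsConj H.z p.1 ∧ IsConj H.t p.2 ∧ H.t ∈ Subgroup.zpowers (p.1 * p.2)} := by
  have h := Cfsg.Agent.S0213.result H.z H.t H.hz H.ht H.t_nzc (fun x hx => H.inv_classes hx)
  rw [H.n1, H.card_C] at h
  exact h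

include H in
theorem ncard_zc_far (hG : Nat.card G = 51840) :
    {x | IsConj H.z x ∧ ¬ Commute x H.z}.ncard = 16 := by
  classical
  have h := Cfsg.Agent.Lib.Involution.card_isConj_mul_card_centralizer H.z
  rw [H.card_C, hG] at h
  have h27 : {x | IsConj H.z x}.ncard = 27 := by
    rw [← Nat.card_coe_set_eq]
    show Nat.card {y : G // IsConj H.z y} = 27
    omega
  have hset : {x | IsConj H.z x} ∩ {x | Commute x H.z} = insert H.z H.S10 := by
    ext x
    constructor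
    · rintro ⟨hx, hc⟩
      by_cases hz : x = H.z
      · exact Or.inl hz
      · have h2 := H.zc_order hx
        exact Or.inr ⟨H.mem_Q_of_zc hx hc, by rw [← pow_two, ← h2, pow_orderOf_eq_one],
          fun h1 => by rw [h1, orderOf_one] at h2; omega, hz⟩
    · rintro (rfl | hx)
      · exact ⟨IsConj.refl _, Commute.refl _⟩
      · exact ⟨H.zc_of_mem hx.1 (orderOf_eq_prime (by rw [pow_two]; exact hx.2.1) hx.2.2.1),
          H.le _ hx.1⟩
  have h2 := Set.ncard_inter_add_ncard_diff_eq_ncard {x | IsConj H.z x} {x | Commute x H.z}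
    (Set.toFinite _)
  rw [hset, Set.ncard_insert_of_notMem (fun h => h.2.2.2 rfl), H.ncard_S10, h27] at h2
  have : {x | IsConj H.z x} \ {x | Commute x H.z} = {x | IsConj H.z x ∧ ¬ Commute x H.z} := rfl
  rw [← this]
  omega

include H in
theorem not_51840 : Nat.card G ≠ 51840 := by
  intro hG
  classical
  have hfar := H.ncard_zc_far hG
  obtain ⟨v', hv', hv'z⟩ : ∃ x, IsConj H.z x ∧ ¬ Commute x H.z := by
    by_contra h
    rw [show {x | IsConj H.z x ∧ ¬ Commute x H.z} = ∅ from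
      Set.eq_empty_iff_forall_notMem.mpr fun x hx => h ⟨x, hx⟩, Set.ncard_empty] at hfar
    omega
  set X := Subgroup.centralizer ({v'} : Set G) ⊓ H.Cz with hX
  have hmX : ∀ {x : G}, x ∈ X → Commute x v' ∧ x ∈ H.Cz := fun hx =>
    ⟨Subgroup.mem_centralizer_singleton_iff.mp hx.1, hx.2⟩
  -- `X ∩ Q` has order at most 2
  have hXQ : ∀ a ∈ X, ∀ b ∈ X, a ∈ H.Q → b ∈ H.Q → a ≠ 1 → b ≠ 1 → a = b := by
    have hS : ∀ a ∈ X, a ∈ H.Q → a ≠ 1 → a ∈ H.S10 := by
      intro a ha haQ h1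
      have hz : ∀ c, c ∈ X → c ≠ H.z := fun c hc e => hv'z (e ▸ (hmX hc).1).symm
      refine ⟨haQ, ?_, h1, hz a ha⟩
      exact (H.sq a haQ).resolve_right (hz _ (mul_mem ha ha))
    intro a ha b hb haQ hbQ ha1 hb1
    by_contra hne
    obtain ⟨i, c, rfl⟩ := H.exists_u (hS a ha haQ ha1)
    obtain ⟨j, d, rfl⟩ := H.exists_u (hS b hb hbQ hb1)
    have hab := hS _ (mul_mem ha hb) (mul_mem haQ hbQ) (fun h => hne (by
      rw [eq_inv_of_mul_eq_one_left h, inv_eq_of_mul_eq_one_right (hS _ hb hbQ hb1).2.1]))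
    have hco : Commute (H.u i * H.zb c) (H.u j * H.zb d) := by
      show _ = _
      calc _ = ((H.u i * H.zb c) * (H.u j * H.zb d))⁻¹ := (inv_eq_of_mul_eq_one_right hab.2.1).symm
        _ = _ := by
          rw [mul_inv_rev, inv_eq_of_mul_eq_one_right (hS _ ha haQ ha1).2.1,
            inv_eq_of_mul_eq_one_right (hS _ hb hbQ hb1).2.1]
    rcases eq_or_ne i j with rfl | hij
    · refine hab.2.2.2 ?_
      have hcd : c ≠ d := fun e => hne (by rw [e])
      rw [show H.u i * H.zb c * (H.u i * H.zb d) = H.u i * (H.zb c * H.u i) * H.zb d by group,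
        H.zQ (H.uQ i), ← mul_assoc (H.u i) (H.u i), (H.u_mem i).2.1, one_mul, H.zb_mul]
      cases c <;> cases d <;> simp_all
    · refine H.u_not_commute hij ?_
      have h1 := hco.mul_left (H.zb_comm (H.le _ (mul_mem (H.uQ j) (H.zb_mem _))) c).symm
      rw [mul_assoc, H.zb_mul, Bool.xor_self, H.zb_false, mul_one] at h1
      have h2 := h1.mul_right (H.zb_comm (H.le _ (H.uQ i)) d)
      rwa [mul_assoc, H.zb_mul, Bool.xor_self, H.zb_false, mul_one] at h2
  -- so `|X| < 120`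
  set f : ↥X →* Equiv.Perm (Fin 5) :=
    H.perm.comp (Subgroup.inclusion (show X ≤ H.Cz from fun x hx => hx.2)) with hf
  have hker : ∀ x : ↥X, x ∈ f.ker ↔ (x : G) ∈ H.Q := fun x =>
    ⟨fun h => H.mem_Q_of_perm (hmX x.2).2 h, fun h => H.perm_Q h⟩
  have hrange : f.range ≤ alternatingGroup (Fin 5) := by
    rintro _ ⟨x, rfl⟩
    exact Equiv.Perm.mem_alternatingGroup.mpr (H.sign_perm _)
  have hXlt : Nat.card ↥X < 120 := by
    have hk2 : Nat.card f.ker ≤ 2 := by
      by_contra hlt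
      have h3 : 1 < (((Set.univ : Set ↥f.ker)) \ {1}).ncard := by
        rw [Set.ncard_sdiff_singleton_of_mem (Set.mem_univ _), Set.ncard_univ]; omega
      obtain ⟨a, b, ha, hb, hab⟩ := (Set.one_lt_ncard_iff (Set.toFinite _)).mp h3
      refine hab (Subtype.ext (Subtype.ext (hXQ _ a.1.2 _ b.1.2 ((hker _).mp a.2) ((hker _).mp b.2)
        (fun h => ha.2 (Subtype.ext (Subtype.ext h))) (fun h => hb.2 (Subtype.ext (Subtype.ext h))))))
    have h60 : Nat.card (alternatingGroup (Fin 5)) = 60 := by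
      rw [nat_card_alternatingGroup, Nat.card_fin]; decide
    have hr : Nat.card f.range ≤ 60 := h60 ▸ Subgroup.card_le_of_le hrange
    have h := Subgroup.card_mul_index f.ker
    rw [Subgroup.index_ker] at h
    by_contra hge
    have hprod : Nat.card f.ker * Nat.card f.range = 120 := by nlinarith
    have hk : Nat.card f.ker = 2 := by nlinarith
    have hr' : f.range = alternatingGroup (Fin 5) :=
      Subgroup.eq_of_le_of_card_ge hrange (by rw [h60]; nlinarith)
    haveI : Nontrivial ↥f.ker := Finite.one_lt_card_iff_nontrivial.mp (by omega)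
    obtain ⟨⟨⟨q, hqX⟩, hqk⟩, hq1⟩ := exists_ne (1 : ↥f.ker)
    have hqQ : q ∈ H.Q := (hker _).mp hqk
    have hq : q ≠ 1 := fun h => hq1 (Subtype.ext (Subtype.ext h))
    have hq' : q ∈ H.S10 := ⟨hqQ, (H.sq q hqQ).resolve_right
      (fun e => hv'z (e ▸ (hmX (mul_mem hqX hqX)).1).symm), hq, fun e => hv'z (e ▸ (hmX hqX).1).symm⟩
    obtain ⟨i, b, rfl⟩ := H.exists_u hq'
    obtain ⟨σ, hσ, hσi⟩ : ∃ σ : Equiv.Perm (Fin 5), σ ∈ alternatingGroup (Fin 5) ∧ σ i ≠ i := by
      clear hqX hqk hq1 hqQ hq hq'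
      simp only [Equiv.Perm.mem_alternatingGroup]
      revert i; decide +kernel
    obtain ⟨⟨x, hx⟩, rfl⟩ : σ ∈ f.range := hr' ▸ hσ
    refine hσi (H.perm_eq (c := ⟨x, hx.2⟩) (b := false) ?_)
    have hconj : x * (H.u i * H.zb b) * x⁻¹ = H.u i * H.zb b := by
      refine hXQ _ (mul_mem (mul_mem hx hqX) (inv_mem hx)) _ hqX
        (H.norm x (H.mem_Cz.mp hx.2) _ hqQ) hqQ (fun h => hq (conj_eq_one_iff.mp h)) hq
    show x * H.u i * x⁻¹ = H.u i * H.zb false
    rw [show x * (H.u i * H.zb b) * x⁻¹ = (x * H.u i * x⁻¹) * (x * H.zb b * x⁻¹) by group,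
      (H.zb_comm (H.mem_Cz.mp hx.2) b).eq, mul_inv_cancel_right] at hconj
    rw [H.zb_false, mul_one]
    exact mul_right_cancel hconj
  -- the orbit of `v'` is too long
  have hsub : (fun c : ↥H.Cz => (c : G) * v' * (c : G)⁻¹) '' Set.univ ⊆
      {x | IsConj H.z x ∧ ¬ Commute x H.z} := by
    rintro _ ⟨c, -, rfl⟩
    refine ⟨hv'.trans (isConj_iff.mpr ⟨c, rfl⟩), fun h => hv'z ?_⟩
    refine (Commute.conj_iff (c : G)).mp ?_
    rwa [(H.mem_Cz.mp c.2).eq, mul_inv_cancel_right]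
  have h16 := Set.ncard_le_ncard hsub (Set.toFinite _)
  rw [hfar] at h16
  -- every fibre is a coset of `X`
  have hcount : 1920 ≤ 16 * Nat.card ↥X := by
    let _ := Fintype.ofFinite G
    have h := Finset.card_le_mul_card_image (f := fun c : ↥H.Cz => (c : G) * v' * (c : G)⁻¹)
      Finset.univ (Nat.card ↥X) ?_
    · rw [Finset.card_univ, ← Nat.card_eq_fintype_card, H.card_C] at h
      refine h.trans ?_
      rw [mul_comm]
      refine Nat.mul_le_mul_right _ ?_
      rwa [← Set.ncard_coe_finset, Finset.coe_image, Finset.coe_univ]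
    · intro y hy
      obtain ⟨c0, -, rfl⟩ := Finset.mem_image.mp hy
      rw [Nat.card_eq_fintype_card, ← Finset.card_univ]
      refine Finset.card_le_card_of_injOn (fun c => if h : ((c0 : G))⁻¹ * c ∈ X then ⟨_, h⟩ else 1)
        (fun _ _ => Finset.mem_univ _) ?_
      have hmem : ∀ c : ↥H.Cz, (c : G) * v' * (c : G)⁻¹ = (c0 : G) * v' * (c0 : G)⁻¹ →
          (c0 : G)⁻¹ * c ∈ X := by
        intro c hc
        refine Subgroup.mem_inf.mpr
          ⟨Subgroup.mem_centralizer_singleton_iff.mpr ?_, mul_mem (inv_mem c0.2) c.2⟩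
        calc (c0 : G)⁻¹ * c * v' = (c0 : G)⁻¹ * ((c : G) * v' * (c : G)⁻¹) * c := by group
          _ = _ := by rw [hc]; group
      intro c hc d hd e
      simp only [Finset.coe_filter, Finset.mem_univ, true_and, Set.mem_setOf_eq] at hc hd
      simp only [dif_pos (hmem c hc), dif_pos (hmem d hd), Subtype.mk.injEq] at e
      exact Subtype.ext (mul_left_cancel e)
  omega

theorem ncard_I : H.I.ncard = 15 := by
  classical
  have hkzI : H.kk H.z ∈ H.I := H.A_zc H.kk_zA fun h => H.z_ne (H.kk.injective (h.trans (map_one _).symm))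
  have hzI : H.z ∈ H.I := ⟨IsConj.refl _, H.tz.symm⟩
  by_cases hall : ∀ x ∈ H.I, Commute x H.z
  · exfalso
    have hI : H.I = (H.A : Set G) \ {1} := by
      ext x
      exact ⟨fun hx => ⟨H.I_commute_z hx (hall x hx), H.I_ne_one hx⟩, fun hx => H.A_zc hx.1 hx.2⟩
    have h3 : H.I.ncard = 3 := by
      rw [hI, Set.ncard_sdiff_singleton_of_mem (one_mem H.A), ← Nat.card_coe_set_eq]
      show Nat.card H.A - 1 = 3
      rw [H.card_A]
    have h1 := H.n2
    have h2 := H.card_G_eq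
    rw [h3] at h1
    rw [H.card_Ct, H.card_M, h3] at h2
    exact H.not_51840 (by omega)
  push Not at hall
  obtain ⟨x, hxI, hxz⟩ := hall
  have hinv : ∀ {w : ↥H.M}, AbelianInvCentralizer.IsInv w → orderOf (w : G) = 2 := fun hw => by
    rw [Subgroup.orderOf_coe]; exact AbelianInvCentralizer.isInv_iff.mp hw
  have hzinv : ∀ y (hy : y ∈ H.I), AbelianInvCentralizer.IsInv (⟨y, H.zc_mem_M hy.1 hy.2⟩ : ↥H.M) :=
    fun y hy => AbelianInvCentralizer.isInv_iff.mpr (by rw [Subgroup.orderOf_mk]; exact H.zc_order hy.1)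
  have hC : AbelianInvCentralizer.HasAbelianCent ↥H.M := fun w hw a b ha hb =>
    Subtype.ext (H.cent_M_inv w.2 (hinv hw) a.2 b.2 (congrArg Subtype.val ha)
      (congrArg Subtype.val hb)).1.eq
  have hS : AbelianInvCentralizer.HasSpread ↥H.M :=
    ⟨_, _, hzinv x hxI, hzinv H.z hzI, fun h => hxz (congrArg Subtype.val h)⟩
  have hF : AbelianInvCentralizer.HasFour ↥H.M :=
    ⟨_, _, hzinv _ hkzI, hzinv H.z hzI, fun h => H.kk_z_ne.1 (congrArg Subtype.val h),
      Subtype.ext (H.mem_T.mp (H.A_le_T H.kk_zA)).1.eq⟩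
  obtain ⟨F, _, _, f, _, hf, hFc, hodd, ⟨e⟩⟩ := AbelianInvCentralizer.exists_slTwo_prod hC hS hF
  have hcen : Nat.card (Subgroup.center ↥H.M) = 1 := by
    rw [Subgroup.card_eq_one, Subgroup.eq_bot_iff_forall]
    intro c hc
    have hcA : (c : G) ∈ H.A := H.cent_M_z c.2
      (congrArg Subtype.val (Subgroup.mem_center_iff.mp hc ⟨H.z, H.zM⟩).symm)
    by_contra hne
    have h2 : orderOf c = 2 := orderOf_eq_prime (Subtype.ext (by
      rw [SubmonoidClass.coe_pow, pow_two]; exact H.A_sq hcA)) hne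
    have hdvd : orderOf c ∣ Nat.card (Subgroup.center ↥H.M) := by
      rw [← Subgroup.orderOf_mk c hc]; exact orderOf_dvd_natCard _
    rw [h2] at hdvd
    exact hodd.not_two_dvd_nat hdvd
  have hM := Nat.card_congr e.toEquiv
  rw [Nat.card_prod, hcen, mul_one, H.card_M] at hM
  have hSL := Cfsg.Agent.Lib.LinGroup.card_SL_mul (F := F) 2 (by norm_num)
  rw [Fin.prod_univ_two, hFc, ← hM] at hSL
  simp only [Fin.val_zero, Fin.val_one, pow_zero, pow_one] at hSL
  -- `16` is the 2-part of `|C(t)|`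
  have hoddI : ¬ 2 ∣ H.I.ncard := by
    intro h2
    haveI : Fact (Nat.Prime 2) := ⟨Nat.prime_two⟩
    obtain ⟨S, hS⟩ := H.exists_sylow_T
    have hi := Subgroup.card_mul_index (S : Subgroup ↥H.Ct)
    rw [hS, Nat.card_congr (Subgroup.subgroupOfEquivOfLe H.T_le_Ct).toEquiv, H.card_T,
      H.card_Ct, H.card_M] at hi
    have := S.not_dvd_index
    rw [hS] at this
    exact this (by omega)
  have hq : 4 ≤ 2 ^ f := le_trans (by norm_num) (Nat.pow_le_pow_right (by norm_num : 0 < 2) hf)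
  by_cases hf2 : f = 2
  · subst hf2; norm_num at hSL; omega
  exfalso
  obtain ⟨g, rfl⟩ : ∃ g, f = g + 3 := ⟨f - 3, by omega⟩
  -- then 8 divides `|M|`
  set q := 2 ^ (g + 3) with hq'
  have h8 : 8 ∣ q := ⟨2 ^ g, by rw [hq', pow_add]; ring⟩
  have hqq : (q - 1) * (4 * H.I.ncard) = (q - 1) * ((q + 1) * ((q - 1) * q)) := by
    rw [hSL]
    obtain ⟨r, hr⟩ : ∃ r, q = r + 1 := ⟨q - 1, by omega⟩
    rw [hr, Nat.add_sub_cancel, show (r + 1) ^ 2 - 1 = r * (r + 2) by
      rw [Nat.sub_eq_iff_eq_add (Nat.one_le_pow _ _ (by omega))]; ring,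
      show (r + 1) ^ 2 - (r + 1) = r * (r + 1) by
      rw [Nat.sub_eq_iff_eq_add (Nat.le_self_pow (by norm_num) _)]; ring]
    ring
  have h4 := Nat.eq_of_mul_eq_mul_left (by omega) hqq
  obtain ⟨a, ha⟩ := h8
  exact hoddI ⟨(q + 1) * ((q - 1) * a), by
    rw [show (q + 1) * ((q - 1) * q) = 8 * ((q + 1) * ((q - 1) * a)) by rw [ha]; ring] at h4
    omega⟩

theorem card_M_eq : Nat.card H.M = 60 := by rw [H.card_M, H.ncard_I]

theorem card_Ct_eq : Nat.card H.Ct = 240 := by rw [H.card_Ct, H.card_M_eq]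

include H in
/-- The order of a group of Hall–Janko type. -/
theorem card_G : Nat.card G = 604800 := by
  have h1 := H.n2
  have h2 := H.card_G_eq
  rw [H.ncard_I] at h1
  rw [H.card_Ct_eq] at h2
  omega

end Cfsg.Agent.Lib.JankoTwoType.Hyp
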