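import Cfsg.Agent.Lib.JankoTwoType.Three

/-!
Groups of Hall–Janko type: a Sylow 7-subgroup is self-centralising with normaliser of order 42.
-/

set_option autoImplicit false
set_option linter.unusedSectionVars false
set_option linter.style.haveILetI false

namespace Cfsg.Agent.Lib.JankoTwoType

set_option maxRecDepth 4000 in
set_option synthInstance.maxSize 2000 in
theorem fixed_patterns : ∀ σ : Equiv.Perm (Fin 5), Equiv.Perm.sign σ = 1 → σ ^ 3 = 1 → σ ≠ 1 →
    (Finset.univ.filter fun w : Fin 5 → Bool =>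
      (∀ i, w (σ i) = w i) ∧
        xor (xor (xor (xor (w 0) (w 1)) (w 2)) (w 3)) (w 4) = false).card ≤ 4 ∧
      (∃ i, σ i ≠ i) ∧
      (Finset.univ.filter fun τ : Equiv.Perm (Fin 5) =>
        Equiv.Perm.sign τ = 1 ∧ σ * τ = τ * σ).card ≤ 3 := by decide +kernel

namespace Hyp

open scoped Pointwise

variable {G : Type*} [Group G] [Finite G] (H : Hyp G)

theorem h_perm : H.perm ⟨H.h, H.hE.1⟩ ^ 3 = 1 ∧ H.perm ⟨H.h, H.hE.1⟩ ≠ 1 := by
  refine ⟨?_, fun h => ?_⟩
  · rw [← map_pow, show (⟨H.h, H.hE.1⟩ : ↥H.Cz) ^ 3 = 1 from Subtype.ext H.h3, map_one]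
  · have hd := H.Q.orderOf_dvd_natCard (H.mem_Q_of_perm H.hE.1 h)
    rw [H.h_order, H.card] at hd
    norm_num at hd

theorem card_cent_hz :
    Nat.card ↥(Subgroup.centralizer ({H.h} : Set G) ⊓ H.Cz) ≤ 24 ∧
      8 ∣ Nat.card ↥(Subgroup.centralizer ({H.h} : Set G)) := by
  classical
  haveI : Fact (Nat.Prime 3) := ⟨Nat.prime_three⟩
  haveI : Fact (Nat.Prime 2) := ⟨Nat.prime_two⟩
  obtain ⟨hσ3, hσ1⟩ := H.h_perm
  set σ := H.perm ⟨H.h, H.hE.1⟩ with hσ
  obtain ⟨hpat, -, hcent⟩ := fixed_patterns σ (H.sign_perm _) hσ3 hσ1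
  set Y := Subgroup.centralizer ({H.h} : Set G) ⊓ H.Cz
  set D := H.Q ⊓ Subgroup.centralizer ({H.h} : Set G)
  have hDY : D ≤ Y := fun x hx => ⟨hx.2, H.mem_Cz.mpr (H.le x hx.1)⟩
  -- `|Q ∩ C(h)| ≤ 8`
  have hD8 : Nat.card ↥D ≤ 8 := by
    let S : Finset (Fin 5 → Bool) := Finset.univ.filter fun w : Fin 5 → Bool =>
      (∀ i, w (σ i) = w i) ∧
        xor (xor (xor (xor (w 0) (w 1)) (w 2)) (w 3)) (w 4) = false
    have hs : ∀ x : ↥D, H.sig (x : G) ∈ S := by
      intro x
      refine Finset.mem_filter.mpr ⟨Finset.mem_univ _, fun i => ?_, H.sig_parity x.2.1⟩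
      have h1 := H.sig_conj H.hE.1 x.2.1 i
      rwa [← hσ, show H.h * (x : G) * H.h⁻¹ = x by
        rw [← show (x : G) * H.h = H.h * x from Subgroup.mem_centralizer_singleton_iff.mp x.2.2,
          mul_inv_cancel_right]] at h1
    have hb : ∀ (x : ↥D), ∀ y : ↥D, H.sig (x : G) = H.sig (y : G) → ∃ b, (x : G) = (y : G) * H.zb b :=
      fun x y e => H.eq_of_sig x.2.1 y.2.1 e
    let F : ↥D → ↥S × Bool := fun x =>
      (⟨H.sig (x : G), hs x⟩,
        decide (∃ y : ↥D, H.sig (y : G) = H.sig (x : G) ∧ (x : G) = (y : G) * H.z ∧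
          ∀ y' : ↥D, H.sig (y' : G) = H.sig (x : G) → y' = y ∨ (y' : G) = (y : G) * H.z))
    -- each fibre of `sig` has at most two elements
    have h2 : ∀ w : Fin 5 → Bool,
        (Finset.univ.filter fun x : {x // x ∈ ((D : Set G).toFinite.toFinset)} =>
          H.sig (x : G) = w).card ≤ 2 := by
      intro w
      by_contra hlt
      obtain ⟨a, b, c, ha, hb', hc, hab, hac, hbc⟩ := Finset.two_lt_card_iff.mp (not_le.mp hlt)
      rw [Finset.mem_filter] at ha hb' hc
      have hm : ∀ v : {x // x ∈ ((D : Set G).toFinite.toFinset)}, (v : G) ∈ D := fun v =>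
        (Set.Finite.mem_toFinset _).mp v.2
      obtain ⟨β, hβ⟩ := hb ⟨a, hm a⟩ ⟨b, hm b⟩ (ha.2.trans hb'.2.symm)
      obtain ⟨γ, hγ⟩ := hb ⟨a, hm a⟩ ⟨c, hm c⟩ (ha.2.trans hc.2.symm)
      simp only at hβ hγ
      cases β
      · exact hab (Subtype.ext (by simpa using hβ))
      cases γ
      · exact hac (Subtype.ext (by simpa using hγ))
      exact hbc (Subtype.ext (mul_right_cancel (hβ.symm.trans hγ)))
    calc Nat.card ↥D = ((D : Set G).toFinite.toFinset).card := by
          rw [← Set.ncard_eq_toFinset_card, ← Nat.card_coe_set_eq]; rfl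
      _ = (Finset.univ : Finset {x // x ∈ ((D : Set G).toFinite.toFinset)}).card := by
          rw [Finset.card_univ, Fintype.card_coe]
      _ ≤ 2 * S.card := Finset.card_le_mul_card_image_of_maps_to
          (f := fun x : {x // x ∈ ((D : Set G).toFinite.toFinset)} => H.sig (x : G))
          (fun x _ => hs ⟨x, (Set.Finite.mem_toFinset _).mp x.2⟩) 2 (fun w _ => h2 w)
      _ ≤ 8 := by
          have : S.card ≤ 4 := hpat
          omega
  refine ⟨?_, ?_⟩
  · set f : ↥Y →* Equiv.Perm (Fin 5) :=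
      H.perm.comp (Subgroup.inclusion (show Y ≤ H.Cz from fun x hx => hx.2)) with hf
    have hker : Nat.card ↥f.ker ≤ 8 := by
      refine le_trans ?_ hD8
      refine Nat.card_le_card_of_injective (fun x : ↥f.ker =>
        (⟨((x : ↥Y) : G), H.mem_Q_of_perm (x : ↥Y).2.2 x.2, (x : ↥Y).2.1⟩ : ↥D)) ?_
      intro x y e
      exact Subtype.ext (Subtype.ext (congrArg Subtype.val e :))
    have hrange : Nat.card ↥f.range ≤ 3 := by
      refine le_trans ?_ hcent
      rw [← Fintype.card_coe, ← Nat.card_eq_fintype_card]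
      refine Nat.card_le_card_of_injective (fun x : ↥f.range =>
        (⟨(x : Equiv.Perm (Fin 5)), Finset.mem_filter.mpr ⟨Finset.mem_univ _, ?_⟩⟩ :
          {τ // τ ∈ Finset.univ.filter fun τ : Equiv.Perm (Fin 5) =>
            Equiv.Perm.sign τ = 1 ∧ σ * τ = τ * σ})) (fun x y e => ?_)
      swap
      · exact Subtype.ext (congrArg Subtype.val e :)
      obtain ⟨y, hy⟩ := x.2
      rw [← hy]
      refine ⟨H.sign_perm _, ?_⟩
      show H.perm _ * H.perm _ = H.perm _ * H.perm _
      rw [← map_mul, ← map_mul]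
      exact congrArg H.perm (Subtype.ext (Subgroup.mem_centralizer_singleton_iff.mp y.2.1).symm)
    have h := Subgroup.card_mul_index f.ker
    rw [Subgroup.index_ker] at h
    rw [← h]
    exact (Nat.mul_le_mul hker hrange).trans (by norm_num)
  · have hsub : D ≤ Subgroup.centralizer ({H.h} : Set G) := inf_le_right
    refine Dvd.dvd.trans ?_ (Subgroup.card_dvd_of_le hsub)
    have hmod := Tools.modEq_conj_fixed 3 H.h3 (H.Q : Set G)
      (fun x hx => H.norm H.h (H.mem_E.mp H.hE).1 x hx)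
    rw [show {x | x ∈ (H.Q : Set G) ∧ Commute H.h x} = (D : Set G) from Set.ext fun x =>
      ⟨fun hx => ⟨hx.1, Subgroup.mem_centralizer_singleton_iff.mpr hx.2.eq.symm⟩,
        fun hx => ⟨hx.1, (Subgroup.mem_centralizer_singleton_iff.mp hx.2).symm⟩⟩,
      H.ncard_Q, ← Nat.card_coe_set_eq] at hmod
    change 32 ≡ Nat.card ↥D [MOD 3] at hmod
    have hA : H.A ≤ D := fun a ha =>
      ⟨(H.mem_A.mp ha).1, Subgroup.mem_centralizer_singleton_iff.mpr (H.E_A H.hE ha).eq.symm⟩
    have h4 : 4 ≤ Nat.card ↥D := H.card_A ▸ Subgroup.card_le_of_le hA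
    obtain ⟨j, -, hj⟩ := (Nat.dvd_prime_pow Nat.prime_two).mp
      (show Nat.card ↥D ∣ 2 ^ 5 from (Subgroup.card_dvd_of_le inf_le_left).trans (by rw [H.card]; norm_num))
    rw [hj] at hmod hD8 h4 ⊢
    unfold Nat.ModEq at hmod
    have hj3 : j ≤ 3 := by
      by_contra h3
      have : 2 ^ 4 ≤ 2 ^ j := Nat.pow_le_pow_right (by norm_num) (by omega)
      omega
    interval_cases j <;> simp_all

include H in
theorem seven_cent_h : ¬ 7 ∣ Nat.card (Subgroup.centralizer ({H.h} : Set G)) := by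
  classical
  haveI : Fact (Nat.Prime 5) := ⟨by norm_num⟩
  intro h7
  obtain ⟨h24, h8⟩ := H.card_cent_hz
  set C := Subgroup.centralizer ({H.h} : Set G)
  obtain ⟨P, hkP, hhP⟩ := H.exists_P
  have h27 : 27 ∣ Nat.card ↥C := H.card_sylow_three P ▸ Subgroup.card_dvd_of_le (H.P_le_cent_h P hkP hhP)
  have h5 : 5 ∣ Nat.card ↥C := by
    obtain ⟨⟨m, hm⟩, hm5⟩ := exists_prime_orderOf_dvd_card' (G := ↥H.M) 5
      (by rw [H.card_M_eq]; norm_num)
    rw [Subgroup.orderOf_mk] at hm5
    rw [← hm5, ← Subgroup.orderOf_mk m (show m ∈ C from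
      Subgroup.mem_centralizer_singleton_iff.mpr (H.h_comm_M hm).symm.eq)]
    exact orderOf_dvd_natCard _
  have hbig : 7560 ∣ Nat.card ↥C := by
    have h1 : 8 * 27 ∣ Nat.card ↥C :=
      Nat.Coprime.mul_dvd_of_dvd_of_dvd (by norm_num : Nat.Coprime 8 27) h8 h27
    have h2 : 5 * 7 ∣ Nat.card ↥C :=
      Nat.Coprime.mul_dvd_of_dvd_of_dvd (by norm_num : Nat.Coprime 5 7) h5 h7
    exact Nat.Coprime.mul_dvd_of_dvd_of_dvd (by norm_num : Nat.Coprime (8 * 27) (5 * 7)) h1 h2
  -- the orbit of `z`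
  have ho : (Set.range fun c : ↥C => (c : G) * H.z * (c : G)⁻¹).ncard *
      Nat.card ↥(C ⊓ H.Cz) = Nat.card ↥C := by
    rw [← Tools.ncard_range_mul_card (fun c : ↥C => (c : G) * H.z * (c : G)⁻¹)
      (H.Cz.subgroupOf C) fun a b => ?_,
      show Nat.card ↥(H.Cz.subgroupOf C) = Nat.card ↥((H.Cz.subgroupOf C).map C.subtype) from
        (Subgroup.card_map_of_injective C.subtype_injective).symm,
      Subgroup.subgroupOf_map_subtype, inf_comm]
    rw [Subgroup.mem_subgroupOf, H.mem_Cz]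
    constructor
    · intro h
      show ((a : G)⁻¹ * b) * H.z = H.z * ((a : G)⁻¹ * b)
      calc (a : G)⁻¹ * b * H.z = (a : G)⁻¹ * ((b : G) * H.z * (b : G)⁻¹) * b := by group
        _ = (a : G)⁻¹ * ((a : G) * H.z * (a : G)⁻¹) * b := by rw [show _ = _ from h]
        _ = _ := by group
    · intro h
      have h' : ((a : G)⁻¹ * b) * H.z = H.z * ((a : G)⁻¹ * b) := h
      calc (a : G) * H.z * (a : G)⁻¹ = (a : G) * (H.z * ((a : G)⁻¹ * b)) * (b : G)⁻¹ := by group
        _ = (a : G) * ((a : G)⁻¹ * b * H.z) * (b : G)⁻¹ := by rw [h']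
        _ = _ := by group
  set cls : Set G := {y | IsConj H.z y}
  have hcls : cls.ncard = 315 := by
    have h := Cfsg.Agent.Lib.Involution.card_isConj_mul_card_centralizer H.z
    rw [H.card_C, H.card_G] at h
    rw [← Nat.card_coe_set_eq]
    show Nat.card {y : G // IsConj H.z y} = 315
    omega
  obtain ⟨hσ3, hσ1⟩ := H.h_perm
  obtain ⟨-, ⟨i, hi⟩, -⟩ := fixed_patterns _ (H.sign_perm _) hσ3 hσ1
  have hsub : (Set.range fun c : ↥C => (c : G) * H.z * (c : G)⁻¹) ⊆ cls \ {H.u i} := by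
    rintro _ ⟨c, rfl⟩
    refine ⟨isConj_iff.mpr ⟨c, rfl⟩, fun e => hi ?_⟩
    have hzc : Commute H.h ((c : G) * H.z * (c : G)⁻¹) := by
      have h1 : Commute H.h (c : G) :=
        (show Commute (c : G) H.h from Subgroup.mem_centralizer_singleton_iff.mp c.2).symm
      exact (h1.mul_right (H.mem_E.mp H.hE).1).mul_right h1.inv_right
    have e' : (c : G) * H.z * (c : G)⁻¹ = H.u i := e
    rw [e'] at hzc
    refine H.perm_eq (b := false) ?_
    show H.h * H.u i * H.h⁻¹ = H.u i * H.zb false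
    rw [hzc.eq, mul_inv_cancel_right, H.zb_false, mul_one]
  have hiu : H.u i ∈ cls := by
    have := H.zc_u i false
    rwa [H.zb_false, mul_one] at this
  have hlt := Set.ncard_le_ncard hsub (Set.toFinite _)
  rw [Set.ncard_sdiff_singleton_of_mem hiu, hcls] at hlt
  have hle : Nat.card ↥C ≤ 314 * 24 := ho ▸ Nat.mul_le_mul hlt h24
  have hge := Nat.le_of_dvd Nat.card_pos hbig
  omega

include H in
theorem no_seven_centralised {x d : G} (hd : orderOf d = 7) (hc : Commute d x) {q : ℕ}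
    (hq : q = 2 ∨ q = 3) (hx : orderOf x = q) : False := by
  have key : ∀ {y : G}, IsConj x y → 7 ∣ Nat.card (Subgroup.centralizer ({y} : Set G)) := by
    intro y hy
    obtain ⟨g, rfl⟩ := isConj_iff.mp hy
    have hm : g * d * g⁻¹ ∈ Subgroup.centralizer ({g * x * g⁻¹} : Set G) :=
      Subgroup.mem_centralizer_singleton_iff.mpr ((Commute.conj_iff g).mpr hc).eq
    have ho : orderOf (g * d * g⁻¹) = 7 := by
      rw [← hd]; exact orderOf_injective (MulAut.conj g).toMonoidHom (MulAut.conj g).injective d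
    rw [← ho, ← Subgroup.orderOf_mk _ hm]
    exact orderOf_dvd_natCard _
  rcases hq with rfl | rfl
  · rcases H.inv_classes hx with h | h
    · have := key h.symm
      rw [show Subgroup.centralizer ({H.z} : Set G) = H.Cz from rfl, H.card_C] at this
      norm_num at this
    · have := key h.symm
      rw [show Subgroup.centralizer ({H.t} : Set G) = H.Ct from rfl, H.card_Ct_eq] at this
      norm_num at this
  · obtain ⟨P, hkP, hhP⟩ := H.exists_P
    rcases H.three_classes P hkP hhP hx with h | h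
    · have := key h
      rcases H.card_cent_k with e | e <;> rw [e] at this <;> norm_num at this
    · exact H.seven_cent_h (key h)

include H in
/-- The Sylow 7-structure of a group of Hall–Janko type. -/
theorem seven_structure (D : Sylow 7 G) :
    Subgroup.centralizer ((D : Subgroup G) : Set G) = D ∧
      Nat.card (Subgroup.normalizer ((D : Subgroup G) : Set G)) = 42 ∧
      ¬ IsMulCommutative (Subgroup.normalizer ((D : Subgroup G) : Set G)) := by
  classical
  haveI : Fact (Nat.Prime 7) := ⟨by norm_num⟩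
  have hD : Nat.card (D : Subgroup G) = 7 := by
    rw [D.card_eq_multiplicity, H.card_G]
    rw [show (604800 : ℕ) = 7 ^ 1 * 86400 from rfl, Nat.factorization_mul (by norm_num) (by norm_num),
      Finsupp.add_apply, Nat.Prime.factorization_pow (by norm_num : Nat.Prime 7),
      Nat.factorization_eq_zero_of_not_dvd (by norm_num : ¬ 7 ∣ 86400)]
    simp
  haveI hcyc : IsCyclic ↥(D : Subgroup G) := isCyclic_of_prime_card hD
  obtain ⟨⟨d, hdD⟩, hd⟩ := exists_prime_orderOf_dvd_card' (G := ↥(D : Subgroup G)) 7 (dvd_of_eq hD.symm)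
  rw [Subgroup.orderOf_mk] at hd
  set C := Subgroup.centralizer ((D : Subgroup G) : Set G)
  set N := Subgroup.normalizer ((D : Subgroup G) : Set G)
  have hDC : (D : Subgroup G) ≤ C := by
    letI := hcyc.commGroup
    intro x hx
    exact Subgroup.mem_centralizer_iff.mpr fun y hy =>
      congrArg Subtype.val (mul_comm (⟨y, hy⟩ : ↥(D : Subgroup G)) ⟨x, hx⟩)
  have hCN : C ≤ N := fun x hx => Tools.mem_normalizer_of_conj fun y hy => by
    rwa [← Subgroup.mem_centralizer_iff.mp hx y hy, mul_inv_cancel_right]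
  have hno : ∀ q : ℕ, q.Prime → q ∣ Nat.card ↥C → q = 5 ∨ q = 7 := by
    intro q hq hdvd
    have hG : q ∣ 604800 := H.card_G ▸ hdvd.trans C.card_subgroup_dvd_card
    haveI := Fact.mk hq
    obtain ⟨⟨x, hxC⟩, hx⟩ := exists_prime_orderOf_dvd_card' (G := ↥C) q hdvd
    rw [Subgroup.orderOf_mk] at hx
    have hcd : Commute d x := Subgroup.mem_centralizer_iff.mp hxC d hdD
    have h1 : q ∣ 2 ^ 7 * (3 ^ 3 * (5 ^ 2 * 7)) := by simpa using hG
    rcases hq.dvd_mul.mp h1 with h | h
    · exact (H.no_seven_centralised hd hcd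
        (Or.inl ((Nat.prime_dvd_prime_iff_eq hq Nat.prime_two).mp (hq.dvd_of_dvd_pow h))) hx).elim
    rcases hq.dvd_mul.mp h with h | h
    · exact (H.no_seven_centralised hd hcd
        (Or.inr ((Nat.prime_dvd_prime_iff_eq hq Nat.prime_three).mp (hq.dvd_of_dvd_pow h))) hx).elim
    rcases hq.dvd_mul.mp h with h | h
    · exact Or.inl ((Nat.prime_dvd_prime_iff_eq hq (by norm_num)).mp (hq.dvd_of_dvd_pow h))
    · exact Or.inr ((Nat.prime_dvd_prime_iff_eq hq (by norm_num)).mp h)
  have hC7 : 7 ∣ Nat.card ↥C := hD ▸ Subgroup.card_dvd_of_le hDC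
  obtain ⟨c, hc⟩ := hC7
  have hc175 : c ∣ 25 := by
    have hdvd : Nat.card ↥C ∣ 7 * (3456 * 25) := by
      have := C.card_subgroup_dvd_card
      rwa [H.card_G] at this
    rw [hc] at hdvd
    have h1 : c ∣ 3456 * 25 := Nat.dvd_of_mul_dvd_mul_left (by norm_num) hdvd
    refine (Nat.Coprime.dvd_of_dvd_mul_left ?_ h1)
    refine Nat.coprime_of_dvd fun p hp hpc hp2 => ?_
    rcases hno p hp (hc ▸ hpc.trans (dvd_mul_left c 7)) with rfl | rfl <;> norm_num at hp2
  have hdvdN : ((C.subgroupOf N).index) ∣ 6 := by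
    have key := Subgroup.card_dvd_of_injective _
      (QuotientGroup.kerLift_injective (D : Subgroup G).normalizerMonoidHom)
    rw [← Subgroup.index_eq_card, Subgroup.normalizerMonoidHom_ker] at key
    rw [IsCyclic.card_mulAut, hD, Nat.totient_prime (by norm_num : Nat.Prime 7)] at key
    exact key
  have hN : Nat.card ↥N = 7 * c * (C.subgroupOf N).index := by
    rw [← hc, ← Subgroup.card_mul_index (C.subgroupOf N),
      Nat.card_congr (Subgroup.subgroupOfEquivOfLe hCN).toEquiv]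
  have hi := N.card_mul_index
  rw [H.card_G, show N.index = Nat.card (Sylow 7 G) from D.card_eq_index_normalizer.symm, hN] at hi
  have h1 := card_sylow_modEq_one 7 G
  unfold Nat.ModEq at h1
  set a := (C.subgroupOf N).index
  have hcases : c = 1 ∧ a = 6 := by
    have hc' : c ≤ 25 := Nat.le_of_dvd (by norm_num) hc175
    have ha' : a ≤ 6 := Nat.le_of_dvd (by norm_num) hdvdN
    interval_cases c <;> interval_cases a <;> omega
  obtain ⟨rfl, ha⟩ := hcases
  have hCD : C = D := (Subgroup.eq_of_le_of_card_ge hDC (by rw [hc, hD])).symm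
  have h42 : Nat.card ↥N = 42 := by rw [hN, ha]
  refine ⟨hCD, h42, fun hab => ?_⟩
  have hle : N ≤ C := fun x hx => Subgroup.mem_centralizer_iff.mpr fun y hy =>
    congrArg Subtype.val (hab.is_comm.comm (⟨y, hCN (hDC hy)⟩ : ↥N) ⟨x, hx⟩)
  have := Subgroup.card_le_of_le hle
  rw [h42, hCD, hD] at this
  omega

end Hyp

end Cfsg.Agent.Lib.JankoTwoType
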