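import Cfsg.Agent.Lib.JankoTwoType.CentThreeCard
import Cfsg.Agent.Lib.ExtraCube.Basic
import Cfsg.Agent.Lib.Fusion87.EssentialSmall

/-!
Groups of Hall–Janko type: Sylow 3-subgroups and the two classes of elements of order 3.
-/

set_option autoImplicit false
set_option linter.unusedSectionVars false
set_option linter.style.haveILetI false

namespace Cfsg.Agent.Lib.JankoTwoType

set_option maxRecDepth 4000 in
set_option synthInstance.maxSize 2000 in
theorem invert_three : ∀ σ : Equiv.Perm (Fin 5), Equiv.Perm.sign σ = 1 → σ ^ 3 = 1 → σ ≠ 1 →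
    ∃ τ : Equiv.Perm (Fin 5), Equiv.Perm.sign τ = 1 ∧ τ * τ = 1 ∧ τ * σ * τ = σ⁻¹ := by
  decide +kernel

namespace Hyp

open scoped Pointwise

variable {G : Type*} [Group G] [Finite G] (H : Hyp G)

include H in
theorem card_sylow_three (P : Sylow 3 G) : Nat.card (P : Subgroup G) = 27 := by
  haveI : Fact (Nat.Prime 3) := ⟨Nat.prime_three⟩
  rw [P.card_eq_multiplicity, H.card_G]
  rw [show (604800 : ℕ) = 3 ^ 3 * 22400 from rfl, Nat.factorization_mul (by norm_num) (by norm_num),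
    Finsupp.add_apply, Nat.Prime.factorization_pow (by norm_num : Nat.Prime 3),
    Nat.factorization_eq_zero_of_not_dvd (by norm_num : ¬ 3 ∣ 22400)]
  simp

theorem exists_P : ∃ P : Sylow 3 G, H.k ∈ (P : Subgroup G) ∧ H.h ∈ (P : Subgroup G) := by
  haveI : Fact (Nat.Prime 3) := ⟨Nat.prime_three⟩
  set R := Subgroup.centralizer ({H.k} : Set G) ⊓ Subgroup.centralizer ({H.h} : Set G)
  have hR : IsPGroup 3 ↥R := fun ⟨x, hx⟩ => ⟨1, Subtype.ext (by
    obtain ⟨a, b, rfl⟩ := H.cent_kh (Subgroup.mem_centralizer_singleton_iff.mp hx.1)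
      (Subgroup.mem_centralizer_singleton_iff.mp hx.2)
    show (H.k ^ (a : ℕ) * H.h ^ (b : ℕ)) ^ 3 ^ 1 = 1
    rw [pow_one, (((H.h_comm_M H.kM).symm.pow_left _).pow_right _).mul_pow, ← pow_mul, ← pow_mul,
      mul_comm, mul_comm (b : ℕ), pow_mul, pow_mul, H.k3, H.h3, one_pow, one_pow, one_mul])⟩
  obtain ⟨P, hP⟩ := IsPGroup.exists_le_sylow hR
  refine ⟨P, hP (Subgroup.mem_inf.mpr ⟨?_, ?_⟩), hP (Subgroup.mem_inf.mpr ⟨?_, ?_⟩)⟩ <;>
    rw [Subgroup.mem_centralizer_singleton_iff]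
  · exact (H.h_comm_M H.kM).symm.eq
  · exact (H.h_comm_M H.kM).eq

variable (P : Sylow 3 G) (hkP : H.k ∈ (P : Subgroup G)) (hhP : H.h ∈ (P : Subgroup G))
include hkP hhP

theorem k_not_central : ∃ x ∈ (P : Subgroup G), ¬ Commute x H.k := by
  by_contra h
  push Not at h
  have hd := Subgroup.card_dvd_of_le (show (P : Subgroup G) ≤ Subgroup.centralizer ({H.k} : Set G)
    from fun x hx => Subgroup.mem_centralizer_singleton_iff.mpr (h x hx).eq)
  rw [H.card_sylow_three P] at hd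
  rcases H.card_cent_k with e | e <;> rw [e] at hd <;> norm_num at hd

theorem P_nonabelian : ¬ IsMulCommutative ↥(P : Subgroup G) := by
  intro hab
  obtain ⟨x, hx, hxk⟩ := H.k_not_central P hkP hhP
  exact hxk (congrArg Subtype.val (hab.is_comm.comm (⟨x, hx⟩ : ↥(P : Subgroup G)) ⟨H.k, hkP⟩))

theorem comm_central {x : G} (hx : x ∈ (P : Subgroup G)) {w : G} (hw : w ∈ (P : Subgroup G)) :
    Commute (x * H.k * x⁻¹ * H.k⁻¹) w := by
  haveI : Fact (Nat.Prime 3) := ⟨Nat.prime_three⟩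
  obtain ⟨y, hy, hyk⟩ := H.k_not_central P hkP hhP
  have hle := Cfsg.Agent.Lib.ExtraCube.commutator_le_center (G := ↥(P : Subgroup G)) (p := 3)
    (by rw [H.card_sylow_three P]; rfl)
    ⟨⟨y, hy⟩, ⟨H.k, hkP⟩, fun e => hyk (congrArg Subtype.val e)⟩
  have h1 := hle (Subgroup.commutator_mem_commutator (Subgroup.mem_top (⟨x, hx⟩ : ↥(P : Subgroup G)))
    (Subgroup.mem_top (⟨H.k, hkP⟩ : ↥(P : Subgroup G))))
  exact (congrArg Subtype.val (Subgroup.mem_center_iff.mp h1 ⟨w, hw⟩)).symm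

theorem central_pow {c : G} (hc : ∀ w ∈ (P : Subgroup G), Commute c w) :
    ∃ b : Fin 3, c = H.h ^ (b : ℕ) := by
  obtain ⟨a, b, rfl⟩ := H.cent_kh (hc _ hkP) (hc _ hhP)
  refine ⟨b, ?_⟩
  suffices ha : a = 0 by simp [ha]
  by_contra ha
  -- then `k^a` commutes with a non-centraliser of `k`
  obtain ⟨x, hx, hxk⟩ := H.k_not_central P hkP hhP
  set e := x * H.k * x⁻¹ * H.k⁻¹ with he
  obtain ⟨a', b', he'⟩ := H.cent_kh (H.comm_central P hkP hhP hx hkP) (H.comm_central P hkP hhP hx hhP)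
  rw [← he] at he'
  have hek : x * H.k * x⁻¹ = H.k * e := by
    rw [show H.k * e = e * H.k from (H.comm_central P hkP hhP hx hkP).eq.symm, he]; group
  by_cases ha' : a' = 0
  · have heh : e = H.h ^ (b' : ℕ) := by rw [he', ha']; simp
    have hxh : Commute x H.h := by
      have hb0 : b' ≠ 0 := fun h0 => hxk (by
        rw [heh, h0] at hek; simp only [Fin.val_zero, pow_zero, mul_one] at hek
        exact mul_inv_eq_iff_eq_mul.mp hek)
      have h1 : Commute x (H.h ^ (b' : ℕ)) := heh ▸ (H.comm_central P hkP hhP hx hx).symm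
      have h2 := h1.pow_right (b' : ℕ)
      rwa [← pow_mul, show H.h ^ ((b' : ℕ) * b') = H.h by
        fin_cases b'
        · exact absurd rfl hb0
        · exact pow_one _
        · show H.h ^ (2 * 2) = H.h; rw [pow_succ, H.h3, one_mul]] at h2
    have h1 : Commute x (H.k ^ (a : ℕ)) := by
      have := (hc x hx).symm.mul_right (hxh.pow_right (b : ℕ)).inv_right
      rwa [mul_inv_cancel_right] at this
    refine hxk ?_
    have h2 := h1.pow_right (a : ℕ)
    rwa [← pow_mul, show H.k ^ ((a : ℕ) * a) = H.k by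
      fin_cases a
      · exact absurd rfl ha
      · exact pow_one _
      · show H.k ^ (2 * 2) = H.k; rw [pow_succ, H.k3, one_mul]] at h2
  · -- a conjugate of `k` is a power of `h`
    have hpow : ∀ j : ℕ, x ^ j * H.k * (x ^ j)⁻¹ = H.k * e ^ j := by
      intro j
      induction j with
      | zero => simp
      | succ j ih =>
        rw [pow_succ', show x * x ^ j * H.k * (x * x ^ j)⁻¹ = x * (x ^ j * H.k * (x ^ j)⁻¹) * x⁻¹ by
          group, ih, show x * (H.k * e ^ j) * x⁻¹ = (x * H.k * x⁻¹) * (x * e ^ j * x⁻¹) by group, hek,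
          ((H.comm_central P hkP hhP hx hx).pow_left j).symm.eq, mul_inv_cancel_right, mul_assoc,
          ← pow_succ']
    have hkh : Commute (H.k ^ (a' : ℕ)) (H.h ^ (b' : ℕ)) :=
      ((H.h_comm_M H.kM).symm.pow_left _).pow_right _
    obtain ⟨j, hj⟩ : ∃ j : ℕ, (1 + (a' : ℕ) * j) % 3 = 0 := by
      fin_cases a'
      · exact absurd rfl ha'
      · exact ⟨2, rfl⟩
      · exact ⟨1, rfl⟩
    refine H.not_k_h (g := x ^ j) (H.h_pow_z (((b' : ℕ) * j : ℕ) : ℤ)) ?_
    rw [hpow, he', hkh.mul_pow, ← pow_mul, ← pow_mul, zpow_natCast, ← mul_assoc, ← pow_succ',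
      ← pow_mod_orderOf H.k, H.k_order, show ((a' : ℕ) * j + 1) % 3 = 0 by rw [add_comm]; exact hj,
      pow_zero, one_mul]

theorem conj_k {x : G} (hx : x ∈ (P : Subgroup G)) :
    ∃ b : Fin 3, x * H.k * x⁻¹ = H.k * H.h ^ (b : ℕ) := by
  obtain ⟨b, hb⟩ := H.central_pow P hkP hhP (fun w hw => H.comm_central P hkP hhP hx hw)
  refine ⟨b, ?_⟩
  have hc : Commute (x * H.k * x⁻¹ * H.k⁻¹) H.k := H.comm_central P hkP hhP hx hkP
  rw [← hb, ← hc.eq]; group

theorem h_central {x : G} (hx : x ∈ (P : Subgroup G)) : Commute x H.h := by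
  obtain ⟨y, hy, hyk⟩ := H.k_not_central P hkP hhP
  obtain ⟨b, hb⟩ := H.central_pow P hkP hhP (fun w hw => H.comm_central P hkP hhP hy hw)
  have hb0 : b ≠ 0 := fun h0 => hyk (by
    rw [h0] at hb; simp only [Fin.val_zero, pow_zero] at hb
    exact mul_inv_eq_iff_eq_mul.mp (mul_inv_eq_one.mp hb))
  have h1 : Commute x (H.h ^ (b : ℕ)) := hb ▸ (H.comm_central P hkP hhP hy hx).symm
  have h2 := h1.pow_right (b : ℕ)
  rwa [← pow_mul, show H.h ^ ((b : ℕ) * b) = H.h by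
    fin_cases b
    · exact absurd rfl hb0
    · exact pow_one _
    · show H.h ^ (2 * 2) = H.h; rw [pow_succ, H.h3, one_mul]] at h2

theorem P_le_cent_h : (P : Subgroup G) ≤ Subgroup.centralizer ({H.h} : Set G) := fun _ hx =>
  Subgroup.mem_centralizer_singleton_iff.mpr (H.h_central P hkP hhP hx).eq

/-- `P` is the set of elements centralising `h` and acting trivially on `R/⟨h⟩`. -/
theorem mem_P {g : G} (hgh : Commute g H.h) {i : ℤ} (hgk : g * H.k * g⁻¹ = H.k * H.h ^ i) :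
    g ∈ (P : Subgroup G) := by
  -- every translation is realised in `P`
  obtain ⟨y, hy, hyk⟩ := H.k_not_central P hkP hhP
  obtain ⟨b, hb⟩ := H.conj_k P hkP hhP hy
  have hb0 : b ≠ 0 := fun h0 => hyk (by
    rw [h0] at hb; simp only [Fin.val_zero, pow_zero, mul_one] at hb
    exact mul_inv_eq_iff_eq_mul.mp hb)
  have hyh := H.h_central P hkP hhP hy
  have hpow : ∀ j : ℤ, y ^ j * H.k * (y ^ j)⁻¹ = H.k * H.h ^ (((b : ℕ) : ℤ) * j) := by
    intro j
    induction j using Int.induction_on with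
    | zero => simp
    | succ j ih =>
      rw [add_comm (j : ℤ) 1, zpow_add, zpow_one,
        show y * y ^ (j : ℤ) * H.k * (y * y ^ (j : ℤ))⁻¹ = y * (y ^ (j : ℤ) * H.k * (y ^ (j : ℤ))⁻¹) * y⁻¹ by
          group, ih, show y * (H.k * H.h ^ (((b : ℕ) : ℤ) * j)) * y⁻¹ =
            (y * H.k * y⁻¹) * (y * H.h ^ (((b : ℕ) : ℤ) * j) * y⁻¹) by group, hb,
        (hyh.zpow_right _).eq, mul_inv_cancel_right, mul_assoc, ← zpow_natCast, ← zpow_add]
      ring_nf
    | pred j ih =>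
      have e : y⁻¹ * H.k * y = H.k * H.h ^ (-((b : ℕ) : ℤ)) := by
        calc y⁻¹ * H.k * y = y⁻¹ * ((y * H.k * y⁻¹) * (H.h ^ (b : ℕ))⁻¹) * y := by
              rw [hb, mul_inv_cancel_right]
          _ = H.k * (y⁻¹ * (H.h ^ (b : ℕ))⁻¹ * y) := by group
          _ = _ := by
              rw [((hyh.pow_right (b : ℕ)).inv_right.inv_left).eq, inv_mul_cancel_right, zpow_neg,
                zpow_natCast]
      rw [sub_eq_add_neg, add_comm, zpow_add, zpow_neg, zpow_one,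
        show y⁻¹ * y ^ (-(j : ℤ)) * H.k * (y⁻¹ * y ^ (-(j : ℤ)))⁻¹ =
          y⁻¹ * (y ^ (-(j : ℤ)) * H.k * (y ^ (-(j : ℤ)))⁻¹) * y by group, ih,
        show y⁻¹ * (H.k * H.h ^ (((b : ℕ) : ℤ) * -(j : ℤ))) * y =
          (y⁻¹ * H.k * y) * (y⁻¹ * H.h ^ (((b : ℕ) : ℤ) * -(j : ℤ)) * y) by group, e,
        ((hyh.zpow_right _).inv_left).eq, inv_mul_cancel_right, mul_assoc, ← zpow_add]
      ring_nf
  set x := y ^ (((b : ℕ) : ℤ) * i) with hxdef
  have hx : x ∈ (P : Subgroup G) := zpow_mem hy _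
  have hxk : x * H.k * x⁻¹ = g * H.k * g⁻¹ := by
    rw [hgk, hxdef, hpow, ← mul_assoc, zpow_mul, show H.h ^ (((b : ℕ) : ℤ) * ((b : ℕ) : ℤ)) = H.h by
      rw [← Nat.cast_mul, zpow_natCast]
      fin_cases b
      · exact absurd rfl hb0
      · exact pow_one _
      · show H.h ^ (2 * 2) = H.h; rw [pow_succ, H.h3, one_mul]]
  have hxh : Commute x H.h := hyh.zpow_left _
  obtain ⟨a, c, e⟩ := H.cent_kh (x := x⁻¹ * g) (by
    show x⁻¹ * g * H.k = H.k * (x⁻¹ * g)
    calc x⁻¹ * g * H.k = x⁻¹ * (g * H.k * g⁻¹) * g := by group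
      _ = x⁻¹ * (x * H.k * x⁻¹) * g := by rw [hxk]
      _ = _ := by group) (hxh.inv_left.mul_left hgh)
  have hg : g = x * (H.k ^ (a : ℕ) * H.h ^ (c : ℕ)) := by rw [← e, mul_inv_cancel_left]
  rw [hg]
  exact mul_mem hx (mul_mem (pow_mem hkP _) (pow_mem hhP _))

theorem centralizer_P_le_self : Subgroup.centralizer ((P : Subgroup G) : Set G) ≤ P := fun c hc => by
  obtain ⟨b, hb⟩ := H.central_pow P hkP hhP (fun w hw =>
    (Subgroup.mem_centralizer_iff.mp hc w hw).symm)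
  rw [hb]; exact pow_mem hhP _

/-- An involution of `N(P)` inverting `k` and centralising `h`. -/
theorem exists_y : ∃ y ∈ Subgroup.normalizer ((P : Subgroup G) : Set G),
    orderOf y = 2 ∧ Commute y H.h ∧ y * H.k * y⁻¹ = H.k⁻¹ := by
  classical
  obtain ⟨e⟩ := H.M_alternating
  set k' : ↥H.M := ⟨H.k, H.kM⟩
  have hk3 : k' ^ 3 = 1 := Subtype.ext H.k3
  have hk1 : k' ≠ 1 := fun h => H.k_ne (congrArg Subtype.val h)
  obtain ⟨τ, hτ, hτ2, hτk⟩ := invert_three _ (Equiv.Perm.mem_alternatingGroup.mp (e k').2)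
    (by rw [← SubmonoidClass.coe_pow, ← map_pow, hk3, map_one]; rfl)
    (fun h => hk1 (e.injective ((Subtype.ext h : e k' = 1).trans (map_one e).symm)))
  set y : ↥H.M := e.symm ⟨τ, Equiv.Perm.mem_alternatingGroup.mpr hτ⟩
  have hy : y * k' * y⁻¹ = k'⁻¹ := by
    apply e.injective
    rw [map_mul, map_mul, map_inv, map_inv, e.apply_symm_apply]
    refine Subtype.ext ?_
    show τ * (e k' : Equiv.Perm (Fin 5)) * τ⁻¹ = (e k' : Equiv.Perm (Fin 5))⁻¹
    rw [inv_eq_of_mul_eq_one_right hτ2]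
    exact hτk
  have hyk : (y : G) * H.k * (y : G)⁻¹ = H.k⁻¹ := congrArg Subtype.val hy
  have hy2 : y * y = 1 := e.injective (by
    rw [map_mul, map_one, e.apply_symm_apply]; exact Subtype.ext hτ2)
  have hyh : Commute (y : G) H.h := (H.h_comm_M y.2).symm
  refine ⟨y, Tools.mem_normalizer_of_conj fun x hx => ?_, orderOf_eq_prime
    (by rw [pow_two]; exact congrArg Subtype.val hy2) (fun h1 => ?_), hyh, hyk⟩
  · obtain ⟨b, hb⟩ := H.conj_k P hkP hhP hx
    have hxh := H.h_central P hkP hhP hx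
    refine H.mem_P P hkP hhP ((hyh.mul_left hxh).mul_left hyh.inv_left)
      (i := -((b : ℕ) : ℤ)) ?_
    have hyk' : (y : G)⁻¹ * H.k * y = H.k⁻¹ := by
      rw [← inv_inv H.k]
      conv_lhs => rw [← hyk]
      group
    calc (y : G) * x * (y : G)⁻¹ * H.k * ((y : G) * x * (y : G)⁻¹)⁻¹
        = (y : G) * (x * ((y : G)⁻¹ * H.k * y) * x⁻¹) * (y : G)⁻¹ := by group
      _ = (y : G) * (x * H.k * x⁻¹)⁻¹ * (y : G)⁻¹ := by rw [hyk']; group
      _ = ((y : G) * (H.h ^ (b : ℕ))⁻¹ * (y : G)⁻¹) * ((y : G) * H.k * (y : G)⁻¹)⁻¹ := by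
          rw [hb]; group
      _ = H.h ^ (-((b : ℕ) : ℤ)) * H.k := by
          rw [((hyh.pow_right _).inv_right).eq, mul_inv_cancel_right, hyk, inv_inv, zpow_neg,
            zpow_natCast]
      _ = _ := ((H.h_comm_M H.kM).zpow_left _).eq
  · rw [h1, one_mul, inv_one, mul_one] at hyk
    have h2 : H.k ^ 2 = 1 := by rw [pow_two]; exact eq_inv_iff_mul_eq_one.mp hyk
    have h3 := orderOf_dvd_of_pow_eq_one h2
    rw [H.k_order] at h3
    norm_num at h3

omit hkP hhP in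
/-- An element of `C(z)` inverting `h`. -/
theorem exists_inv_h : ∃ c, Commute c H.z ∧ c * H.h * c⁻¹ = H.h⁻¹ := by
  classical
  haveI : Fact (Nat.Prime 3) := ⟨Nat.prime_three⟩
  have hhC : H.h ∈ H.Cz := H.hE.1
  set σ := H.perm ⟨H.h, hhC⟩ with hσ
  have hσ1 : σ ≠ 1 := fun h => by
    have hd := H.Q.orderOf_dvd_natCard (H.mem_Q_of_perm hhC h)
    rw [H.h_order, H.card] at hd
    norm_num at hd
  have hσ3 : σ ^ 3 = 1 := by
    rw [hσ, ← map_pow, show (⟨H.h, hhC⟩ : ↥H.Cz) ^ 3 = 1 from Subtype.ext H.h3, map_one]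
  obtain ⟨τ, hτ, hτ2, hτσ⟩ := invert_three σ (H.sign_perm _) hσ3 hσ1
  obtain ⟨c, hc, rfl⟩ := H.exists_lift hτ
  set K := (Subgroup.zpowers σ).comap H.perm with hK
  set h' : ↥H.Cz := ⟨H.h, hhC⟩
  set d : ↥H.Cz := ⟨c, hc⟩ * h' * (⟨c, hc⟩ : ↥H.Cz)⁻¹
  have hhK : h' ∈ K := Subgroup.mem_zpowers _
  have hcperm : H.perm (⟨c, hc⟩ : ↥H.Cz)⁻¹ = H.perm ⟨c, hc⟩ := by
    rw [map_inv]; exact inv_eq_of_mul_eq_one_right hτ2
  have hdp : H.perm d = σ⁻¹ := by
    rw [map_mul, map_mul, hcperm]; exact hτσ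
  have hdK : d ∈ K := by rw [hK, Subgroup.mem_comap, hdp]; exact inv_mem (Subgroup.mem_zpowers _)
  have hord : ∀ x : ↥K, orderOf (x : ↥H.Cz) = 3 → ∀ S : Sylow 3 ↥K, x ∈ (S : Subgroup ↥K) →
      (S : Subgroup ↥K) = Subgroup.zpowers x := by
    intro x hx S hxS
    refine (Subgroup.eq_of_le_of_card_ge (Subgroup.zpowers_le.mpr hxS) ?_).symm
    obtain ⟨n, hn⟩ := S.isPGroup'.exists_card_eq
    have hd : Nat.card (S : Subgroup ↥K) ∣ 1920 := by
      rw [← H.card_C]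
      exact (Subgroup.card_subgroup_dvd_card _).trans (Subgroup.card_subgroup_dvd_card _)
    rw [hn, Nat.card_zpowers, ← Subgroup.orderOf_coe, hx]
    rw [hn] at hd
    have hn1 : n ≤ 1 := by
      by_contra h2
      have := (pow_dvd_pow 3 (show 2 ≤ n by omega)).trans hd
      norm_num at this
    calc 3 ^ n ≤ 3 ^ 1 := Nat.pow_le_pow_right (by norm_num) hn1
      _ = 3 := pow_one 3
  have hho : orderOf h' = 3 := by rw [Subgroup.orderOf_mk]; exact H.h_order
  have hdo : orderOf d = 3 := hho ▸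
    orderOf_injective (MulAut.conj (⟨c, hc⟩ : ↥H.Cz)).toMonoidHom (MulAut.conj _).injective h'
  obtain ⟨S1, hS1⟩ : ∃ S : Sylow 3 ↥K, Subgroup.zpowers (⟨h', hhK⟩ : ↥K) ≤ S :=
    IsPGroup.exists_le_sylow (IsPGroup.of_card (n := 1) (by
      rw [Nat.card_zpowers, Subgroup.orderOf_mk, hho, pow_one]))
  obtain ⟨S2, hS2⟩ : ∃ S : Sylow 3 ↥K, Subgroup.zpowers (⟨d, hdK⟩ : ↥K) ≤ S :=
    IsPGroup.exists_le_sylow (IsPGroup.of_card (n := 1) (by
      rw [Nat.card_zpowers, Subgroup.orderOf_mk, hdo, pow_one]))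
  obtain ⟨j, hj⟩ := MulAction.exists_smul_eq ↥K S2 S1
  have hmem : j * ⟨d, hdK⟩ * j⁻¹ ∈ (S1 : Subgroup ↥K) := by
    rw [← hj, Sylow.coe_subgroup_smul]
    exact ⟨_, hS2 (Subgroup.mem_zpowers _), rfl⟩
  rw [hord ⟨h', hhK⟩ hho S1 (hS1 (Subgroup.mem_zpowers _))] at hmem
  obtain ⟨i, hi⟩ := hmem
  have hi' : h' ^ i = (j : ↥H.Cz) * d * (j : ↥H.Cz)⁻¹ := congrArg Subtype.val hi
  refine ⟨((j : ↥H.Cz) : G) * c, (H.mem_Cz.mp (j : ↥H.Cz).2).mul_left (H.mem_Cz.mp hc), ?_⟩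
  obtain ⟨l, hl⟩ := j.2
  have hperm := congrArg H.perm hi'
  rw [map_zpow, map_mul, map_mul, hdp, map_inv, show H.perm (j : ↥H.Cz) = σ ^ l from hl.symm,
    show σ ^ l * σ⁻¹ * (σ ^ l)⁻¹ = σ⁻¹ by group, ← hσ] at hperm
  have hi1 : (3 : ℤ) ∣ i + 1 := by
    have ho : orderOf σ = 3 := orderOf_eq_prime hσ3 hσ1
    rw [show (3 : ℤ) = (orderOf σ : ℤ) by rw [ho]; rfl, orderOf_dvd_iff_zpow_eq_one, zpow_add,
      zpow_one, hperm, inv_mul_cancel]
  have hh : H.h ^ i = H.h⁻¹ := by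
    rw [show (3 : ℤ) = (orderOf H.h : ℤ) by rw [H.h_order]; rfl, orderOf_dvd_iff_zpow_eq_one,
      zpow_add, zpow_one] at hi1
    exact eq_inv_of_mul_eq_one_left hi1
  have hfin : H.h ^ i = ((j : ↥H.Cz) : G) * (c * H.h * c⁻¹) * ((j : ↥H.Cz) : G)⁻¹ :=
    congrArg Subtype.val hi'
  rw [← hh, hfin]; group

theorem exists_inverter_h : ∃ n ∈ Subgroup.normalizer ((P : Subgroup G) : Set G),
    n * H.h * n⁻¹ = H.h⁻¹ := by
  haveI : Fact (Nat.Prime 3) := ⟨Nat.prime_three⟩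
  obtain ⟨w, -, hw⟩ := H.exists_inv_h
  have hle := H.P_le_cent_h P hkP hhP
  have hle' : ((w • P : Sylow 3 G) : Subgroup G) ≤ Subgroup.centralizer ({H.h} : Set G) := by
    rw [Sylow.coe_subgroup_smul]
    rintro _ ⟨x, hx, rfl⟩
    refine Subgroup.mem_centralizer_singleton_iff.mpr ?_
    have hc : Commute (w * x * w⁻¹) (w * H.h * w⁻¹) :=
      (Commute.conj_iff w).mpr (H.h_central P hkP hhP hx)
    rw [hw] at hc
    simpa [MulDistribMulAction.toMonoidHom] using hc.inv_right.eq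
  obtain ⟨c, hc⟩ := MulAction.exists_smul_eq ↥(Subgroup.centralizer ({H.h} : Set G))
    ((w • P).subtype hle') (P.subtype hle)
  have heq : ((c : G) * w) • P = P := by
    rw [mul_smul]
    apply Sylow.subtype_injective (hP := by
      rw [Sylow.coe_subgroup_smul]
      rintro _ ⟨x, hx, rfl⟩
      exact mul_mem (mul_mem c.2 (hle' hx)) (inv_mem c.2)) (hQ := hle)
    rw [← hc, Sylow.smul_subtype]
    rfl
  refine ⟨(c : G) * w, Sylow.smul_eq_iff_mem_normalizer.mp heq, ?_⟩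
  rw [show (c : G) * w * H.h * ((c : G) * w)⁻¹ = c * (w * H.h * w⁻¹) * (c : G)⁻¹ by group, hw]
  have hcm : Commute (c : G) H.h⁻¹ :=
    (show Commute (c : G) H.h from Subgroup.mem_centralizer_singleton_iff.mp c.2).inv_right
  rw [hcm.eq, mul_inv_cancel_right]

theorem conj_h_mem {n : G} (hn : n ∈ Subgroup.normalizer ((P : Subgroup G) : Set G)) :
    n * H.h * n⁻¹ = H.h ∨ n * H.h * n⁻¹ = H.h⁻¹ := by
  obtain ⟨b, hb⟩ := H.central_pow P hkP hhP (c := n * H.h * n⁻¹) (fun w hw => by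
    have hw' : n⁻¹ * w * n ∈ (P : Subgroup G) := by
      simpa using ((Subgroup.mem_normalizer_iff.mp (inv_mem hn)) w).mp hw
    have := (Commute.conj_iff n).mpr (H.h_central P hkP hhP hw').symm
    rwa [show n * (n⁻¹ * w * n) * n⁻¹ = w by group] at this)
  fin_cases b
  · exact absurd (conj_eq_one_iff.mp (hb.trans (pow_zero _))) H.h_ne
  · exact Or.inl (hb.trans (pow_one _))
  · refine Or.inr (hb.trans ?_)
    show H.h ^ 2 = H.h⁻¹
    exact eq_inv_of_mul_eq_one_left (by rw [← pow_succ]; exact H.h3)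

/-- The orbit map of `N(P)` on `P`. -/
theorem orbit_three {p : G} (hp : p ∈ (P : Subgroup G))
    (hpc : ¬ ∀ w ∈ (P : Subgroup G), Commute p w) :
    (Set.range fun n : ↥(Subgroup.normalizer ((P : Subgroup G) : Set G)) =>
      (n : G) * p * (n : G)⁻¹).ncard *
      Nat.card ↥(Subgroup.normalizer ((P : Subgroup G) : Set G) ⊓
        Subgroup.centralizer ({p} : Set G)) =
      Nat.card ↥(Subgroup.normalizer ((P : Subgroup G) : Set G)) ∧
    (Set.range fun n : ↥(Subgroup.normalizer ((P : Subgroup G) : Set G)) =>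
      (n : G) * p * (n : G)⁻¹) ⊆
        ((P : Subgroup G) : Set G) \ (Subgroup.zpowers H.h : Set G) ∧
    (((P : Subgroup G) : Set G) \ (Subgroup.zpowers H.h : Set G)).ncard = 24 := by
  set N := Subgroup.normalizer ((P : Subgroup G) : Set G)
  refine ⟨?_, ?_, ?_⟩
  · rw [← Tools.ncard_range_mul_card (fun n : ↥N => (n : G) * p * (n : G)⁻¹)
      ((Subgroup.centralizer ({p} : Set G)).subgroupOf N) fun a b => ?_,
      ← Subgroup.card_map_of_injective (f := N.subtype) N.subtype_injective,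
      Subgroup.subgroupOf_map_subtype, inf_comm]
    rw [Subgroup.mem_subgroupOf, Subgroup.mem_centralizer_singleton_iff]
    constructor
    · intro h
      show ((a : G)⁻¹ * b) * p = p * ((a : G)⁻¹ * b)
      calc (a : G)⁻¹ * b * p = (a : G)⁻¹ * ((b : G) * p * (b : G)⁻¹) * b := by group
        _ = (a : G)⁻¹ * ((a : G) * p * (a : G)⁻¹) * b := by rw [show _ = _ from h]
        _ = _ := by group
    · intro h
      have h' : ((a : G)⁻¹ * b) * p = p * ((a : G)⁻¹ * b) := h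
      calc (a : G) * p * (a : G)⁻¹ = (a : G) * (p * ((a : G)⁻¹ * b)) * (b : G)⁻¹ := by group
        _ = (a : G) * ((a : G)⁻¹ * b * p) * (b : G)⁻¹ := by rw [h']
        _ = _ := by group
  · rintro _ ⟨n, rfl⟩
    refine ⟨((Subgroup.mem_normalizer_iff.mp n.2) p).mp hp, fun ⟨i, hi⟩ => hpc fun w hw => ?_⟩
    have hw' : (n : G) * w * (n : G)⁻¹ ∈ (P : Subgroup G) :=
      ((Subgroup.mem_normalizer_iff.mp n.2) w).mp hw
    have := ((H.h_central P hkP hhP hw').zpow_right i).symm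
    rw [show H.h ^ i = (n : G) * p * (n : G)⁻¹ from hi] at this
    exact (Commute.conj_iff (n : G)).mp this
  · rw [Set.ncard_sdiff (by
      rintro _ ⟨i, rfl⟩; exact zpow_mem hhP i) (Set.toFinite _), ← Nat.card_coe_set_eq,
      ← Nat.card_coe_set_eq]
    show Nat.card (P : Subgroup G) - Nat.card (Subgroup.zpowers H.h) = 24
    rw [H.card_sylow_three P, Nat.card_zpowers, H.h_order]

theorem card_normalizer_three :
    Nat.card ↥(Subgroup.normalizer ((P : Subgroup G) : Set G)) = 216 := by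
  classical
  haveI : Fact (Nat.Prime 3) := ⟨Nat.prime_three⟩
  set N := Subgroup.normalizer ((P : Subgroup G) : Set G)
  obtain ⟨y, hyN, hy2, hyh, -⟩ := H.exists_y P hkP hhP
  obtain ⟨n, hnN, hnh⟩ := H.exists_inverter_h P hkP hhP
  have hne : H.h ≠ H.h⁻¹ := fun e => by
    have h2 : H.h ^ 2 = 1 := by rw [pow_two]; exact eq_inv_iff_mul_eq_one.mp e
    have h3 := orderOf_dvd_of_pow_eq_one h2
    rw [H.h_order] at h3
    norm_num at h3
  have hmk : ∀ (p : G) (a b : ↥N), ((a : G) * p * (a : G)⁻¹ = (b : G) * p * (b : G)⁻¹) ↔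
      (a⁻¹ * b : ↥N) ∈ (Subgroup.centralizer ({p} : Set G)).subgroupOf N := by
    intro p a b
    rw [Subgroup.mem_subgroupOf, Subgroup.mem_centralizer_singleton_iff]
    constructor
    · intro h
      show ((a : G)⁻¹ * b) * p = p * ((a : G)⁻¹ * b)
      calc (a : G)⁻¹ * b * p = (a : G)⁻¹ * ((b : G) * p * (b : G)⁻¹) * b := by group
        _ = (a : G)⁻¹ * ((a : G) * p * (a : G)⁻¹) * b := by rw [h]
        _ = _ := by group
    · intro h
      have h' : ((a : G)⁻¹ * b) * p = p * ((a : G)⁻¹ * b) := h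
      calc (a : G) * p * (a : G)⁻¹ = (a : G) * (p * ((a : G)⁻¹ * b)) * (b : G)⁻¹ := by group
        _ = (a : G) * ((a : G)⁻¹ * b * p) * (b : G)⁻¹ := by rw [h']
        _ = _ := by group
  have h2N : 4 ∣ Nat.card ↥N := by
    have h := Tools.ncard_range_mul_card (fun m : ↥N => (m : G) * H.h * (m : G)⁻¹)
      ((Subgroup.centralizer ({H.h} : Set G)).subgroupOf N) (fun a b => hmk _ a b)
    have hr : Set.range (fun m : ↥N => (m : G) * H.h * (m : G)⁻¹) = {H.h, H.h⁻¹} := by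
      ext x
      constructor
      · rintro ⟨m, rfl⟩; exact H.conj_h_mem P hkP hhP m.2
      · rintro (rfl | rfl)
        · exact ⟨1, by simp⟩
        · exact ⟨⟨n, hnN⟩, hnh⟩
    rw [hr, Set.ncard_pair hne] at h
    rw [← h, show (4 : ℕ) = 2 * 2 from rfl]
    refine Nat.mul_dvd_mul_left 2 ?_
    rw [← hy2, ← Subgroup.orderOf_mk y hyN, ← Subgroup.orderOf_mk (⟨y, hyN⟩ : ↥N)
      (show (⟨y, hyN⟩ : ↥N) ∈ (Subgroup.centralizer ({H.h} : Set G)).subgroupOf N from
        Subgroup.mem_centralizer_singleton_iff.mpr hyh.eq)]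
    exact orderOf_dvd_natCard _
  have hknc : ¬ ∀ w ∈ (P : Subgroup G), Commute H.k w := by
    obtain ⟨x, hx, hxk⟩ := H.k_not_central P hkP hhP
    exact fun h => hxk (h x hx).symm
  obtain ⟨ho, hsub, h24⟩ := H.orbit_three P hkP hhP hkP hknc
  set X := N ⊓ Subgroup.centralizer ({H.k} : Set G)
  have hX : Nat.card ↥X ≤ 18 := by
    have h := Tools.ncard_range_mul_card (fun m : ↥X => (m : G) * H.h * (m : G)⁻¹)
      ((Subgroup.centralizer ({H.h} : Set G)).subgroupOf X) (fun a b => by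
        rw [Subgroup.mem_subgroupOf]
        exact (hmk H.h ⟨a, a.2.1⟩ ⟨b, b.2.1⟩).trans Subgroup.mem_subgroupOf)
    have hr : (Set.range (fun m : ↥X => (m : G) * H.h * (m : G)⁻¹)).ncard ≤ 2 := by
      refine (Set.ncard_le_ncard (t := {H.h, H.h⁻¹}) ?_ (Set.toFinite _)).trans
        (le_of_eq (Set.ncard_pair hne))
      rintro _ ⟨m, rfl⟩
      exact H.conj_h_mem P hkP hhP m.2.1
    have hker : Nat.card ↥((Subgroup.centralizer ({H.h} : Set G)).subgroupOf X) ≤ 9 := by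
      have hc : ∀ x : ↥((Subgroup.centralizer ({H.h} : Set G)).subgroupOf X),
          ∃ p : Fin 3 × Fin 3, ((x : ↥X) : G) = H.k ^ (p.1 : ℕ) * H.h ^ (p.2 : ℕ) := fun x => by
        obtain ⟨a, b, e⟩ := H.cent_kh (Subgroup.mem_centralizer_singleton_iff.mp (x : ↥X).2.2)
          (Subgroup.mem_centralizer_singleton_iff.mp x.2)
        exact ⟨(a, b), e⟩
      choose g hg using hc
      refine (Nat.card_le_card_of_injective g ?_).trans (le_of_eq (by simp))
      intro x x' e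
      exact Subtype.ext (Subtype.ext (by rw [hg x, hg x', e]))
    rw [← h]
    exact (Nat.mul_le_mul hr hker).trans (by norm_num)
  have hle : Nat.card ↥N ≤ 432 := by
    rw [← ho]
    exact (Nat.mul_le_mul (h24 ▸ Set.ncard_le_ncard hsub (Set.toFinite _)) hX).trans (by norm_num)
  have h27 : 27 ∣ Nat.card ↥N := by
    rw [← H.card_sylow_three P]; exact Subgroup.card_dvd_of_le Subgroup.le_normalizer
  have hi := N.card_mul_index
  rw [H.card_G, show N.index = Nat.card (Sylow 3 G) from P.card_eq_index_normalizer.symm] at hi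
  have h1 := card_sylow_modEq_one 3 G
  unfold Nat.ModEq at h1
  obtain ⟨r, hr⟩ := h27
  rw [hr] at hi hle h2N ⊢
  have hr16 : r ≤ 16 := by omega
  interval_cases r <;> omega

theorem mem_M_class {x : G} (hx : x ∈ H.M) (h3 : orderOf x = 3) : IsConj x H.k := by
  classical
  haveI : Fact (Nat.Prime 3) := ⟨Nat.prime_three⟩
  have hcard : ∀ S : Sylow 3 ↥H.M, Nat.card (S : Subgroup ↥H.M) = 3 := fun S => by
    rw [S.card_eq_multiplicity, H.card_M_eq, show (60 : ℕ) = 3 ^ 1 * 20 from rfl,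
      Nat.factorization_mul (by norm_num) (by norm_num), Finsupp.add_apply,
      Nat.Prime.factorization_pow (by norm_num : Nat.Prime 3),
      Nat.factorization_eq_zero_of_not_dvd (by norm_num : ¬ 3 ∣ 20)]
    simp
  have key : ∀ w : G, ∀ hw : w ∈ H.M, orderOf w = 3 → ∃ S : Sylow 3 ↥H.M,
      Subgroup.zpowers (⟨w, hw⟩ : ↥H.M) = S := fun w hw ho => by
    obtain ⟨S, hS⟩ : ∃ S : Sylow 3 ↥H.M, Subgroup.zpowers (⟨w, hw⟩ : ↥H.M) ≤ S :=
      IsPGroup.exists_le_sylow (IsPGroup.of_card (n := 1) (by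
        rw [Nat.card_zpowers, Subgroup.orderOf_mk, ho, pow_one]))
    exact ⟨S, Subgroup.eq_of_le_of_card_ge hS (by rw [hcard, Nat.card_zpowers, Subgroup.orderOf_mk, ho])⟩
  obtain ⟨S1, h1⟩ := key x hx h3
  obtain ⟨S2, h2⟩ := key H.k H.kM H.k_order
  obtain ⟨g, hg⟩ := MulAction.exists_smul_eq ↥H.M S1 S2
  have hmem : g * ⟨x, hx⟩ * g⁻¹ ∈ Subgroup.zpowers (⟨H.k, H.kM⟩ : ↥H.M) := by
    rw [h2, ← hg, Sylow.coe_subgroup_smul]
    exact ⟨_, h1 ▸ Subgroup.mem_zpowers _, rfl⟩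
  obtain ⟨i, hi⟩ := hmem
  have hi' : H.k ^ i = (g : G) * x * (g : G)⁻¹ := congrArg Subtype.val hi
  have hc : IsConj x (H.k ^ i) := isConj_iff.mpr ⟨g, hi'.symm⟩
  obtain ⟨y, -, -, -, hy⟩ := H.exists_y P hkP hhP
  have hinv : IsConj H.k⁻¹ H.k := (isConj_iff.mpr ⟨y, hy⟩ : IsConj H.k H.k⁻¹).symm
  have hcases : H.k ^ i = 1 ∨ H.k ^ i = H.k ∨ H.k ^ i = H.k⁻¹ := by
    have h := zpow_mod_orderOf H.k i
    rw [H.k_order] at h
    rw [← h]
    rcases (show i % ((3 : ℕ) : ℤ) = 0 ∨ i % ((3 : ℕ) : ℤ) = 1 ∨ i % ((3 : ℕ) : ℤ) = 2 by omega) with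
      e | e | e <;> rw [e]
    · exact Or.inl (zpow_zero _)
    · exact Or.inr (Or.inl (zpow_one _))
    · refine Or.inr (Or.inr (eq_inv_of_mul_eq_one_left ?_))
      rw [show (2 : ℤ) = ((2 : ℕ) : ℤ) from rfl, zpow_natCast, ← pow_succ]
      exact H.k3
  rcases hcases with e | e | e
  · exfalso
    rw [hi', conj_eq_one_iff] at e
    rw [e, orderOf_one] at h3
    omega
  · exact e ▸ hc
  · exact (e ▸ hc).trans hinv

omit hkP hhP in
theorem mem_Cz_class {x : G} (hxz : Commute x H.z) (h3 : orderOf x = 3) : IsConj x H.h := by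
  classical
  haveI : Fact (Nat.Prime 3) := ⟨Nat.prime_three⟩
  have hcard : ∀ S : Sylow 3 ↥H.Cz, Nat.card (S : Subgroup ↥H.Cz) = 3 := fun S => by
    rw [S.card_eq_multiplicity, H.card_C, show (1920 : ℕ) = 3 ^ 1 * 640 from rfl,
      Nat.factorization_mul (by norm_num) (by norm_num), Finsupp.add_apply,
      Nat.Prime.factorization_pow (by norm_num : Nat.Prime 3),
      Nat.factorization_eq_zero_of_not_dvd (by norm_num : ¬ 3 ∣ 640)]
    simp
  have key : ∀ w : G, ∀ hw : w ∈ H.Cz, orderOf w = 3 → ∃ S : Sylow 3 ↥H.Cz,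
      Subgroup.zpowers (⟨w, hw⟩ : ↥H.Cz) = S := fun w hw ho => by
    obtain ⟨S, hS⟩ : ∃ S : Sylow 3 ↥H.Cz, Subgroup.zpowers (⟨w, hw⟩ : ↥H.Cz) ≤ S :=
      IsPGroup.exists_le_sylow (IsPGroup.of_card (n := 1) (by
        rw [Nat.card_zpowers, Subgroup.orderOf_mk, ho, pow_one]))
    exact ⟨S, Subgroup.eq_of_le_of_card_ge hS (by rw [hcard, Nat.card_zpowers, Subgroup.orderOf_mk, ho])⟩
  obtain ⟨S1, h1⟩ := key x (H.mem_Cz.mpr hxz) h3
  obtain ⟨S2, h2⟩ := key H.h H.hE.1 H.h_order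
  obtain ⟨g, hg⟩ := MulAction.exists_smul_eq ↥H.Cz S1 S2
  have hmem : g * ⟨x, H.mem_Cz.mpr hxz⟩ * g⁻¹ ∈ Subgroup.zpowers (⟨H.h, H.hE.1⟩ : ↥H.Cz) := by
    rw [h2, ← hg, Sylow.coe_subgroup_smul]
    exact ⟨_, h1 ▸ Subgroup.mem_zpowers _, rfl⟩
  obtain ⟨i, hi⟩ := hmem
  have hi' : H.h ^ i = (g : G) * x * (g : G)⁻¹ := congrArg Subtype.val hi
  have hc : IsConj x (H.h ^ i) := isConj_iff.mpr ⟨g, hi'.symm⟩
  obtain ⟨c, -, hc'⟩ := H.exists_inv_h
  have hinv : IsConj H.h⁻¹ H.h := (isConj_iff.mpr ⟨c, hc'⟩ : IsConj H.h H.h⁻¹).symm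
  have hcases : H.h ^ i = 1 ∨ H.h ^ i = H.h ∨ H.h ^ i = H.h⁻¹ := by
    have h := zpow_mod_orderOf H.h i
    rw [H.h_order] at h
    rw [← h]
    rcases (show i % ((3 : ℕ) : ℤ) = 0 ∨ i % ((3 : ℕ) : ℤ) = 1 ∨ i % ((3 : ℕ) : ℤ) = 2 by omega) with
      e | e | e <;> rw [e]
    · exact Or.inl (zpow_zero _)
    · exact Or.inr (Or.inl (zpow_one _))
    · refine Or.inr (Or.inr (eq_inv_of_mul_eq_one_left ?_))
      rw [show (2 : ℤ) = ((2 : ℕ) : ℤ) from rfl, zpow_natCast, ← pow_succ]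
      exact H.h3
  rcases hcases with e | e | e
  · exfalso
    rw [hi', conj_eq_one_iff] at e
    rw [e, orderOf_one] at h3
    omega
  · exact e ▸ hc
  · exact (e ▸ hc).trans hinv

theorem three_classes {c : G} (hc : orderOf c = 3) : IsConj c H.k ∨ IsConj c H.h := by
  classical
  haveI : Fact (Nat.Prime 3) := ⟨Nat.prime_three⟩
  haveI : Fact (Nat.Prime 2) := ⟨Nat.prime_two⟩
  obtain ⟨R, hR⟩ : ∃ R : Sylow 3 G, Subgroup.zpowers c ≤ (R : Subgroup G) :=
    IsPGroup.exists_le_sylow (IsPGroup.of_card (n := 1) (by rw [Nat.card_zpowers, hc, pow_one]))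
  obtain ⟨g, hg⟩ := MulAction.exists_smul_eq G R P
  set x := g * c * g⁻¹ with hx
  have hcx : IsConj c x := isConj_iff.mpr ⟨g, rfl⟩
  have hxP : x ∈ (P : Subgroup G) := by
    rw [← hg, Sylow.coe_subgroup_smul]; exact ⟨c, hR (Subgroup.mem_zpowers c), rfl⟩
  have hx3 : orderOf x = 3 := by
    rw [← hc]; exact orderOf_injective (MulAut.conj g).toMonoidHom (MulAut.conj g).injective c
  suffices IsConj x H.k ∨ IsConj x H.h from this.imp hcx.trans hcx.trans
  by_cases hcen : ∀ w ∈ (P : Subgroup G), Commute x w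
  · obtain ⟨b, hb⟩ := H.central_pow P hkP hhP hcen
    exact Or.inr (H.mem_Cz_class (hb ▸ (H.mem_E.mp H.hE).1.pow_left _) hx3)
  obtain ⟨ho, hsub, h24⟩ := H.orbit_three P hkP hhP hxP hcen
  rw [H.card_normalizer_three P hkP hhP] at ho
  set N := Subgroup.normalizer ((P : Subgroup G) : Set G)
  set O := Set.range fun n : ↥N => (n : G) * x * (n : G)⁻¹
  set st := N ⊓ Subgroup.centralizer ({x} : Set G)
  have hle : O.ncard ≤ 24 := h24 ▸ Set.ncard_le_ncard hsub (Set.toFinite _)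
  by_cases hfull : O.ncard = 24
  · left
    have heq : O = _ := Set.eq_of_subset_of_ncard_le hsub (by rw [hfull, h24])
    obtain ⟨x', hx', hxk⟩ := H.k_not_central P hkP hhP
    have hkO : H.k ∈ O := by
      rw [heq]
      refine ⟨hkP, fun ⟨i, hi⟩ => hxk ?_⟩
      rw [show H.k = H.h ^ i from hi.symm]
      exact (H.h_central P hkP hhP hx').zpow_right i
    obtain ⟨n, hn⟩ := hkO
    exact isConj_iff.mpr ⟨n, hn⟩
  have h27 : ¬ 3 ^ 3 ∣ Nat.card ↥st := by
    intro h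
    obtain ⟨S, hS⟩ := Sylow.exists_subgroup_card_pow_prime 3 h
    set S' := S.map st.subtype
    have hS' : Nat.card ↥S' = 27 := by
      rw [Subgroup.card_map_of_injective st.subtype_injective, hS]; rfl
    have hp : IsPGroup 3 ↥S' := IsPGroup.of_card (n := 3) (by rw [hS']; rfl)
    have hinf : S' ⊓ Subgroup.normalizer ((P : Subgroup G) : Set G) = S' ⊓ (P : Subgroup G) :=
      hp.inf_normalizer_sylow P
    rw [inf_eq_left.mpr (show S' ≤ Subgroup.normalizer ((P : Subgroup G) : Set G) from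
      (Subgroup.map_subtype_le _).trans inf_le_left)] at hinf
    have heq := Subgroup.eq_of_le_of_card_ge (show S' ≤ (P : Subgroup G) from
      hinf.le.trans inf_le_right) (by rw [hS', H.card_sylow_three P])
    refine hcen fun w hw => ?_
    exact (show Commute w x from Subgroup.mem_centralizer_singleton_iff.mp
      ((Subgroup.map_subtype_le S).trans inf_le_right (heq.symm ▸ hw : w ∈ S'))).symm
  have h2 : 2 ∣ Nat.card ↥st := by
    have hpos : 0 < O.ncard := (Set.ncard_pos (Set.toFinite _)).mpr ⟨_, 1, rfl⟩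
    interval_cases O.ncard <;> omega
  obtain ⟨⟨s, hs⟩, hs2⟩ := exists_prime_orderOf_dvd_card' (G := ↥st) 2 h2
  rw [Subgroup.orderOf_mk] at hs2
  have hsx : Commute x s := (show Commute s x from
    Subgroup.mem_centralizer_singleton_iff.mp (Subgroup.mem_inf.mp hs).2).symm
  rcases H.inv_classes hs2 with hz | ht
  · obtain ⟨d, hd⟩ := isConj_iff.mp hz.symm
    refine Or.inr ((isConj_iff.mpr ⟨d, rfl⟩ : IsConj x (d * x * d⁻¹)).trans
      (H.mem_Cz_class (hd ▸ (Commute.conj_iff d).mpr hsx) ?_))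
    rw [← hx3]; exact orderOf_injective (MulAut.conj d).toMonoidHom (MulAut.conj d).injective x
  · obtain ⟨d, hd⟩ := isConj_iff.mp ht.symm
    have hdo : orderOf (d * x * d⁻¹) = 3 := by
      rw [← hx3]; exact orderOf_injective (MulAut.conj d).toMonoidHom (MulAut.conj d).injective x
    refine Or.inl ((isConj_iff.mpr ⟨d, rfl⟩ : IsConj x (d * x * d⁻¹)).trans
      (H.mem_M_class P hkP hhP (H.mem_M_of_three hdo (hd ▸ (Commute.conj_iff d).mpr hsx)) hdo))

omit hkP hhP in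
include H in
/-- The Sylow 3-structure of a group of Hall–Janko type. -/
theorem three_structure (P : Sylow 3 G) :
    Cfsg.IsExtraspecial 3 (P : Subgroup G) ∧ Nat.card (P : Subgroup G) = 27 ∧
      Nat.card (Subgroup.normalizer ((P : Subgroup G) : Set G)) = 216 ∧
      ∃ a b : G, orderOf a = 3 ∧ orderOf b = 3 ∧ ¬ IsConj a b ∧
        ∀ c : G, orderOf c = 3 → IsConj c a ∨ IsConj c b := by
  haveI : Fact (Nat.Prime 3) := ⟨Nat.prime_three⟩
  obtain ⟨P0, hkP, hhP⟩ := H.exists_P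
  refine ⟨?_, H.card_sylow_three P, ?_, H.k, H.h, H.k_order, H.h_order, ?_,
    fun c hc => H.three_classes P0 hkP hhP hc⟩
  · refine Cfsg.Agent.Lib.Fusion87.isExtraspecial_of_card_cube (by rw [H.card_sylow_three P]; rfl)
      fun hab => H.P_nonabelian P0 hkP hhP ?_
    let e := Sylow.equiv P0 P
    exact ⟨⟨fun a b => e.injective (by rw [map_mul, map_mul]; exact hab.is_comm.comm _ _)⟩⟩
  · have h0 := H.card_normalizer_three P0 hkP hhP
    have hi := (Subgroup.normalizer ((P : Subgroup G) : Set G)).card_mul_index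
    have hi0 := (Subgroup.normalizer ((P0 : Subgroup G) : Set G)).card_mul_index
    rw [show (Subgroup.normalizer ((P : Subgroup G) : Set G)).index = Nat.card (Sylow 3 G) from
      P.card_eq_index_normalizer.symm] at hi
    rw [show (Subgroup.normalizer ((P0 : Subgroup G) : Set G)).index = Nat.card (Sylow 3 G) from
      P0.card_eq_index_normalizer.symm, ← hi, h0] at hi0
    exact (Nat.eq_of_mul_eq_mul_right Nat.card_pos hi0).symm
  · intro h
    obtain ⟨g, hg⟩ := isConj_iff.mp h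
    exact H.not_k_h (H.mem_E.mp H.hE).1 hg

end Hyp

end Cfsg.Agent.Lib.JankoTwoType
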